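/-
An involution of a simple group is an even permutation in every action.
-/
import Mathlib
import Cfsg.Agent.Lib.SmallGroups.Basic

set_option autoImplicit false
set_option linter.style.haveILetI false

namespace Cfsg.Agent.Lib.SmallGroups

variable {G : Type*} [Group G] [Finite G] [IsSimpleGroup G]

/-- The number of fixed points of an involution is congruent to the degree modulo 4. -/
theorem card_fixedBy_mod_four (hG : ¬ IsMulCommutative G) {X : Type*} [MulAction G X] [Finite X]
    {c : G} (hc : orderOf c = 2) :
    Nat.card (MulAction.fixedBy X c) % 4 = Nat.card X % 4 := by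
  classical
  haveI := Fintype.ofFinite X
  haveI : Fact (Nat.Prime 2) := ⟨Nat.prime_two⟩
  set σ := MulAction.toPermHom G X c with hσdef
  have hsign : Equiv.Perm.sign σ = 1 :=
    hom_commGroup_eq_one hG (Equiv.Perm.sign.comp (MulAction.toPermHom G X)) c
  have hpow : σ ^ 2 = 1 := by
    rw [hσdef, ← map_pow, orderOf_dvd_iff_pow_eq_one.mp (dvd_of_eq hc), map_one]
  have htype : ∀ n ∈ σ.cycleType, n = 2 := by
    intro n hn
    have h2 : n ∣ 2 := (Equiv.Perm.dvd_of_mem_cycleType hn).trans (orderOf_dvd_of_pow_eq_one hpow)
    have := Equiv.Perm.two_le_of_mem_cycleType hn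
    have := Nat.le_of_dvd two_pos h2
    omega
  have hrep := Multiset.eq_replicate_of_mem htype
  have hsum := σ.sum_cycleType
  rw [hrep, Multiset.sum_replicate, smul_eq_mul] at hsum
  rw [Equiv.Perm.sign_of_cycleType, hrep, Multiset.sum_replicate, Multiset.card_replicate,
    smul_eq_mul] at hsign
  have heven : Even (σ.cycleType.card * 2 + σ.cycleType.card) := by
    by_contra hodd
    rw [(Nat.not_even_iff_odd.mp hodd).neg_one_pow] at hsign
    exact absurd hsign (by decide)
  have hfix : Nat.card (MulAction.fixedBy X c) + σ.support.card = Nat.card X := by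
    have e : MulAction.fixedBy X c ≃ {x : X // ¬ x ∈ σ.support} :=
      Equiv.subtypeEquivRight fun x => by
        rw [MulAction.mem_fixedBy, Equiv.Perm.mem_support, not_not]
        rfl
    rw [Nat.card_congr e, Nat.card_eq_fintype_card, Fintype.card_subtype_compl, Fintype.card_coe,
      Nat.card_eq_fintype_card]
    have := Finset.card_le_univ σ.support
    omega
  obtain ⟨k, hk⟩ := heven
  omega

end Cfsg.Agent.Lib.SmallGroups
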