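import Mathlib
import Cfsg.Prelude.Def_LieExceptional
import Cfsg.Agent.Lib.SmallGroups.Basic

/-!
A simple group of order 360 with 36 Sylow 5-subgroups acts on its ten Sylow 3-subgroups as a
Zassenhaus group.
-/

set_option autoImplicit false
set_option linter.style.haveILetI false

namespace Cfsg.Agent.Lib.SmallGroups.Order360

open Subgroup MulAction Cfsg.Agent.Lib.SmallGroups
open scoped Pointwise

variable {G : Type*} [Group G] [Finite G] [IsSimpleGroup G]

theorem not_comm (h : Nat.card G = 360) : ¬ IsMulCommutative G :=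
  not_isMulCommutative_of_not_prime (by rw [h]; norm_num)

theorem five_lt_index (h : Nat.card G = 360) {H : Subgroup G} (hH : H ≠ ⊤) : 5 < H.index := by
  by_contra hle
  push Not at hle
  have hd := two_mul_card_dvd_factorial (not_comm h) hH
  rw [h] at hd
  interval_cases hi : H.index <;> norm_num [Nat.factorial] at hd

theorem card_le_sixty (h : Nat.card G = 360) {H : Subgroup G} (hH : H ≠ ⊤) : Nat.card H ≤ 60 := by
  have h1 := H.card_mul_index
  have h2 := five_lt_index h hH
  rw [h] at h1
  nlinarith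

theorem card_sylow_three (h : Nat.card G = 360) (P : Sylow 3 G) :
    Nat.card (P : Subgroup G) = 9 :=
  haveI : Fact (Nat.Prime 3) := ⟨Nat.prime_three⟩
  (card_sylow_eq P (k := 2) (m := 40) (by rw [h]; norm_num) (by norm_num)).trans (by norm_num)

theorem sylow_three_comm (h : Nat.card G = 360) (P : Sylow 3 G) {x y : G} (hx : x ∈ P)
    (hy : y ∈ P) : x * y = y * x := by
  haveI : Fact (Nat.Prime 3) := ⟨Nat.prime_three⟩
  haveI : IsMulCommutative (P : Subgroup G) :=
    IsPGroup.isMulCommutative_of_card_eq_prime_sq (p := 3) (by rw [card_sylow_three h P]; norm_num)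
  exact congrArg Subtype.val (mul_comm' (⟨x, hx⟩ : (P : Subgroup G)) ⟨y, hy⟩)

theorem sylow_three_number (h : Nat.card G = 360) : Nat.card (Sylow 3 G) = 10 := by
  haveI : Fact (Nat.Prime 3) := ⟨Nat.prime_three⟩
  have hG := not_comm h
  have hn := card_sylow_mem hG (p := 3) (k := 2) (m := 40) (by rw [h]; norm_num) (by norm_num)
    (by norm_num)
  rw [show (Nat.divisors 40).filter (fun d => d % 3 = 1 ∧ d ≠ 1) = {4, 10, 40} by decide +kernel] at hn
  simp only [Finset.mem_insert, Finset.mem_singleton] at hn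
  rcases hn with hn | hn | hn
  · have := two_mul_card_dvd_factorial_card_sylow hG (p := 3) (by rw [h]; norm_num)
    rw [hn, h] at this
    norm_num [Nat.factorial] at this
  · exact hn
  · exfalso
    have P : Sylow 3 G := default
    haveI : IsMulCommutative (P : Subgroup G) :=
      IsPGroup.isMulCommutative_of_card_eq_prime_sq (p := 3) (by rw [card_sylow_three h P]; norm_num)
    have h1 := card_normalizer_sylow_mul P
    rw [hn, h] at h1
    exact normalizer_ne_self_of_isMulCommutative hG (by rw [h]; norm_num) P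
      (eq_of_le_of_card_ge le_normalizer (by rw [card_sylow_three h P]; omega)).symm

theorem card_normalizer_three (h : Nat.card G = 360) (P : Sylow 3 G) :
    Nat.card (normalizer ((P : Subgroup G) : Set G)) = 36 := by
  haveI : Fact (Nat.Prime 3) := ⟨Nat.prime_three⟩
  have h1 := card_normalizer_sylow_mul P
  rw [sylow_three_number h, h] at h1
  omega

/-- With 36 Sylow 5-subgroups, elements of order 5 commute with no element of order 3. -/
theorem not_three_dvd_centralizer_five (h : Nat.card G = 360) (h5 : Nat.card (Sylow 5 G) = 36)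
    {x : G} (hx : orderOf x = 5) : ¬ 3 ∣ Nat.card (centralizer ({x} : Set G)) := by
  haveI : Fact (Nat.Prime 5) := ⟨by norm_num⟩
  have hp : IsPGroup 5 (zpowers x) :=
    IsPGroup.of_card (n := 1) (by rw [Nat.card_zpowers, hx, pow_one])
  obtain ⟨Q, hQ⟩ := hp.exists_le_sylow
  have hQ5 : Nat.card (Q : Subgroup G) = 5 :=
    (card_sylow_eq Q (k := 1) (m := 72) (by rw [h]; norm_num) (by norm_num)).trans (pow_one 5)
  have heq : zpowers x = (Q : Subgroup G) :=
    eq_of_le_of_card_ge hQ (by rw [hQ5, Nat.card_zpowers, hx])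
  have hle : centralizer ({x} : Set G) ≤ normalizer ((Q : Subgroup G) : Set G) := by
    rw [← heq]
    refine le_trans ?_ (centralizer_le_normalizer ((zpowers x : Subgroup G) : Set G))
    rw [zpowers_eq_closure, centralizer_closure]
  intro hd
  have h1 := card_normalizer_sylow_mul Q
  rw [h5, h] at h1
  have h2 := hd.trans (card_dvd_of_le hle)
  omega

/-- Distinct Sylow 3-subgroups meet trivially. -/
theorem sylow_three_inf (h : Nat.card G = 360) (h5 : Nat.card (Sylow 5 G) = 36) {P Q : Sylow 3 G}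
    (hne : P ≠ Q) {x : G} (hxP : x ∈ P) (hxQ : x ∈ Q) : x = 1 := by
  haveI : Fact (Nat.Prime 3) := ⟨Nat.prime_three⟩
  haveI : Fact (Nat.Prime 2) := ⟨Nat.prime_two⟩
  by_contra hx1
  have hG := not_comm h
  have hx3 : orderOf x = 3 := by
    have hdvd : orderOf x ∣ 3 ^ 2 := by
      have := Subgroup.orderOf_dvd_natCard (P : Subgroup G) hxP
      rwa [card_sylow_three h P] at this
    obtain ⟨k, hk, hxk⟩ := (Nat.dvd_prime_pow Nat.prime_three).mp hdvd
    interval_cases k
    · exact absurd (orderOf_eq_one_iff.mp (by simpa using hxk)) hx1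
    · simpa using hxk
    · refine absurd (Sylow.ext ?_) hne
      have key : ∀ R : Sylow 3 G, x ∈ R → zpowers x = (R : Subgroup G) := fun R hR =>
        eq_of_le_of_card_ge (zpowers_le.mpr hR) (by rw [card_sylow_three h R, Nat.card_zpowers, hxk]; norm_num)
      rw [← key P hxP, ← key Q hxQ]
  set C := centralizer ({x} : Set G) with hC
  have hPC : (P : Subgroup G) ≤ C := fun y hy =>
    mem_centralizer_singleton_iff.mpr (sylow_three_comm h P hy hxP)
  have hQC : (Q : Subgroup G) ≤ C := fun y hy =>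
    mem_centralizer_singleton_iff.mpr (sylow_three_comm h Q hy hxQ)
  have h9 : 9 ∣ Nat.card C := card_sylow_three h P ▸ card_dvd_of_le hPC
  have hle : Nat.card C ≤ 60 := card_le_sixty h (centralizer_ne_top hG hx1 : C ≠ ⊤)
  have hno5 : ¬ 5 ∣ Nat.card C := by
    intro hd
    haveI : Fact (Nat.Prime 5) := ⟨by norm_num⟩
    obtain ⟨y, hy⟩ := exists_prime_orderOf_dvd_card' (G := C) 5 hd
    have hy' : orderOf (y : G) = 5 := by rw [Subgroup.orderOf_coe, hy]
    refine not_three_dvd_centralizer_five h h5 hy' (hx3 ▸ Subgroup.orderOf_dvd_natCard _ ?_)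
    exact mem_centralizer_singleton_iff.mpr (mem_centralizer_singleton_iff.mp y.2).symm
  obtain ⟨j, hj⟩ := h9
  have hdvd : 9 * j ∣ 9 * 40 := hj ▸ (h ▸ C.card_subgroup_dvd_card : Nat.card C ∣ 360)
  have hj40 : j ∣ 40 := Nat.dvd_of_mul_dvd_mul_left (by norm_num) hdvd
  set S := P.subtype hPC with hS
  have hS9 : Nat.card (S : Subgroup C) = 9 := by
    rw [show (S : Subgroup C) = (P : Subgroup G).subgroupOf C from rfl,
      Nat.card_congr (subgroupOfEquivOfLe hPC).toEquiv, card_sylow_three h P]
  have hn1 : Nat.card (Sylow 3 C) ≠ 1 := by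
    intro h1
    haveI : Subsingleton (Sylow 3 C) := (Nat.card_eq_one_iff_unique.mp h1).1
    refine hne (Sylow.ext ?_)
    have heq : (P : Subgroup G).subgroupOf C = (Q : Subgroup G).subgroupOf C :=
      congrArg (fun R : Sylow 3 C => (R : Subgroup C)) (Subsingleton.elim S (Q.subtype hQC))
    have := congrArg (Subgroup.map C.subtype) heq
    rwa [map_subgroupOf_eq_of_le hPC, map_subgroupOf_eq_of_le hQC] at this
  have hNS := card_normalizer_sylow_mul S
  have hmod := card_sylow_modEq_one 3 C
  have hnd : Nat.card (Sylow 3 C) ∣ j := by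
    have h1 := S.card_dvd_index
    have h2 := (S : Subgroup C).card_mul_index
    rw [hS9, hj] at h2
    rwa [Nat.eq_of_mul_eq_mul_left (by norm_num : 0 < 9) h2] at h1
  have hj6 : j ≤ 6 := by omega
  have hj5 : ¬ 5 ∣ j := fun hd => hno5 (hj ▸ hd.mul_left 9)
  have hnle : Nat.card (Sylow 3 C) ≤ j := Nat.le_of_dvd (by
    rcases Nat.eq_zero_or_pos j with rfl | hp
    · simp at hj40
    · exact hp) hnd
  rw [Nat.ModEq] at hmod
  have hn4 : Nat.card (Sylow 3 C) = 4 ∧ j = 4 :=
    (by decide : ∀ j < 7, ∀ n < 7, (j ∣ 40 ∧ ¬ 5 ∣ j ∧ n ∣ j ∧ n % 3 = 1 % 3 ∧ n ≠ 1) →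
      n = 4 ∧ j = 4) j (Nat.lt_succ_of_le hj6) _ (Nat.lt_succ_of_le (hnle.trans hj6))
      ⟨hj40, hj5, hnd, hmod, hn1⟩
  obtain ⟨hn4, rfl⟩ := hn4
  rw [hn4, hj] at hNS
  haveI : IsMulCommutative (S : Subgroup C) :=
    IsPGroup.isMulCommutative_of_card_eq_prime_sq (p := 3) (by rw [hS9]; norm_num)
  have hNeq : normalizer ((S : Subgroup C) : Set C) = (S : Subgroup C) :=
    (eq_of_le_of_card_ge le_normalizer (by rw [hS9]; omega)).symm
  have hcomp := MonoidHom.ker_transferSylow_isComplement' S
    (hNeq.le.trans (Subgroup.le_centralizer (H := (S : Subgroup C))))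
  set K := (MonoidHom.transferSylow S (hNeq.le.trans (Subgroup.le_centralizer (H := (S : Subgroup C))))).ker
  have hK4 : Nat.card K = 4 := by
    have := hcomp.card_mul
    rw [hS9, hj] at this
    omega
  set V := K.map C.subtype with hV
  have hV4 : Nat.card V = 4 := by rw [hV, card_map_of_injective C.subtype_injective, hK4]
  have hCN : C ≤ normalizer (V : Set G) := by
    have := le_normalizer_map (H := K) C.subtype
    rwa [normalizer_eq_top_iff.mpr (MonoidHom.normal_ker _), ← MonoidHom.range_eq_map,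
      range_subtype] at this
  obtain ⟨R, hR⟩ := (IsPGroup.of_card (n := 2) (by rw [hV4]; norm_num) : IsPGroup 2 V).exists_le_sylow
  have hR8 : Nat.card (R : Subgroup G) = 8 :=
    (card_sylow_eq R (k := 3) (m := 45) (by rw [h]; norm_num) (by norm_num)).trans (by norm_num)
  have hidx : (V.subgroupOf (R : Subgroup G)).index = 2 := by
    have h1 := (V.subgroupOf (R : Subgroup G)).card_mul_index
    rw [Nat.card_congr (subgroupOfEquivOfLe hR).toEquiv, hV4, hR8] at h1
    omega
  have hRN : (R : Subgroup G) ≤ normalizer (V : Set G) := by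
    haveI := normal_of_index_eq_two hidx
    exact (normal_subgroupOf_iff_le_normalizer hR).mp inferInstance
  have h72 : 72 ∣ Nat.card (normalizer (V : Set G)) := by
    have h36 : 36 ∣ Nat.card (normalizer (V : Set G)) := (by rw [hj] : Nat.card C = 36) ▸ card_dvd_of_le hCN
    have h8 : 8 ∣ Nat.card (normalizer (V : Set G)) := hR8 ▸ card_dvd_of_le hRN
    omega
  have htop : normalizer (V : Set G) = ⊤ := by
    by_contra hne'
    have := card_le_sixty h hne'
    have := Nat.le_of_dvd Nat.card_pos h72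
    omega
  refine normalizer_ne_top ?_ ?_ htop
  · intro hb; rw [hb, card_bot] at hV4; omega
  · intro ht; rw [ht, card_top, h] at hV4; omega

/-- The orbit map of a Sylow 3-subgroup on the others is injective. -/
theorem smul_eq_imp (h : Nat.card G = 360) (h5 : Nat.card (Sylow 5 G) = 36) {A B : Sylow 3 G}
    (hne : A ≠ B) {u v : G} (hu : u ∈ A) (hv : v ∈ A) (heq : u • B = v • B) : u = v := by
  haveI : Fact (Nat.Prime 3) := ⟨Nat.prime_three⟩
  have hmem : v⁻¹ * u ∈ A := (A : Subgroup G).mul_mem ((A : Subgroup G).inv_mem hv) hu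
  have hfix : (v⁻¹ * u) • B = B := by rw [mul_smul, heq, inv_smul_smul]
  rw [Sylow.smul_eq_iff_mem_normalizer] at hfix
  have : v⁻¹ * u ∈ (A : Subgroup G) ⊓ normalizer ((B : Subgroup G) : Set G) := ⟨hmem, hfix⟩
  have e := A.2.inf_normalizer_sylow B
  replace this : v⁻¹ * u ∈ (A : Subgroup G) ⊓ (B : Subgroup G) := e ▸ this
  exact (inv_mul_eq_one.mp (sylow_three_inf h h5 hne hmem this.2)).symm

theorem smul_self_of_mem (A : Sylow 3 G) {u : G} (hu : u ∈ A) : u • A = A :=
  Sylow.smul_eq_iff_mem_normalizer.mpr (le_normalizer hu)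

/-- A Sylow 3-subgroup is regular on the others. -/
theorem exists_smul_eq_of_ne (h : Nat.card G = 360) (h5 : Nat.card (Sylow 5 G) = 36)
    {A B C : Sylow 3 G} (hB : B ≠ A) (hC : C ≠ A) : ∃ u ∈ A, u • B = C := by
  haveI : Fact (Nat.Prime 3) := ⟨Nat.prime_three⟩
  let f : ↥(A : Subgroup G) → {R : Sylow 3 G // R ≠ A} :=
    fun (u : ↥(A : Subgroup G)) => ⟨(u : G) • B, fun he => hB
    (smul_left_cancel (u : G) (he.trans (smul_self_of_mem A u.2).symm))⟩
  have hinj : Function.Injective f := fun u v he =>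
    Subtype.ext (smul_eq_imp h h5 hB.symm u.2 v.2 (congrArg Subtype.val he))
  have hcard : Nat.card {R : Sylow 3 G // R ≠ A} = 9 := by
    classical
    haveI := Fintype.ofFinite (Sylow 3 G)
    rw [Nat.card_eq_fintype_card, Fintype.card_subtype_compl, Fintype.card_subtype_eq,
      ← Nat.card_eq_fintype_card, sylow_three_number h]
  obtain ⟨u, hu⟩ := ((Nat.bijective_iff_injective_and_card f).mpr
    ⟨hinj, by rw [card_sylow_three h A, hcard]⟩).2 ⟨C, hC⟩
  exact ⟨u, u.2, congrArg Subtype.val hu⟩

theorem two_transitive (h : Nat.card G = 360) (h5 : Nat.card (Sylow 5 G) = 36) :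
    IsMultiplyPretransitive G (Sylow 3 G) 2 := by
  haveI : Fact (Nat.Prime 3) := ⟨Nat.prime_three⟩
  rw [is_two_pretransitive_iff]
  intro a b c d hab hcd
  obtain ⟨g, hg⟩ := exists_smul_eq G a c
  obtain ⟨u, hu, hud⟩ := exists_smul_eq_of_ne h h5 (A := c) (B := g • b) (C := d)
    (fun he => hab (smul_left_cancel g (hg.trans he.symm))) hcd.symm
  exact ⟨u * g, by rw [mul_smul, hg, smul_self_of_mem c hu], by rw [mul_smul, hud]⟩

theorem faithful (h : Nat.card G = 360) :
    Function.Injective (MulAction.toPermHom G (Sylow 3 G)) := by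
  haveI : Fact (Nat.Prime 3) := ⟨Nat.prime_three⟩
  rw [← MonoidHom.ker_eq_bot_iff]
  refine eq_bot_of_normal_of_ne_top (MonoidHom.normal_ker _) fun ht => ?_
  have P : Sylow 3 G := default
  have hN : normalizer ((P : Subgroup G) : Set G) = ⊤ := by
    rw [eq_top_iff]
    intro g _
    have hg : g ∈ (MulAction.toPermHom G (Sylow 3 G)).ker := ht ▸ mem_top g
    exact Sylow.smul_eq_iff_mem_normalizer.mp (DFunLike.congr_fun (MonoidHom.mem_ker.mp hg) P)
  exact normalizer_sylow_ne_top (not_comm h) (by rw [h]; norm_num) P hN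

/-- An involution fixing two Sylow 3-subgroups centralizes no nontrivial element of either. -/
theorem sq_stabilizer_three (h : Nat.card G = 360) (h5 : Nat.card (Sylow 5 G) = 36) {g u : G}
    {A B : Sylow 3 G} (hne : A ≠ B) (hA : g • A = A) (hB : g • B = B) (hu : u ∈ A) (hu1 : u ≠ 1)
    (hgu : g * u = u * g) (hg2 : g ^ 2 = 1) : g = 1 := by
  haveI : Fact (Nat.Prime 3) := ⟨Nat.prime_three⟩
  haveI : Fact (Nat.Prime 2) := ⟨Nat.prime_two⟩
  classical
  haveI := Fintype.ofFinite (Sylow 3 G)
  haveI := Fintype.ofFinite G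
  by_contra hg1
  set σ := MulAction.toPermHom G (Sylow 3 G) g with hσdef
  set F := (A : Subgroup G) ⊓ centralizer ({g} : Set G) with hF
  -- how `g` moves the other Sylow subgroups
  have hmove : ∀ v ∈ A, g • v • B = v • B ↔ v ∈ F := by
    intro v hv
    have hconj : g * v * g⁻¹ ∈ A :=
      (mem_normalizer_iff.mp (Sylow.smul_eq_iff_mem_normalizer.mp hA) v).mp hv
    have he : g • v • B = (g * v * g⁻¹) • B := by
      rw [mul_smul, mul_smul, inv_smul_eq_iff.mpr hB.symm]
    rw [he]
    constructor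
    · intro h'
      refine ⟨hv, mem_centralizer_singleton_iff.mpr ?_⟩
      exact (mul_inv_eq_iff_eq_mul.mp (smul_eq_imp h h5 hne hconj hv h')).symm
    · intro h'
      rw [← mem_centralizer_singleton_iff.mp h'.2, mul_inv_cancel_right]
  have huF : u ∈ F := ⟨hu, mem_centralizer_singleton_iff.mpr hgu.symm⟩
  have hFdvd : Nat.card F ∣ 3 ^ 2 :=
    (card_dvd_of_le inf_le_left).trans (by rw [card_sylow_three h A]; norm_num)
  obtain ⟨k, hk, hFk⟩ := (Nat.dvd_prime_pow Nat.prime_three).mp hFdvd
  interval_cases k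
  · refine hu1 ?_
    have hb := eq_bot_of_card_eq F (by simpa using hFk)
    exact mem_bot.mp (hb ▸ huF)
  · -- exactly six points are moved
    let s : Finset G := Finset.univ.filter (fun v => v ∈ A ∧ v ∉ F)
    have hs : σ.support = s.image (fun v => v • B) := by
      ext R
      simp only [Equiv.Perm.mem_support, Finset.mem_image, s, Finset.mem_filter, Finset.mem_univ,
        true_and, hσdef, MulAction.toPermHom_apply, MulAction.toPerm_apply]
      constructor
      · intro hR
        have hRA : R ≠ A := fun e => hR (e ▸ hA)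
        obtain ⟨v, hv, rfl⟩ := exists_smul_eq_of_ne h h5 hne.symm hRA
        exact ⟨v, ⟨hv, fun hF' => hR ((hmove v hv).mpr hF')⟩, rfl⟩
      · rintro ⟨v, ⟨hv, hvF⟩, rfl⟩ hR
        exact hvF ((hmove v hv).mp hR)
    have hcard : σ.support.card = 6 := by
      rw [hs, Finset.card_image_of_injOn fun v hv w hw e => smul_eq_imp h h5 hne
        (by simpa [s] using hv : v ∈ A ∧ v ∉ F).1 (by simpa [s] using hw : w ∈ A ∧ w ∉ F).1 e]
      have e1 : s = Finset.univ.filter (fun v => v ∈ A) \ Finset.univ.filter (fun v => v ∈ F) := by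
        ext v; simp [s]
      rw [e1, Finset.card_sdiff_of_subset (fun v hv => by
        simp only [Finset.mem_filter, Finset.mem_univ, true_and] at hv ⊢; exact hv.1),
        ← Fintype.card_subtype, ← Fintype.card_subtype,
        ← Nat.card_eq_fintype_card, ← Nat.card_eq_fintype_card,
        show Nat.card {v // v ∈ A} = 9 from card_sylow_three h A,
        show Nat.card {v // v ∈ F} = 3 from hFk.trans (pow_one 3)]
    have hσ1 : σ ≠ 1 := fun e => hg1 (faithful h (e.trans (map_one _).symm))
    have hσo : orderOf σ = 2 := orderOf_eq_prime (by rw [hσdef, ← map_pow, hg2, map_one]) hσ1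
    obtain ⟨m, hm⟩ := Equiv.Perm.cycleType_prime_order (σ := σ) (by rw [hσo]; exact Nat.prime_two)
    have hsum := Equiv.Perm.sum_cycleType σ
    rw [hm, hσo, Multiset.sum_replicate, hcard, smul_eq_mul] at hsum
    obtain rfl : m = 2 := by omega
    have hsign : Equiv.Perm.sign σ = 1 := by
      rw [hσdef]; exact sign_toPerm (not_comm h) (Sylow 3 G) g
    rw [Equiv.Perm.sign_of_cycleType, hm, hσo] at hsign
    exact absurd hsign (by decide)
  · have hle : (A : Subgroup G) ≤ F := by
      exact (eq_of_le_of_card_ge (inf_le_left : F ≤ A)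
        (by rw [hFk, card_sylow_three h A]; norm_num)).ge
    refine hg1 (faithful h (Equiv.ext fun R => ?_))
    rw [map_one]
    show g • R = R
    by_cases hRA : R = A
    · rw [hRA, hA]
    · obtain ⟨v, hv, rfl⟩ := exists_smul_eq_of_ne h h5 hne.symm hRA
      exact (hmove v hv).mpr (hle hv)

theorem card_stab_two (h : Nat.card G = 360) (h5 : Nat.card (Sylow 5 G) = 36) {A B : Sylow 3 G}
    (hne : A ≠ B) : Nat.card ↥(stabilizer G A ⊓ stabilizer G B) = 4 := by
  haveI : Fact (Nat.Prime 3) := ⟨Nat.prime_three⟩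
  have hA : Nat.card (stabilizer G A) = 36 := by
    rw [show stabilizer G A = normalizer ((A : Subgroup G) : Set G) from
      Sylow.stabilizer_eq_normalizer A, card_normalizer_three h A]
  have horb : orbit (stabilizer G A) B = {R | R ≠ A} := by
    ext R
    constructor
    · rintro ⟨g, rfl⟩ (he : (g : G) • B = A)
      exact hne (smul_left_cancel (g : G) ((g.2 : (g : G) • A = A).trans he.symm))
    · intro hR
      obtain ⟨u, hu, rfl⟩ := exists_smul_eq_of_ne h h5 hne.symm hR
      exact ⟨⟨u, smul_self_of_mem A hu⟩, rfl⟩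
  have hcard : Nat.card (orbit (stabilizer G A) B) * Nat.card (stabilizer (stabilizer G A) B) =
      Nat.card (stabilizer G A) := by
    rw [← Nat.card_prod]
    exact Nat.card_congr (MulAction.orbitProdStabilizerEquivGroup _ _)
  have hsub : stabilizer (stabilizer G A) B = (stabilizer G B).subgroupOf (stabilizer G A) := rfl
  have h9 : Nat.card (orbit (stabilizer G A) B) = 9 := by
    classical
    haveI := Fintype.ofFinite (Sylow 3 G)
    rw [horb]
    show Nat.card {R : Sylow 3 G // R ≠ A} = 9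
    rw [Nat.card_eq_fintype_card, Fintype.card_subtype_compl, Fintype.card_subtype_eq,
      ← Nat.card_eq_fintype_card, sylow_three_number h]
  rw [h9, hA, hsub, ← Subgroup.inf_subgroupOf_left,
    Nat.card_congr (subgroupOfEquivOfLe inf_le_left).toEquiv] at hcard
  omega

theorem fixes_three (h : Nat.card G = 360) (h5 : Nat.card (Sylow 5 G) = 36) (g : G)
    (A B C : Sylow 3 G) (hAB : A ≠ B) (hBC : B ≠ C) (hAC : A ≠ C) (hA : g • A = A) (hB : g • B = B)
    (hC : g • C = C) : g = 1 := by
  haveI : Fact (Nat.Prime 3) := ⟨Nat.prime_three⟩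
  obtain ⟨u, hu, huC⟩ := exists_smul_eq_of_ne h h5 hAB.symm hAC.symm
  have hu1 : u ≠ 1 := fun e => hBC (by rw [← huC, e, one_smul])
  have hconj : g * u * g⁻¹ ∈ A :=
    (mem_normalizer_iff.mp (Sylow.smul_eq_iff_mem_normalizer.mp hA) u).mp hu
  have hgu : g * u = u * g := by
    have : g * u * g⁻¹ = u := smul_eq_imp h h5 hAB hconj hu (by
      rw [mul_smul, mul_smul, inv_smul_eq_iff.mpr hB.symm, huC, hC])
    exact mul_inv_eq_iff_eq_mul.mp this
  have hg4 : g ^ 4 = 1 := by
    have := Subgroup.orderOf_dvd_natCard (stabilizer G A ⊓ stabilizer G B) (x := g) ⟨hA, hB⟩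
    rw [card_stab_two h h5 hAB] at this
    exact orderOf_dvd_iff_pow_eq_one.mp this
  have hg2 : g ^ 2 = 1 := sq_stabilizer_three h h5 hAB
    (by rw [pow_two, mul_smul, hA, hA]) (by rw [pow_two, mul_smul, hB, hB]) hu hu1
    (Commute.pow_left (hgu : Commute g u) 2).eq (by rw [← pow_mul]; exact hg4)
  exact sq_stabilizer_three h h5 hAB hA hB hu hu1 hgu hg2

/-- The action on the Sylow 3-subgroups is that of a Zassenhaus group. -/
theorem isZassenhaus (h : Nat.card G = 360) (h5 : Nat.card (Sylow 5 G) = 36) :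
    Cfsg.IsZassenhausGroup G (Sylow 3 G) := by
  haveI : Fact (Nat.Prime 3) := ⟨Nat.prime_three⟩
  haveI : Nontrivial (Sylow 3 G) :=
    Finite.one_lt_card_iff_nontrivial.mp (by rw [sylow_three_number h]; norm_num)
  obtain ⟨A, B, hne⟩ := exists_pair_ne (Sylow 3 G)
  refine ⟨⟨fun he => faithful h (Equiv.ext he)⟩, two_transitive h h5, fixes_three h h5, ?_, ?_⟩
  · have h4 := card_stab_two h h5 hne
    haveI : Nontrivial ↥(stabilizer G A ⊓ stabilizer G B) :=
      Finite.one_lt_card_iff_nontrivial.mp (by omega)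
    obtain ⟨⟨g, hgA, hgB⟩, hg1⟩ := exists_ne (1 : ↥(stabilizer G A ⊓ stabilizer G B))
    exact ⟨g, fun e => hg1 (Subtype.ext e), A, B, hne, hgA, hgB⟩
  · intro N hN hpre
    refine ⟨A, fun hbot => ?_⟩
    rcases hN.eq_bot_or_eq_top with rfl | rfl
    · obtain ⟨n, hn⟩ := MulAction.exists_smul_eq ↥(⊥ : Subgroup G) A B
      exact hne (by rw [← hn, Subgroup.smul_def, Subgroup.mem_bot.mp n.2, one_smul])
    · obtain ⟨u, hu, hu1⟩ : ∃ u ∈ A, u ≠ (1 : G) := by
        haveI : Nontrivial (A : Subgroup G) :=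
          Finite.one_lt_card_iff_nontrivial.mp (by rw [card_sylow_three h A]; norm_num)
        obtain ⟨⟨u, hu⟩, hne1⟩ := exists_ne (1 : (A : Subgroup G))
        exact ⟨u, hu, fun e => hne1 (Subtype.ext e)⟩
      have hmem : (⟨u, mem_top u⟩ : (⊤ : Subgroup G)) ∈ stabilizer (⊤ : Subgroup G) A :=
        smul_self_of_mem A hu
      rw [hbot, mem_bot] at hmem
      exact hu1 (congrArg Subtype.val hmem)

end Cfsg.Agent.Lib.SmallGroups.Order360
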