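/-
Sizes of conjugacy classes as subtypes.
-/
import Mathlib

set_option autoImplicit false

namespace Cfsg.Agent.Lib.SmallGroups

open Subgroup

variable {G : Type*} [Group G]

/-- The conjugates of `g` are indexed by the cosets of its centralizer. -/
theorem card_isConj_eq_index (g : G) :
    Nat.card {x : G // IsConj g x} = (centralizer ({g} : Set G)).index := by
  have h1 := Nat.card_congr (MulAction.orbitEquivQuotientStabilizer (ConjAct G) g)
  have h2 : (MulAction.orbit (ConjAct G) g : Set G) = {x : G | IsConj g x} := by
    ext x
    rw [Set.mem_setOf_eq, ConjAct.mem_orbit_conjAct, isConj_comm]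
  have h3 : Nat.card (MulAction.orbit (ConjAct G) g) = Nat.card {x : G // IsConj g x} :=
    Nat.card_congr (Equiv.setCongr h2)
  rw [← h3, h1, centralizer_eq_comap_stabilizer]
  exact (index_comap_of_surjective (f := ConjAct.toConjAct.toMonoidHom)
    (MulAction.stabilizer (ConjAct G) g) ConjAct.toConjAct.surjective).symm

theorem card_isConj_mul_card_centralizer (g : G) :
    Nat.card {x : G // IsConj g x} * Nat.card (centralizer ({g} : Set G)) = Nat.card G := by
  rw [card_isConj_eq_index, mul_comm, card_mul_index]

end Cfsg.Agent.Lib.SmallGroups
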