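/-
Tools to show by element counting that all centralizers of involutions are elementary abelian
2-groups, and a consequence of transfer for abelian Sylow subgroups.
-/
import Mathlib
import Cfsg.Agent.Lib.SmallGroups.Basic
import Cfsg.Agent.Lib.SmallGroups.PrimeSylow
import Cfsg.Agent.Lib.SmallGroups.Conj

set_option autoImplicit false
set_option linter.style.haveILetI false

namespace Cfsg.Agent.Lib.SmallGroups

open Subgroup
open scoped Pointwise IsMulCommutative

variable {G : Type*} [Group G] [Finite G]

/-- If no element of odd prime order commutes with the involution `t`, then `C(t)` is a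
2-group. -/
theorem isPGroup_centralizer_of_odd
    (h : ∀ y : G, (orderOf y).Prime → orderOf y ≠ 2 →
      Odd (Nat.card (centralizer ({y} : Set G)))) {t : G} (ht : orderOf t = 2) :
    IsPGroup 2 (centralizer ({t} : Set G)) := by
  haveI : Fact (Nat.Prime 2) := ⟨Nat.prime_two⟩
  have h0 : Nat.card (centralizer ({t} : Set G)) ≠ 0 := Nat.card_pos.ne'
  refine IsPGroup.of_card (Nat.eq_prime_pow_of_unique_prime_dvd h0 fun {d} hd hdvd => ?_)
  by_contra hne
  haveI : Fact d.Prime := ⟨hd⟩
  obtain ⟨⟨y, hy⟩, hy'⟩ := exists_prime_orderOf_dvd_card' (G := centralizer ({t} : Set G)) d hdvd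
  rw [Subgroup.orderOf_mk] at hy'
  have htC : t ∈ centralizer ({y} : Set G) :=
    mem_centralizer_singleton_iff.mpr (mem_centralizer_singleton_iff.mp hy).symm
  have h2 := orderOf_dvd_natCard (⟨t, htC⟩ : centralizer ({y} : Set G))
  rw [Subgroup.orderOf_mk, ht] at h2
  exact Nat.not_even_iff_odd.mpr (h y (hy' ▸ hd) (by omega)) (even_iff_two_dvd.mpr h2)

/-- If there are at most `|G| / |T|` elements of even order and centralizers of involutions are
2-groups, then the latter are elementary abelian. -/
theorem elemCentralizers_of_count (T : Sylow 2 G) (hT : 2 ∣ Nat.card G)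
    (hC : ∀ t : G, orderOf t = 2 → IsPGroup 2 (centralizer ({t} : Set G)))
    (hE : Nat.card {g : G // Even (orderOf g)} * Nat.card (T : Subgroup G) ≤ Nat.card G)
    {t : G} (ht : orderOf t = 2) :
    IsMulCommutative (centralizer ({t} : Set G)) ∧
      ∀ c ∈ centralizer ({t} : Set G), c ^ 2 = 1 := by
  haveI : Fact (Nat.Prime 2) := ⟨Nat.prime_two⟩
  -- a central involution of `T`
  haveI : Nontrivial (T : Subgroup G) := by
    rw [nontrivial_iff_ne_bot]
    exact T.ne_bot_of_dvd_card hT
  haveI := T.2.center_nontrivial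
  obtain ⟨n, hn, hcard⟩ := (T.2.to_subgroup (center (T : Subgroup G))).nontrivial_iff_card.1
    inferInstance
  obtain ⟨z, hz⟩ := exists_prime_orderOf_dvd_card' (G := center (T : Subgroup G)) 2
    (hcard ▸ dvd_pow_self 2 (by omega))
  have hzG : orderOf ((z.1 : G)) = 2 := by rw [Subgroup.orderOf_coe, Subgroup.orderOf_coe, hz]
  have hle : (T : Subgroup G) ≤ centralizer ({(z.1 : G)} : Set G) := fun a ha =>
    mem_centralizer_singleton_iff.2
      (congrArg Subtype.val (Subgroup.mem_center_iff.1 z.2 ⟨a, ha⟩))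
  have heq := T.is_maximal' (hC _ hzG) hle
  -- its class is the set of all elements of even order
  have hcl := card_isConj_mul_card_centralizer (z.1 : G)
  rw [heq] at hcl
  let f : {x : G // IsConj (z.1 : G) x} → {g : G // Even (orderOf g)} := fun x => ⟨x.1, by
    obtain ⟨c, hc⟩ := isConj_iff.mp x.2
    rw [← hc, ← MulAut.conj_apply, MulEquiv.orderOf_eq, hzG]
    exact even_two⟩
  have hf : Function.Bijective f := by
    haveI := Fintype.ofFinite {g : G // Even (orderOf g)}
    have hinj : Function.Injective f := fun a b h => Subtype.ext (congrArg Subtype.val h :)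
    refine (Nat.bijective_iff_injective_and_card f).mpr ⟨hinj, le_antisymm
      (Nat.card_le_card_of_injective f hinj) (Nat.le_of_mul_le_mul_right (c := Nat.card (T : Subgroup G)) ?_ Nat.card_pos)⟩
    rw [hcl]; exact hE
  have key : ∀ c : G, Even (orderOf c) → c ^ 2 = 1 := by
    intro c hc
    obtain ⟨⟨x, hx⟩, hxc⟩ := hf.2 ⟨c, hc⟩
    have hxc' : x = c := congrArg Subtype.val hxc
    obtain ⟨d, hd⟩ := isConj_iff.mp hx
    rw [← hxc', ← hd, conj_pow, orderOf_dvd_iff_pow_eq_one.mp (dvd_of_eq hzG), mul_one,
      mul_inv_cancel]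
  have hsq : ∀ c ∈ centralizer ({t} : Set G), c ^ 2 = 1 := by
    intro c hc
    obtain ⟨k, hk⟩ := IsPGroup.iff_orderOf.mp (hC t ht) ⟨c, hc⟩
    rw [Subgroup.orderOf_mk] at hk
    rcases Nat.eq_zero_or_pos k with rfl | hk0
    · rw [pow_zero, orderOf_eq_one_iff] at hk
      rw [hk, one_pow]
    · exact key c (hk ▸ (Nat.even_pow.mpr ⟨even_two, by omega⟩))
  refine ⟨⟨⟨fun a b => Subtype.ext ?_⟩⟩, hsq⟩
  have ha : (a : G)⁻¹ = a := inv_eq_of_mul_eq_one_right (by rw [← pow_two]; exact hsq _ a.2)
  have hb : (b : G)⁻¹ = b := inv_eq_of_mul_eq_one_right (by rw [← pow_two]; exact hsq _ b.2)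
  have hab : ((a : G) * b)⁻¹ = a * b :=
    inv_eq_of_mul_eq_one_right (by rw [← pow_two]; exact hsq _ (mul_mem a.2 b.2))
  show (a : G) * b = b * a
  rw [← hab, mul_inv_rev, ha, hb]

/-- A lower bound for the number of elements of order divisible by `p`, for a Sylow subgroup of
order `p`. -/
theorem le_card_dvd_orderOf {p m : ℕ} [hp : Fact p.Prime] (P : Sylow p G)
    (hP : Nat.card (P : Subgroup G) = p)
    (hC : Nat.card (centralizer ((P : Subgroup G) : Set G)) = p * m) :
    Nat.card (Sylow p G) * ((p - 1) * m) ≤ Nat.card {g : G // p ∣ orderOf g} := by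
  classical
  haveI := Fintype.ofFinite (Sylow p G)
  have hQ : ∀ Q : Sylow p G, Nat.card (Q : Subgroup G) = p := fun Q =>
    (Nat.card_congr (Sylow.equiv Q P).toEquiv).trans hP
  have hQC : ∀ Q : Sylow p G,
      Nat.card (centralizer ((Q : Subgroup G) : Set G)) = p * m := by
    intro Q
    obtain ⟨g, rfl⟩ := MulAction.exists_smul_eq G P Q
    rw [← hC]
    refine Nat.card_congr ((MulAut.conj g).toEquiv.subtypeEquiv fun x => ?_).symm
    rw [mem_centralizer_iff, mem_centralizer_iff]
    constructor
    · intro h y hy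
      change y ∈ MulAut.conj g • (P : Subgroup G) at hy
      rw [Subgroup.mem_pointwise_smul_iff_inv_smul_mem] at hy
      have := congrArg (MulAut.conj g) (h _ hy)
      simpa [mul_assoc] using this
    · intro h y hy
      have hy' : MulAut.conj g y ∈ MulAut.conj g • (P : Subgroup G) :=
        Subgroup.smul_mem_pointwise_smul y (MulAut.conj g) _ hy
      have h' := h _ hy'
      exact (MulAut.conj g).injective (by simpa [map_mul] using h')
  let S : Sylow p G → Type _ := fun Q =>
    {c : centralizer ((Q : Subgroup G) : Set G) // p ∣ orderOf (c : G)}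
  -- each centralizer contributes
  have hS : ∀ Q : Sylow p G, (p - 1) * m ≤ Nat.card (S Q) := by
    intro Q
    set C := centralizer ((Q : Subgroup G) : Set G)
    have h1 : Nat.card C = Nat.card (S Q) + Nat.card {c : C // ¬ p ∣ orderOf (c : G)} := by
      rw [← Nat.card_sum]
      exact (Nat.card_congr (Equiv.sumCompl fun c : C => p ∣ orderOf (c : G))).symm
    have h2 : Nat.card {c : C // ¬ p ∣ orderOf (c : G)} ≤ m := by
      have hidx : ((Q : Subgroup G).subgroupOf C).index = m := by
        have h := ((Q : Subgroup G).subgroupOf C).card_mul_index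
        rw [Nat.card_congr (subgroupOfEquivOfLe (le_centralizer_of_prime (hQ Q))).toEquiv, hQ Q,
          hQC Q] at h
        exact Nat.eq_of_mul_eq_mul_left hp.out.pos h
      rw [← hidx]
      refine Nat.card_le_card_of_injective
        (fun c : {c : C // ¬ p ∣ orderOf (c : G)} =>
          (QuotientGroup.mk c.1 : C ⧸ (Q : Subgroup G).subgroupOf C)) fun a b h => ?_
      refine Subtype.ext (Subtype.ext ?_)
      have hu' := QuotientGroup.eq.mp h
      have hu : (a.1 : G)⁻¹ * b.1 ∈ (Q : Subgroup G) := hu'
      set u := (a.1 : G)⁻¹ * b.1 with hudef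
      by_contra hne
      have hu1 : u ≠ 1 := fun e => hne (inv_mul_eq_one.mp e)
      have hcomm : Commute (a.1 : G) u := (mem_centralizer_iff.mp a.1.2 u hu).symm
      have hb : (b.1 : G) = a.1 * u := by rw [hudef, mul_inv_cancel_left]
      have hco : (orderOf (a.1 : G)).Coprime (orderOf u) := by
        rw [orderOf_eq_of_prime (hQ Q) hu hu1]
        exact (hp.out.coprime_iff_not_dvd.mpr a.2).symm
      refine b.2 ?_
      rw [hb, hcomm.orderOf_mul_eq_mul_orderOf_of_coprime hco,
        orderOf_eq_of_prime (hQ Q) hu hu1]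
      exact dvd_mul_left p _
    have h3 := hQC Q
    rw [h1] at h3
    rw [Nat.sub_mul, one_mul]
    omega
  -- and they are disjoint
  let F : (Σ Q, S Q) → {g : G // p ∣ orderOf g} := fun z => ⟨z.2.1.1, z.2.2⟩
  have hF : Function.Injective F := by
    rintro ⟨Q, c⟩ ⟨Q', c'⟩ h
    have hv : (c.1 : G) = c'.1 := congrArg Subtype.val h
    have hmem : ∀ (R : Sylow p G) (d : S R),
        zpowers ((d.1 : G) ^ (orderOf (d.1 : G) / p)) = (R : Subgroup G) := by
      intro R d
      set y := (d.1 : G) ^ (orderOf (d.1 : G) / p)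
      have hy : orderOf y = p := orderOf_pow_orderOf_div (orderOf_pos _).ne' d.2
      refine zpowers_eq_of_prime (hQ R) ?_ fun e => hp.out.ne_one (by rw [← hy, e, orderOf_one])
      -- `y` normalizes `R`, so lies in it
      have hyC : y ∈ centralizer ((R : Subgroup G) : Set G) := pow_mem d.1.2 _
      have hpg : IsPGroup p (zpowers y) :=
        IsPGroup.of_card (n := 1) (by rw [Nat.card_zpowers, hy, pow_one])
      have h := hpg.inf_normalizer_sylow R
      have hle : zpowers y ≤ normalizer (R : Set G) :=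
        zpowers_le.mpr (centralizer_le_normalizer' _ hyC)
      rw [inf_eq_left.mpr hle, eq_comm, inf_eq_left] at h
      exact h (mem_zpowers y)
    obtain rfl : Q = Q' := Sylow.ext (by rw [← hmem Q c, ← hmem Q' c', hv])
    obtain rfl : c = c' := Subtype.ext (Subtype.ext hv)
    rfl
  refine le_trans ?_ (Nat.card_le_card_of_injective F hF)
  rw [Nat.card_sigma]
  calc Nat.card (Sylow p G) * ((p - 1) * m) = ∑ _Q : Sylow p G, (p - 1) * m := by
        rw [Finset.sum_const, Finset.card_univ, smul_eq_mul, Nat.card_eq_fintype_card]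
    _ ≤ _ := Finset.sum_le_sum fun Q _ => hS Q

omit [Group G] in
/-- Disjoint families of elements of `G` have total size at most `|G|`. -/
theorem card_add_card_le {p q : G → Prop} (h : ∀ g, p g → q g → False) {r : G → Prop}
    (hp : ∀ g, p g → r g) (hq : ∀ g, q g → r g) :
    Nat.card {g // p g} + Nat.card {g // q g} ≤ Nat.card {g // r g} := by
  rw [← Nat.card_sum]
  refine Nat.card_le_card_of_injective
    (Sum.elim (fun g => ⟨g.1, hp g.1 g.2⟩) (fun g => ⟨g.1, hq g.1 g.2⟩)) ?_
  rintro (a | a) (b | b) e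
  · exact congrArg Sum.inl (Subtype.ext (congrArg Subtype.val e :))
  · exact (h a.1 a.2 ((congrArg Subtype.val e : a.1 = b.1) ▸ b.2)).elim
  · exact (h a.1 ((congrArg Subtype.val e : a.1 = b.1) ▸ b.2) a.2).elim
  · exact congrArg Sum.inr (Subtype.ext (congrArg Subtype.val e :))

/-- An element of an abelian Sylow subgroup of a non-abelian simple group that is centralized by
the normalizer of that subgroup is trivial. -/
theorem eq_one_of_centralized_by_normalizer [IsSimpleGroup G] (hG : ¬ IsMulCommutative G) {p : ℕ}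
    [hp : Fact p.Prime] (P : Sylow p G) [hab : IsMulCommutative (P : Subgroup G)] {x : G}
    (hx : x ∈ (P : Subgroup G))
    (hN : ∀ g ∈ normalizer ((P : Subgroup G) : Set G), g * x = x * g) : x = 1 := by
  haveI : (P : Subgroup G).FiniteIndex := inferInstance
  let τ : G →* (P : Subgroup G) := (MonoidHom.id (P : Subgroup G)).transfer
  have hτ : τ x = 1 := by simp [hom_commGroup_eq_one hG τ]
  have key : ∀ (k : ℕ) (g : G), g⁻¹ * x ^ k * g ∈ (P : Subgroup G) → g⁻¹ * x ^ k * g = x ^ k := by
    intro k g hg
    have hle : ∀ z ∈ (P : Subgroup G), z ∈ centralizer ((P : Subgroup G) : Set G) :=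
      fun z hz => mem_centralizer_iff.mpr fun y hy =>
        congrArg Subtype.val (hab.is_comm.comm (⟨y, hy⟩ : (P : Subgroup G)) ⟨z, hz⟩)
    obtain ⟨n, hn, hne⟩ := P.conj_eq_normalizer_conj_of_mem_centralizer (x ^ k) g
      (hle _ (pow_mem hx k)) (hle _ hg)
    have hc : Commute n (x ^ k) := Commute.pow_right (hN n hn) k
    rw [hne, mul_assoc, ← hc.eq, inv_mul_cancel_left]
  simp only [τ] at hτ
  have h2 := MonoidHom.transfer_eq_pow (MonoidHom.id (P : Subgroup G)) x key
  have hpow : x ^ (P : Subgroup G).index = 1 := congrArg Subtype.val (h2.symm.trans hτ)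
  have hco : (orderOf x).Coprime (P : Subgroup G).index := by
    obtain ⟨k, hk⟩ := P.2.exists_card_eq
    have hd := orderOf_dvd_natCard (⟨x, hx⟩ : (P : Subgroup G))
    rw [Subgroup.orderOf_mk, hk] at hd
    exact ((hp.out.coprime_iff_not_dvd.mpr P.not_dvd_index).pow_left k).coprime_dvd_left hd
  have := Nat.eq_one_of_dvd_coprimes hco dvd_rfl (orderOf_dvd_of_pow_eq_one hpow)
  exact orderOf_eq_one_iff.mp this

/-- If `q` divides no centralizer of an element of order `p`, no element has order divisible by
both `p` and `q`. -/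
theorem not_dvd_orderOf {p q : ℕ} (h : ∀ y : G, orderOf y = p →
    ¬ q ∣ Nat.card (centralizer ({y} : Set G))) {g : G} (hp : p ∣ orderOf g) :
    ¬ q ∣ orderOf g := fun hq => by
  have hy : orderOf (g ^ (orderOf g / p)) = p := orderOf_pow_orderOf_div (orderOf_pos g).ne' hp
  have hmem : g ∈ centralizer ({g ^ (orderOf g / p)} : Set G) :=
    mem_centralizer_singleton_iff.mpr ((Commute.pow_right (Commute.refl g) _).eq)
  have := orderOf_dvd_natCard (⟨g, hmem⟩ : centralizer ({g ^ (orderOf g / p)} : Set G))
  rw [Subgroup.orderOf_mk] at this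
  exact h _ hy (hq.trans this)

/-- Centralizers of elements of order `p` when Sylow subgroups have order `p`. -/
theorem card_centralizer_of_orderOf {p : ℕ} [Fact p.Prime] (P : Sylow p G)
    (hP : Nat.card (P : Subgroup G) = p) {y : G} (hy : orderOf y = p) :
    Nat.card (centralizer ({y} : Set G)) = Nat.card (centralizer ((P : Subgroup G) : Set G)) := by
  obtain ⟨Q, hQ, -⟩ := existsUnique_sylow_of_orderOf P hP hy
  have hyQ : y ∈ (Q : Subgroup G) := hQ ▸ mem_zpowers y
  rw [centralizer_eq_of_prime ((Nat.card_congr (Sylow.equiv Q P).toEquiv).trans hP) hyQ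
    (by rintro rfl; rw [orderOf_one] at hy; exact (Fact.out : p.Prime).ne_one hy.symm)]
  obtain ⟨g, rfl⟩ := MulAction.exists_smul_eq G P Q
  refine Nat.card_congr ((MulAut.conj g).toEquiv.subtypeEquiv fun x => ?_).symm
  rw [mem_centralizer_iff, mem_centralizer_iff]
  constructor
  · intro h z hz
    change z ∈ MulAut.conj g • (P : Subgroup G) at hz
    rw [Subgroup.mem_pointwise_smul_iff_inv_smul_mem] at hz
    have := congrArg (MulAut.conj g) (h _ hz)
    simpa [mul_assoc] using this
  · intro h z hz
    have hz' : MulAut.conj g z ∈ MulAut.conj g • (P : Subgroup G) :=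
      Subgroup.smul_mem_pointwise_smul z (MulAut.conj g) _ hz
    exact (MulAut.conj g).injective (by simpa [map_mul] using h _ hz')

/-- Four pairwise disjoint families of elements. -/
theorem card_even_add_le {p q : ℕ} (hp1 : p ≠ 1) (hq1 : q ≠ 1)
    (hpe : ∀ g : G, p ∣ orderOf g → Odd (orderOf g))
    (hqe : ∀ g : G, q ∣ orderOf g → Odd (orderOf g))
    (hpq : ∀ g : G, p ∣ orderOf g → ¬ q ∣ orderOf g) :
    Nat.card {g : G // Even (orderOf g)} + Nat.card {g : G // p ∣ orderOf g} +
      Nat.card {g : G // q ∣ orderOf g} + 1 ≤ Nat.card G := by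
  have hev : ∀ g : G, Odd (orderOf g) → ¬ Even (orderOf g) := fun g => Nat.not_even_iff_odd.mpr
  have h1 := card_add_card_le (G := G) (p := fun g => Even (orderOf g))
    (q := fun g => p ∣ orderOf g) (fun g a b => hev g (hpe g b) a)
    (r := fun g => Even (orderOf g) ∨ p ∣ orderOf g) (fun _ => Or.inl) (fun _ => Or.inr)
  have h2 := card_add_card_le (G := G) (p := fun g => Even (orderOf g) ∨ p ∣ orderOf g)
    (q := fun g => q ∣ orderOf g)
    (fun g a b => a.elim (fun a => hev g (hqe g b) a) (fun a => hpq g a b))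
    (r := fun g => g ≠ 1) ?_ ?_
  · haveI := Fintype.ofFinite G
    classical
    have h3 : Nat.card {g : G // g ≠ 1} = Nat.card G - 1 := by
      rw [Nat.card_eq_fintype_card, Fintype.card_subtype_compl, Fintype.card_subtype_eq,
        ← Nat.card_eq_fintype_card]
    have := Nat.card_pos (α := G)
    omega
  · rintro g (a | a) rfl
    · rw [orderOf_one] at a; exact absurd a (by decide)
    · rw [orderOf_one] at a; exact hp1 (Nat.dvd_one.mp a)
  · rintro g a rfl
    rw [orderOf_one] at a; exact hq1 (Nat.dvd_one.mp a)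

end Cfsg.Agent.Lib.SmallGroups
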