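/-
Simple groups of order 4080: all centralizers of involutions are elementary abelian.
-/
import Mathlib
import Cfsg.Agent.Lib.SmallGroups.Basic
import Cfsg.Agent.Lib.SmallGroups.PrimeSylow
import Cfsg.Agent.Lib.SmallGroups.ElemCentral

set_option autoImplicit false
set_option linter.style.haveILetI false

namespace Cfsg.Agent.Lib.SmallGroups.Order4080

open Subgroup

variable {G : Type*} [Group G] [Finite G]

/-- Elements of order `q` do not centralize elements of order `p`. -/
theorem not_dvd_of_not_dvd {p q : ℕ} [Fact p.Prime] [Fact q.Prime]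
    (h : ∀ y : G, orderOf y = p → ¬ q ∣ Nat.card (centralizer ({y} : Set G))) {z : G}
    (hz : orderOf z = q) : ¬ p ∣ Nat.card (centralizer ({z} : Set G)) := by
  intro hd
  obtain ⟨⟨y, hy⟩, hy'⟩ := exists_prime_orderOf_dvd_card' (G := centralizer ({z} : Set G)) p hd
  rw [Subgroup.orderOf_mk] at hy'
  have hzy : z ∈ centralizer ({y} : Set G) :=
    mem_centralizer_singleton_iff.mpr (mem_centralizer_singleton_iff.mp hy).symm
  have h2 := orderOf_dvd_natCard (⟨z, hzy⟩ : centralizer ({y} : Set G))
  rw [Subgroup.orderOf_mk, hz] at h2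
  exact h y hy' h2

variable [IsSimpleGroup G] (h : Nat.card G = 4080)
include h

theorem not_comm : ¬ IsMulCommutative G :=
  not_isMulCommutative_of_not_prime (by rw [h]; norm_num)

theorem seventeen [Fact (Nat.Prime 17)] (P : Sylow 17 G) :
    Nat.card (Sylow 17 G) = 120 ∧ Nat.card (P : Subgroup G) = 17 ∧
      Nat.card (centralizer ((P : Subgroup G) : Set G)) = 17 := by
  have hG := not_comm h
  have hn := card_sylow_mem hG (p := 17) (k := 1) (m := 240) (by rw [h]; norm_num) (by norm_num)
    one_ne_zero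
  have e : (Nat.divisors 240).filter (fun d => d % 17 = 1 ∧ d ≠ 1) = {120} := by decide +kernel
  rw [e, Finset.mem_singleton] at hn
  have hP : Nat.card (P : Subgroup G) = 17 :=
    (card_sylow_eq P (k := 1) (m := 240) (by rw [h]; norm_num) (by norm_num)).trans (pow_one 17)
  have hN := card_normalizer_sylow_mul P
  rw [hn, h] at hN
  obtain ⟨e, -, he1, h17, hcard⟩ := exists_card_normalizer_eq_of_simple hG P hP
  refine ⟨hn, hP, ?_⟩
  obtain ⟨c, hc⟩ := h17
  rw [hc] at hcard ⊢
  have hec : e * c = 2 := by nlinarith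
  rcases (Nat.dvd_prime Nat.prime_two).mp ⟨c, hec.symm⟩ with rfl | rfl
  · exact absurd rfl he1
  · omega

theorem card_centralizer_seventeen [Fact (Nat.Prime 17)] {y : G} (hy : orderOf y = 17) :
    Nat.card (centralizer ({y} : Set G)) = 17 := by
  have P : Sylow 17 G := default
  obtain ⟨-, hP, hC⟩ := seventeen h P
  exact (card_centralizer_of_orderOf P hP hy).trans hC

theorem seventeen_not_dvd [Fact (Nat.Prime 17)] {p : ℕ} [Fact p.Prime] (hp : p ≠ 17) {z : G}
    (hz : orderOf z = p) : ¬ 17 ∣ Nat.card (centralizer ({z} : Set G)) := by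
  refine not_dvd_of_not_dvd (fun y hy => ?_) hz
  rw [card_centralizer_seventeen h hy]
  exact fun hd => hp ((Nat.prime_dvd_prime_iff_eq Fact.out (Fact.out : (17 : ℕ).Prime)).mp hd)

/-- Sylow data for `p = 3, 5`. -/
theorem small [Fact (Nat.Prime 17)] {p : ℕ} [Fact p.Prime] (hp : p = 3 ∨ p = 5)
    (P : Sylow p G) :
    Nat.card (P : Subgroup G) = p ∧ ∃ e : ℕ, e ∣ p - 1 ∧ e ≠ 1 ∧
      p ∣ Nat.card (centralizer ((P : Subgroup G) : Set G)) ∧
      e * Nat.card (centralizer ((P : Subgroup G) : Set G)) * Nat.card (Sylow p G) = 4080 ∧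
      Nat.card (Sylow p G) % p = 1 ∧
      ¬ 17 ∣ Nat.card (centralizer ((P : Subgroup G) : Set G)) := by
  have hG := not_comm h
  have hP : Nat.card (P : Subgroup G) = p := by
    rcases hp with rfl | rfl
    · exact (card_sylow_eq P (k := 1) (m := 1360) (by rw [h]; norm_num) (by norm_num)).trans
        (pow_one 3)
    · exact (card_sylow_eq P (k := 1) (m := 816) (by rw [h]; norm_num) (by norm_num)).trans
        (pow_one 5)
  obtain ⟨e, he, he1, hpC, hcard⟩ := exists_card_normalizer_eq_of_simple hG P hP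
  have hN := card_normalizer_sylow_mul P
  rw [hcard, h] at hN
  refine ⟨hP, e, he, he1, hpC, hN, ?_, ?_⟩
  · have := card_sylow_modEq_one p G
    rwa [Nat.ModEq, Nat.mod_eq_of_lt (Fact.out : p.Prime).one_lt] at this
  · obtain ⟨⟨y, hyP⟩, hy⟩ := exists_prime_orderOf_dvd_card' (G := (P : Subgroup G)) p
      (dvd_of_eq hP.symm)
    rw [Subgroup.orderOf_mk] at hy
    rw [← card_centralizer_of_orderOf P hP hy]
    exact seventeen_not_dvd h (by rcases hp with rfl | rfl <;> norm_num) hy

theorem card_centralizer_three [Fact (Nat.Prime 3)] (P : Sylow 3 G) :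
    Nat.card (centralizer ((P : Subgroup G) : Set G)) * Nat.card (Sylow 3 G) = 2040 ∧
      Nat.card (centralizer ((P : Subgroup G) : Set G)) ∈ ({6, 15, 24, 60} : Finset ℕ) := by
  haveI : Fact (Nat.Prime 17) := ⟨by norm_num⟩
  obtain ⟨-, e, he, he1, hpC, hmul, hmod, h17⟩ := small h (Or.inl rfl) P
  obtain rfl : e = 2 := ((Nat.dvd_prime Nat.prime_two).mp he).resolve_left he1
  set c := Nat.card (centralizer ((P : Subgroup G) : Set G))
  have hc : c * Nat.card (Sylow 3 G) = 2040 := by
    rw [mul_assoc] at hmul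
    omega
  refine ⟨hc, ?_⟩
  have h1 : c ∈ (Nat.divisors 2040).filter (fun d => 3 ∣ d ∧ ¬ 17 ∣ d ∧ 2040 / d % 3 = 1) := by
    refine Finset.mem_filter.mpr ⟨Nat.mem_divisors.mpr ⟨⟨_, hc.symm⟩, by norm_num⟩, hpC, h17, ?_⟩
    rw [← hc, Nat.mul_div_cancel_left _ Nat.card_pos]
    exact hmod
  have e' : (Nat.divisors 2040).filter (fun d => 3 ∣ d ∧ ¬ 17 ∣ d ∧ 2040 / d % 3 = 1) =
      {6, 15, 24, 60} := by decide +kernel
  rwa [e'] at h1

theorem card_centralizer_five [Fact (Nat.Prime 5)] (P : Sylow 5 G) :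
    (Nat.card (Sylow 5 G) = 51 ∧
      (Nat.card (centralizer ((P : Subgroup G) : Set G)) = 20 ∨
        Nat.card (centralizer ((P : Subgroup G) : Set G)) = 40)) ∨
    (Nat.card (Sylow 5 G) = 136 ∧ Nat.card (centralizer ((P : Subgroup G) : Set G)) = 15) := by
  haveI : Fact (Nat.Prime 17) := ⟨by norm_num⟩
  obtain ⟨-, e, he, he1, hpC, hmul, hmod, h17⟩ := small h (Or.inr rfl) P
  set c := Nat.card (centralizer ((P : Subgroup G) : Set G))
  set n := Nat.card (Sylow 5 G)
  have hc : c ∈ (Nat.divisors 4080).filter (fun d => 5 ∣ d ∧ ¬ 17 ∣ d) :=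
    Finset.mem_filter.mpr ⟨Nat.mem_divisors.mpr ⟨⟨e * n, by rw [← hmul]; ring⟩, by norm_num⟩,
      hpC, h17⟩
  have hn : n * (e * c) = 4080 := by rw [← hmul]; ring
  have e' : (Nat.divisors 4080).filter (fun d => 5 ∣ d ∧ ¬ 17 ∣ d) =
      {5, 10, 15, 20, 30, 40, 60, 80, 120, 240} := by decide +kernel
  rw [e'] at hc
  have he4 : e = 2 ∨ e = 4 := by
    have h1 : e ∈ Nat.divisors 4 := Nat.mem_divisors.mpr ⟨he, by norm_num⟩
    rw [show Nat.divisors 4 = {1, 2, 4} from by decide +kernel] at h1
    simp only [Finset.mem_insert, Finset.mem_singleton] at h1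
    omega
  have hn1 : n ≠ 1 :=
    card_sylow_ne_one (not_comm h) 5 (by rw [h]; norm_num)
  simp only [Finset.mem_insert, Finset.mem_singleton] at hc
  rcases he4 with rfl | rfl <;>
    rcases hc with hc | hc | hc | hc | hc | hc | hc | hc | hc | hc <;>
    rw [hc] at hn ⊢ <;> omega

theorem card_centralizer_five_eq [Fact (Nat.Prime 5)] [Fact (Nat.Prime 3)] (P : Sylow 5 G)
    (Q : Sylow 3 G) :
    Nat.card (Sylow 5 G) = 136 ∧ Nat.card (centralizer ((P : Subgroup G) : Set G)) = 15 ∧
      Nat.card (Sylow 3 G) = 136 ∧ Nat.card (centralizer ((Q : Subgroup G) : Set G)) = 15 := by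
  haveI : Fact (Nat.Prime 17) := ⟨by norm_num⟩
  classical
  have hP := (small h (Or.inr rfl) P).1
  have hQ := (small h (Or.inl rfl) Q).1
  obtain ⟨hQn, hQc⟩ := card_centralizer_three h Q
  simp only [Finset.mem_insert, Finset.mem_singleton] at hQc
  have h5 := card_centralizer_five h P
  -- `3` divides `|C(P₅)|` iff `5` divides `|C(P₃)|`
  have h35 : 5 ∣ Nat.card (centralizer ((Q : Subgroup G) : Set G)) →
      3 ∣ Nat.card (centralizer ((P : Subgroup G) : Set G)) := by
    intro hd
    obtain ⟨⟨z, hzQ⟩, hz⟩ := exists_prime_orderOf_dvd_card' (G := (Q : Subgroup G)) 3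
      (dvd_of_eq hQ.symm)
    rw [Subgroup.orderOf_mk] at hz
    by_contra hn
    refine not_dvd_of_not_dvd (p := 5) (fun y hy => ?_) hz
      (by rw [card_centralizer_of_orderOf Q hQ hz]; exact hd)
    rw [card_centralizer_of_orderOf P hP hy]
    exact hn
  have h53 : 3 ∣ Nat.card (centralizer ((P : Subgroup G) : Set G)) →
      5 ∣ Nat.card (centralizer ((Q : Subgroup G) : Set G)) := by
    intro hd
    obtain ⟨⟨z, hzP⟩, hz⟩ := exists_prime_orderOf_dvd_card' (G := (P : Subgroup G)) 5
      (dvd_of_eq hP.symm)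
    rw [Subgroup.orderOf_mk] at hz
    by_contra hn
    refine not_dvd_of_not_dvd (p := 3) (fun y hy => ?_) hz
      (by rw [card_centralizer_of_orderOf P hP hz]; exact hd)
    rw [card_centralizer_of_orderOf Q hQ hy]
    exact hn
  rcases h5 with ⟨hn5, hc5⟩ | ⟨hn5, hc5⟩
  · -- too many elements
    exfalso
    have hnd3 : ¬ 3 ∣ Nat.card (centralizer ((P : Subgroup G) : Set G)) := by
      rcases hc5 with hc | hc <;> rw [hc] <;> norm_num
    have hc3 : Nat.card (centralizer ((Q : Subgroup G) : Set G)) = 6 ∨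
        Nat.card (centralizer ((Q : Subgroup G) : Set G)) = 24 := by
      rcases hQc with hc | hc | hc | hc
      · exact Or.inl hc
      · exact absurd (h35 (by rw [hc]; norm_num)) hnd3
      · exact Or.inr hc
      · exact absurd (h35 (by rw [hc]; norm_num)) hnd3
    have R : Sylow 17 G := default
    obtain ⟨hn17, hR, hc17⟩ := seventeen h R
    have a17 := le_card_dvd_orderOf R hR (m := 1) (by rw [hc17])
    have a5 : 816 ≤ Nat.card {g : G // 5 ∣ orderOf g} := by
      rcases hc5 with hc | hc
      · have := le_card_dvd_orderOf P hP (m := 4) (by rw [hc])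
        rw [hn5] at this; omega
      · have := le_card_dvd_orderOf P hP (m := 8) (by rw [hc])
        rw [hn5] at this; omega
    have a3 : 1360 ≤ Nat.card {g : G // 3 ∣ orderOf g} := by
      rcases hc3 with hc | hc <;> rw [hc] at hQn
      · have := le_card_dvd_orderOf Q hQ (m := 2) (by rw [hc])
        omega
      · have := le_card_dvd_orderOf Q hQ (m := 8) (by rw [hc])
        omega
    rw [hn17] at a17
    have d1 : ∀ g : G, 17 ∣ orderOf g → ¬ 5 ∣ orderOf g := fun g hg =>
      not_dvd_orderOf (fun y hy => by rw [card_centralizer_seventeen h hy]; norm_num) hg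
    have d2 : ∀ g : G, 17 ∣ orderOf g → ¬ 3 ∣ orderOf g := fun g hg =>
      not_dvd_orderOf (fun y hy => by rw [card_centralizer_seventeen h hy]; norm_num) hg
    have d3 : ∀ g : G, 5 ∣ orderOf g → ¬ 3 ∣ orderOf g := fun g hg =>
      not_dvd_orderOf (fun y hy => by rw [card_centralizer_of_orderOf P hP hy]; exact hnd3) hg
    have s1 := card_add_card_le (G := G) (p := fun g => 17 ∣ orderOf g)
      (q := fun g => 5 ∣ orderOf g) d1 (r := fun g => 17 ∣ orderOf g ∨ 5 ∣ orderOf g)
      (fun _ => Or.inl) (fun _ => Or.inr)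
    have s2 := card_add_card_le (G := G) (p := fun g => 17 ∣ orderOf g ∨ 5 ∣ orderOf g)
      (q := fun g => 3 ∣ orderOf g) (fun g a b => a.elim (fun a => d2 g a b) (fun a => d3 g a b))
      (r := fun _ => True) (fun _ _ => trivial) (fun _ _ => trivial)
    rw [Nat.card_congr (Equiv.subtypeUnivEquiv fun _ => trivial), h] at s2
    omega
  · have h53' := h53 (by rw [hc5]; norm_num)
    refine ⟨hn5, hc5, ?_⟩
    rcases hQc with hc | hc | hc | hc
    · rw [hc] at h53'; norm_num at h53'
    · rw [hc] at hQn; exact ⟨by omega, hc⟩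
    · rw [hc] at h53'; norm_num at h53'
    · -- `|C(P₃)| = 60` contains an element of order `5` with centralizer of index `4` in it
      exfalso
      set C := centralizer ((Q : Subgroup G) : Set G) with hCdef
      have S : Sylow 5 C := default
      have hS : Nat.card (S : Subgroup C) = 5 :=
        (card_sylow_eq S (k := 1) (m := 12) (by rw [hc]; norm_num) (by norm_num)).trans (pow_one 5)
      have hmod := card_sylow_modEq_one 5 C
      obtain ⟨y, hyS, hy1⟩ : ∃ y : C, y ∈ (S : Subgroup C) ∧ y ≠ 1 := by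
        obtain ⟨⟨y, hyS⟩, hy⟩ := exists_prime_orderOf_dvd_card' (G := (S : Subgroup C)) 5
          (dvd_of_eq hS.symm)
        refine ⟨y, hyS, fun e => ?_⟩
        rw [Subgroup.orderOf_mk, e, orderOf_one] at hy
        norm_num at hy
      have hy5 : orderOf (y : G) = 5 := by
        rw [Subgroup.orderOf_coe, orderOf_eq_of_prime hS hyS hy1]
      obtain ⟨R, hR, -⟩ := existsUnique_sylow_of_orderOf P hP hy5
      have hyR : (y : G) ∈ (R : Subgroup G) := hR ▸ mem_zpowers _
      have hRc : Nat.card (R : Subgroup G) = 5 :=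
        (Nat.card_congr (Sylow.equiv R P).toEquiv).trans hP
      have hy1' : (y : G) ≠ 1 := fun e => hy1 (Subtype.ext e)
      have hCR : Nat.card (centralizer ((R : Subgroup G) : Set G)) = 15 := by
        rw [← centralizer_eq_of_prime hRc hyR hy1', card_centralizer_of_orderOf P hP hy5, hc5]
      have hQS : (Q : Subgroup G).subgroupOf C ≤ normalizer ((S : Subgroup C) : Set C) := by
        intro a ha
        refine centralizer_le_normalizer' _ ?_
        rw [← centralizer_eq_of_prime hS hyS hy1, mem_centralizer_singleton_iff]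
        exact Subtype.ext (mem_centralizer_iff.mp y.2 a.1 (mem_subgroupOf.mp ha))
      have hQC : (Q : Subgroup G) ≤ C := le_centralizer_of_prime hQ
      have h3' := card_dvd_of_le hQS
      rw [Nat.card_congr (subgroupOfEquivOfLe hQC).toEquiv, hQ] at h3'
      have h5' := card_dvd_of_le (le_normalizer (H := (S : Subgroup C)))
      rw [hS] at h5'
      have h15 : 15 ∣ Nat.card (normalizer ((S : Subgroup C) : Set C)) :=
        Nat.Coprime.mul_dvd_of_dvd_of_dvd (by norm_num) h3' h5'
      have hmul := card_normalizer_sylow_mul S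
      rw [hc] at hmul
      obtain ⟨j, hj⟩ := h15
      rw [hj] at hmul
      have hn4 : Nat.card (Sylow 5 C) ∈ Nat.divisors 4 :=
        Nat.mem_divisors.mpr ⟨⟨j, by nlinarith⟩, by norm_num⟩
      rw [show Nat.divisors 4 = {1, 2, 4} from by decide +kernel] at hn4
      simp only [Finset.mem_insert, Finset.mem_singleton] at hn4
      rw [Nat.ModEq] at hmod
      rcases hn4 with h4 | h4 | h4 <;> rw [h4] at hmul hmod <;> try norm_num at hmod
      -- a unique Sylow 5-subgroup: then `N(R)` would be too big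
      have hsub : C ≤ normalizer ((R : Subgroup G) : Set G) := by
        haveI : Subsingleton (Sylow 5 C) := (Nat.card_eq_one_iff_unique.mp h4).1
        have hnorm : normalizer ((S : Subgroup C) : Set C) = ⊤ :=
          normalizer_eq_top_iff.mpr S.normal_of_subsingleton
        have hmap := le_normalizer_map (H := (S : Subgroup C)) C.subtype
        rw [hnorm, ← MonoidHom.range_eq_map, range_subtype, ← zpowers_eq_of_prime hS hyS hy1,
          MonoidHom.map_zpowers] at hmap
        rw [hR]
        exact hmap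
      have h60 := card_dvd_of_le hsub
      obtain ⟨-, e', he', -, -, hmulR, -, -⟩ := small h (Or.inr rfl) R
      have hN60 := card_normalizer_sylow_mul R
      rw [hn5, h] at hN60
      rw [hc, show Nat.card (normalizer ((R : Subgroup G) : Set G)) = 30 by omega] at h60
      norm_num at h60

/-- All centralizers of involutions are elementary abelian. -/
theorem elemCentralizers {t : G} (ht : orderOf t = 2) :
    IsMulCommutative (centralizer ({t} : Set G)) ∧
      ∀ c ∈ centralizer ({t} : Set G), c ^ 2 = 1 := by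
  haveI : Fact (Nat.Prime 2) := ⟨Nat.prime_two⟩
  haveI : Fact (Nat.Prime 3) := ⟨Nat.prime_three⟩
  haveI : Fact (Nat.Prime 5) := ⟨by norm_num⟩
  haveI : Fact (Nat.Prime 17) := ⟨by norm_num⟩
  have P : Sylow 5 G := default
  have Q : Sylow 3 G := default
  have R : Sylow 17 G := default
  obtain ⟨hn5, hc5, hn3, hc3⟩ := card_centralizer_five_eq h P Q
  have hP := (small h (Or.inr rfl) P).1
  have hQ := (small h (Or.inl rfl) Q).1
  obtain ⟨hn17, hR, hc17⟩ := seventeen h R
  have h17 := fun (y : G) (hy : orderOf y = 17) => card_centralizer_seventeen h hy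
  have h5 : ∀ y : G, orderOf y = 5 → Nat.card (centralizer ({y} : Set G)) = 15 := fun y hy =>
    (card_centralizer_of_orderOf P hP hy).trans hc5
  have h3 : ∀ y : G, orderOf y = 3 → Nat.card (centralizer ({y} : Set G)) = 15 := fun y hy =>
    (card_centralizer_of_orderOf Q hQ hy).trans hc3
  have hodd : ∀ y : G, (orderOf y).Prime → orderOf y ≠ 2 →
      Odd (Nat.card (centralizer ({y} : Set G))) := by
    intro y hy hy2
    have h4 : orderOf y ∣ 2 ^ 4 * 3 * 5 * 17 := by
      have h5 := orderOf_dvd_natCard y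
      rw [h] at h5
      exact h5
    have h1 : orderOf y = 3 ∨ orderOf y = 5 ∨ orderOf y = 17 := by
      rcases hy.dvd_mul.mp h4 with h5 | h5
      · rcases hy.dvd_mul.mp h5 with h6 | h6
        · rcases hy.dvd_mul.mp h6 with h7 | h7
          · exact absurd ((Nat.prime_dvd_prime_iff_eq hy Nat.prime_two).mp
              (hy.dvd_of_dvd_pow h7)) hy2
          · exact Or.inl ((Nat.prime_dvd_prime_iff_eq hy Nat.prime_three).mp h7)
        · exact Or.inr (Or.inl ((Nat.prime_dvd_prime_iff_eq hy (by norm_num)).mp h6))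
      · exact Or.inr (Or.inr ((Nat.prime_dvd_prime_iff_eq hy (by norm_num)).mp h5))
    rcases h1 with h1 | h1 | h1
    · rw [h3 y h1]; decide
    · rw [h5 y h1]; decide
    · rw [h17 y h1]; decide
  have hT : 2 ∣ Nat.card G := by rw [h]; norm_num
  refine elemCentralizers_of_count default hT (fun t => isPGroup_centralizer_of_odd hodd) ?_ ht
  have hev : ∀ p : ℕ, (∀ y : G, orderOf y = p → ¬ 2 ∣ Nat.card (centralizer ({y} : Set G))) →
      ∀ g : G, p ∣ orderOf g → Odd (orderOf g) := fun p hp g hg =>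
    Nat.not_even_iff_odd.mp fun he => not_dvd_orderOf hp hg (even_iff_two_dvd.mp he)
  have o17 := hev 17 fun y hy => by rw [h17 y hy]; norm_num
  have o5 := hev 5 fun y hy => by rw [h5 y hy]; norm_num
  have o3 := hev 3 fun y hy => by rw [h3 y hy]; norm_num
  have d5 : ∀ g : G, 17 ∣ orderOf g → ¬ 5 ∣ orderOf g := fun g hg =>
    not_dvd_orderOf (fun y hy => by rw [h17 y hy]; norm_num) hg
  have d3 : ∀ g : G, 17 ∣ orderOf g → ¬ 3 ∣ orderOf g := fun g hg =>
    not_dvd_orderOf (fun y hy => by rw [h17 y hy]; norm_num) hg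
  have a17 := le_card_dvd_orderOf R hR (m := 1) (by rw [hc17])
  have a5 := le_card_dvd_orderOf P hP (m := 3) (by rw [hc5])
  rw [hn17] at a17
  rw [hn5] at a5
  have a3 := card_orderOf_eq_prime Q hQ
  rw [hn3] at a3
  have s1 := card_add_card_le (G := G) (p := fun g => 5 ∣ orderOf g) (q := fun g => orderOf g = 3)
    (fun g a b => by rw [b] at a; norm_num at a)
    (r := fun g => 5 ∣ orderOf g ∨ orderOf g = 3) (fun _ => Or.inl) (fun _ => Or.inr)
  have hev' : ∀ g : G, Odd (orderOf g) → ¬ Even (orderOf g) := fun g => Nat.not_even_iff_odd.mpr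
  have s2 := card_add_card_le (G := G) (p := fun g => Even (orderOf g))
    (q := fun g => 5 ∣ orderOf g ∨ orderOf g = 3)
    (fun g a b => hev' g (b.elim (o5 g) fun b => o3 g (dvd_of_eq b.symm)) a)
    (r := fun g => Even (orderOf g) ∨ 5 ∣ orderOf g ∨ orderOf g = 3)
    (fun _ => Or.inl) (fun _ => Or.inr)
  have s3 := card_add_card_le (G := G)
    (p := fun g => Even (orderOf g) ∨ 5 ∣ orderOf g ∨ orderOf g = 3)
    (q := fun g => 17 ∣ orderOf g)
    (fun g a b => a.elim (fun a => hev' g (o17 g b) a) fun a => a.elim (fun a => d5 g b a)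
      fun a => d3 g b (dvd_of_eq a.symm))
    (r := fun g => g ≠ 1)
    (by rintro g (a | a | a) rfl <;> simp at a) (by rintro g a rfl; simp at a)
  haveI := Fintype.ofFinite G
  classical
  have hne : Nat.card {g : G // g ≠ 1} = 4079 := by
    rw [Nat.card_eq_fintype_card, Fintype.card_subtype_compl, Fintype.card_subtype_eq,
      ← Nat.card_eq_fintype_card, h]
  rw [hne] at s3
  rw [card_sylow_eq (default : Sylow 2 G) (k := 4) (m := 255) (by rw [h]; norm_num) (by norm_num),
    h]
  omega

end Cfsg.Agent.Lib.SmallGroups.Order4080
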