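/-
Sylow p-subgroups of symmetric groups of degree p, p+1 and their normalizers; consequences for
simple groups with a subgroup of index p or p+1.
-/
import Mathlib
import Cfsg.Agent.Lib.SmallGroups.Basic
import Cfsg.Agent.Lib.SmallGroups.PrimeSylow

set_option autoImplicit false
set_option linter.style.haveILetI false

namespace Cfsg.Agent.Lib.SmallGroups

open Subgroup Equiv.Perm
open scoped Nat Pointwise

variable {α : Type*} [Fintype α] [DecidableEq α]

theorem not_sq_dvd_factorial {p n : ℕ} (hp : p.Prime) (hn : n < 2 * p) : ¬ p ^ 2 ∣ n ! := by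
  intro h
  have h1 := (hp.pow_dvd_iff_le_factorization (Nat.factorial_ne_zero n)).mp h
  rw [Nat.factorization_factorial hp (b := 2) (Nat.log_lt_of_lt_pow' (by norm_num)
    (lt_of_lt_of_le hn (by rw [pow_two]; exact Nat.mul_le_mul_right p hp.two_le)))] at h1
  rw [Finset.sum_Ico_succ_top (by norm_num), Finset.Ico_self, Finset.sum_empty, zero_add,
    pow_one] at h1
  have : n / p < 2 := Nat.div_lt_of_lt_mul (by linarith)
  omega

/-- In degree `p` or `p + 1` the Sylow `p`-subgroups have order `p`, generated by a `p`-cycle. -/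
theorem sym_sylow_data (p : ℕ) [hp : Fact p.Prime]
    (hα : Fintype.card α = p ∨ Fintype.card α = p + 1) (P : Sylow p (Equiv.Perm α)) :
    Nat.card (P : Subgroup (Equiv.Perm α)) = p ∧
      ∀ σ ∈ (P : Subgroup (Equiv.Perm α)), σ ≠ 1 → σ.cycleType = {p} := by
  have hp2 := hp.out.two_le
  have hcard : Nat.card (Equiv.Perm α) = (Fintype.card α)! := by
    rw [Nat.card_perm, Nat.card_eq_fintype_card]
  have hdvd : p ∣ Nat.card (Equiv.Perm α) :=
    hcard ▸ Nat.dvd_factorial hp.out.pos (by omega)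
  have hP : Nat.card (P : Subgroup (Equiv.Perm α)) = p := by
    obtain ⟨k, hk⟩ := P.2.exists_card_eq
    have h1 : p ^ 2 ∣ (Fintype.card α)! → False := not_sq_dvd_factorial hp.out (by omega)
    have h2 : k < 2 := by
      by_contra hc
      exact h1 (dvd_trans (pow_dvd_pow p (not_lt.mp hc))
        (hcard ▸ hk ▸ card_subgroup_dvd_card (P : Subgroup (Equiv.Perm α))))
    have h3 : k ≠ 0 := by
      rintro rfl
      have := P.dvd_card_of_dvd_card hdvd
      rw [hk, pow_zero] at this
      exact hp.out.not_dvd_one this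
    rw [hk, show k = 1 by omega, pow_one]
  refine ⟨hP, fun σ hσ hσ1 => ?_⟩
  have ho := orderOf_eq_of_prime hP hσ hσ1
  obtain ⟨n, hn⟩ := cycleType_prime_order (σ := σ) (ho.symm ▸ hp.out)
  rw [ho] at hn
  have hsum := σ.sum_cycleType_le
  rw [hn, Multiset.sum_replicate, smul_eq_mul] at hsum
  have hlt : (n + 1) * p < 2 * p := by omega
  obtain rfl : n = 0 := by
    have := Nat.lt_of_mul_lt_mul_right hlt
    omega
  simpa using hn

/-- The normalizer of a Sylow `p`-subgroup of `S_p` or `S_{p+1}` has order `p * (p - 1)`. -/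
theorem sym_card_normalizer (p : ℕ) [hp : Fact p.Prime]
    (hα : Fintype.card α = p ∨ Fintype.card α = p + 1) (P : Sylow p (Equiv.Perm α)) :
    Nat.card ↥(normalizer ((P : Subgroup (Equiv.Perm α)) : Set (Equiv.Perm α))) = p * (p - 1) := by
  classical
  set N := normalizer ((P : Subgroup (Equiv.Perm α)) : Set (Equiv.Perm α))
  obtain ⟨hP, hcyc⟩ := sym_sylow_data p hα P
  obtain ⟨e, he, hN⟩ := exists_card_normalizer_eq hP
  obtain ⟨σ, hσP, hσ⟩ : ∃ σ ∈ (P : Subgroup (Equiv.Perm α)), σ ≠ 1 := by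
    by_contra h
    push Not at h
    have : (P : Subgroup (Equiv.Perm α)) = ⊥ := (eq_bot_iff_forall _).mpr h
    rw [this, card_bot] at hP
    exact hp.out.ne_one hP.symm
  have hC : Nat.card (centralizer ((P : Subgroup (Equiv.Perm α)) : Set (Equiv.Perm α))) = p := by
    rw [← centralizer_eq_of_prime hP hσP hσ, nat_card_centralizer, hcyc σ hσP hσ]
    rcases hα with h | h <;> simp [h]
  -- the normalizer is transitive on the generators
  let f : N → {τ : (P : Subgroup (Equiv.Perm α)) // τ ≠ 1} := fun n =>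
    ⟨⟨n.1 * σ * n.1⁻¹, (mem_normalizer_iff.mp n.2 σ).mp hσP⟩, fun h => hσ (by
      have h' : n.1 * σ * n.1⁻¹ = 1 := congrArg Subtype.val h
      simpa using h')⟩
  have hf : Function.Surjective f := by
    rintro ⟨⟨τ, hτP⟩, hτ⟩
    have hτ' : τ ≠ 1 := fun h => hτ (Subtype.ext h)
    obtain ⟨g, hg⟩ := isConj_iff.mp
      (isConj_of_cycleType_eq ((hcyc σ hσP hσ).trans (hcyc τ hτP hτ').symm))
    refine ⟨⟨g, ?_⟩, Subtype.ext (Subtype.ext hg)⟩
    refine Sylow.smul_eq_iff_mem_normalizer.mp ?_
    apply Sylow.ext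
    rw [Sylow.coe_subgroup_smul, ← zpowers_eq_of_prime hP hσP hσ]
    refine (MonoidHom.map_zpowers _ σ).trans ?_
    change zpowers (g * σ * g⁻¹) = _
    rw [hg, zpowers_eq_of_prime hP hτP hτ', zpowers_eq_of_prime hP hσP hσ]
  let g : N ⧸ ((centralizer ((P : Subgroup (Equiv.Perm α)) : Set (Equiv.Perm α))).subgroupOf N) →
      {τ : (P : Subgroup (Equiv.Perm α)) // τ ≠ 1} := Quotient.lift f fun a b h => by
    have h := QuotientGroup.leftRel_apply.mp h
    rw [mem_subgroupOf] at h
    refine Subtype.ext (Subtype.ext ?_)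
    change a.1 * σ * a.1⁻¹ = b.1 * σ * b.1⁻¹
    have h' : ((a⁻¹ * b : N) : Equiv.Perm α) * σ = σ * ((a⁻¹ * b : N) : Equiv.Perm α) :=
      (mem_centralizer_iff.mp h σ hσP).symm
    push_cast at h'
    calc a.1 * σ * a.1⁻¹ = a.1 * (σ * (a.1⁻¹ * b.1)) * b.1⁻¹ := by group
      _ = a.1 * (a.1⁻¹ * b.1 * σ) * b.1⁻¹ := by rw [h']
      _ = b.1 * σ * b.1⁻¹ := by group
  have hg : Function.Surjective g := fun τ => by
    obtain ⟨n, hn⟩ := hf τ
    exact ⟨QuotientGroup.mk n, hn⟩
  have h1 := Nat.card_le_card_of_surjective g hg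
  have h2 : Nat.card {τ : (P : Subgroup (Equiv.Perm α)) // τ ≠ 1} = p - 1 := by
    haveI := Fintype.ofFinite (P : Subgroup (Equiv.Perm α))
    rw [Nat.card_eq_fintype_card, Fintype.card_subtype_compl, Fintype.card_subtype_eq,
      ← Nat.card_eq_fintype_card, hP]
  have h3 := ((centralizer ((P : Subgroup (Equiv.Perm α)) : Set (Equiv.Perm α))).subgroupOf
    N).card_mul_index
  rw [Nat.card_congr (subgroupOfEquivOfLe (centralizer_le_normalizer'
    (P : Subgroup (Equiv.Perm α)))).toEquiv, hC, index_eq_card] at h3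
  rw [hC] at hN
  have h5 : Nat.card (N ⧸ ((centralizer ((P : Subgroup (Equiv.Perm α)) :
      Set (Equiv.Perm α))).subgroupOf N)) = e := by
    refine Nat.eq_of_mul_eq_mul_left hp.out.pos ?_
    rw [h3, mul_comm p e]
    exact hN
  rw [h2, h5] at h1
  have h4 : e = p - 1 :=
    le_antisymm (Nat.le_of_dvd (by have := hp.out.two_le; omega) he) h1
  rw [hN, h4, mul_comm]

/-- For odd `p`, a p-subgroup of `S_n` consists of even permutations. -/
theorem le_alternatingGroup_of_isPGroup {p : ℕ} [hp : Fact p.Prime] (hp2 : p ≠ 2)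
    {P : Subgroup (Equiv.Perm α)} (hP : IsPGroup p P) : P ≤ alternatingGroup α := by
  intro x hx
  rw [mem_alternatingGroup]
  obtain ⟨k, hk⟩ := hP ⟨x, hx⟩
  have hk' : x ^ p ^ k = 1 := congrArg Subtype.val hk
  have h := congrArg Equiv.Perm.sign hk'
  rw [map_pow, map_one] at h
  have hodd : Odd (p ^ k) := (hp.out.odd_of_ne_two hp2).pow
  rcases Int.units_eq_one_or (sign x) with h1 | h1
  · exact h1
  · rw [h1, hodd.neg_one_pow] at h
    exact absurd h (by decide)

/-- For odd `p`, `|N_S(P)| = 2 |N_A(P)|`. -/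
theorem sym_two_mul_card_normalizer (hα : 2 ≤ Fintype.card α) (p : ℕ) [hp : Fact p.Prime]
    (hp2 : p ≠ 2) (P : Sylow p (Equiv.Perm α)) :
    (P : Subgroup (Equiv.Perm α)) ≤ alternatingGroup α ∧
      2 * Nat.card ↥(normalizer ((((P : Subgroup (Equiv.Perm α)).subgroupOf (alternatingGroup α) :
        Subgroup ↥(alternatingGroup α)) : Set ↥(alternatingGroup α)))) =
      Nat.card ↥(normalizer ((P : Subgroup (Equiv.Perm α)) : Set (Equiv.Perm α))) := by
  haveI : Nontrivial α := Fintype.one_lt_card_iff_nontrivial.mp hα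
  have hle := le_alternatingGroup_of_isPGroup hp2 P.2
  refine ⟨hle, ?_⟩
  set A := alternatingGroup α
  set N := normalizer ((P : Subgroup (Equiv.Perm α)) : Set (Equiv.Perm α))
  have hN : (N.subgroupOf A) = normalizer
      ((((P : Subgroup (Equiv.Perm α)).subgroupOf A : Subgroup A)) : Set A) := by
    ext x
    rw [mem_subgroupOf, mem_normalizer_iff, mem_normalizer_iff]
    constructor
    · intro h y
      simpa [mem_subgroupOf] using h y.1
    · intro h y
      by_cases hy : y ∈ A
      · simpa [mem_subgroupOf] using h ⟨y, hy⟩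
      · constructor
        · exact fun h' => absurd (hle h') hy
        · intro h'
          refine absurd ?_ hy
          have := A.mul_mem (A.mul_mem (A.inv_mem x.2) (hle h')) x.2
          simpa [mul_assoc] using this
  rw [← hN]
  have hsup : N ⊔ A = ⊤ := by
    have := Sylow.normalizer_sup_eq_top' (N := A) P hle
    exact this
  have h2 : A.relIndex N = 2 := by
    have h := Subgroup.relIndex_sup_right N A
    rw [hsup, relIndex_top_right] at h
    rw [← h]
    exact alternatingGroup.index_eq_two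
  have h := (A.subgroupOf N).card_mul_index
  rw [← relIndex, h2, mul_comm] at h
  rw [← h]
  congr 1
  exact Nat.card_congr ⟨fun z => ⟨⟨z.1.1, z.2⟩, z.1.2⟩, fun z => ⟨⟨z.1.1, z.2⟩, z.1.2⟩,
    fun z => rfl, fun z => rfl⟩

/-- A non-abelian simple group with a subgroup of index `p` or `p + 1` (`p` odd prime dividing the
order) has `2 * |N(P)| ∣ p * (p - 1)`. -/
theorem two_mul_card_normalizer_dvd {G : Type*} [Group G] [Finite G] [IsSimpleGroup G]
    (hG : ¬ IsMulCommutative G) {p : ℕ} [hp : Fact p.Prime] (hp2 : p ≠ 2) {H : Subgroup G}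
    (hH : H.index = p ∨ H.index = p + 1) (hdvd : p ∣ Nat.card G) (P : Sylow p G) :
    2 * Nat.card (normalizer ((P : Subgroup G) : Set G)) ∣ p * (p - 1) := by
  classical
  have hp3 := hp.out.two_le
  have hH' : H ≠ ⊤ := by
    rintro rfl
    rw [index_top] at hH
    omega
  obtain ⟨f, hf⟩ := exists_injective_alternating hG hH'
  let F : G →* Equiv.Perm (Fin H.index) := (alternatingGroup (Fin H.index)).subtype.comp f
  have hF : Function.Injective F := Subtype.val_injective.comp hf
  have hα : Fintype.card (Fin H.index) = p ∨ Fintype.card (Fin H.index) = p + 1 := by simpa using hH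
  obtain ⟨Q, hQ⟩ := (P.2.map F).exists_le_sylow
  obtain ⟨hQc, -⟩ := sym_sylow_data p hα Q
  have hQeq : (P : Subgroup G).map F = (Q : Subgroup (Equiv.Perm (Fin H.index))) := by
    refine Subgroup.eq_of_le_of_card_ge hQ ?_
    rw [hQc, Subgroup.card_map_of_injective hF]
    exact Nat.le_of_dvd Nat.card_pos (P.dvd_card_of_dvd_card hdvd)
  obtain ⟨-, hhalf⟩ := sym_two_mul_card_normalizer (α := Fin H.index) (by simp; omega) p hp2 Q
  rw [← sym_card_normalizer p hα Q, ← hhalf]
  refine mul_dvd_mul_left 2 ?_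
  refine card_dvd_of_injective
    ((f.comp (normalizer ((P : Subgroup G) : Set G)).subtype).codRestrict _ fun n => ?_)
    (fun a b h => Subtype.ext (hf (congrArg Subtype.val h)))
  rw [mem_normalizer_iff]
  intro y
  rw [mem_subgroupOf, mem_subgroupOf, ← hQeq]
  have hn := mem_normalizer_iff.mp n.2
  constructor
  · rintro ⟨z, hz, hzy⟩
    exact ⟨n.1 * z * n.1⁻¹, (hn z).mp hz, by simp [F] at hzy ⊢; simp [hzy]⟩
  · rintro ⟨z, hz, hzy⟩
    refine ⟨n.1⁻¹ * z * n.1, (hn _).mpr (by
      rw [show n.1 * (n.1⁻¹ * z * n.1) * n.1⁻¹ = z by group]; exact hz), ?_⟩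
    simp [F] at hzy ⊢
    rw [hzy]
    group

/-- If `n_p = p + 1` in a non-abelian simple group then `2 * |G| ∣ (p + 1) * (p * (p - 1))`. -/
theorem two_mul_card_dvd_of_card_sylow {G : Type*} [Group G] [Finite G] [IsSimpleGroup G]
    (hG : ¬ IsMulCommutative G) {p : ℕ} [hp : Fact p.Prime] (hp2 : p ≠ 2)
    (hdvd : p ∣ Nat.card G) (hn : Nat.card (Sylow p G) = p + 1) :
    2 * Nat.card G ∣ (p + 1) * (p * (p - 1)) := by
  have P : Sylow p G := default
  have h := two_mul_card_normalizer_dvd hG hp2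
    (H := normalizer ((P : Subgroup G) : Set G)) (Or.inr (P.card_eq_index_normalizer ▸ hn)) hdvd P
  rw [← card_normalizer_sylow_mul P, hn, mul_comm (Nat.card _) (p + 1), ← mul_assoc,
    mul_comm 2 (p + 1), mul_assoc]
  exact mul_dvd_mul_left _ h

end Cfsg.Agent.Lib.SmallGroups
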