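/-
Simple groups of order 504: all centralizers of involutions are elementary abelian.
-/
import Mathlib
import Cfsg.Agent.Lib.SmallGroups.Basic
import Cfsg.Agent.Lib.SmallGroups.PrimeSylow
import Cfsg.Agent.Lib.SmallGroups.SymSylow
import Cfsg.Agent.Lib.SmallGroups.ElemCentral

set_option autoImplicit false
set_option linter.style.haveILetI false

namespace Cfsg.Agent.Lib.SmallGroups.Order504

open Subgroup

variable {G : Type*} [Group G] [Finite G] [IsSimpleGroup G] (h : Nat.card G = 504)
include h

theorem not_comm : ¬ IsMulCommutative G :=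
  not_isMulCommutative_of_not_prime (by rw [h]; norm_num)

theorem seven (P : Sylow 7 G) [Fact (Nat.Prime 7)] :
    Nat.card (Sylow 7 G) = 36 ∧ Nat.card (P : Subgroup G) = 7 ∧
      Nat.card (normalizer ((P : Subgroup G) : Set G)) = 14 ∧
      Nat.card (centralizer ((P : Subgroup G) : Set G)) = 7 := by
  have hG := not_comm h
  have hn := card_sylow_mem hG (p := 7) (k := 1) (m := 72) (by rw [h]; norm_num) (by norm_num)
    one_ne_zero
  have e : (Nat.divisors 72).filter (fun d => d % 7 = 1 ∧ d ≠ 1) = {8, 36} := by decide +kernel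
  rw [e] at hn
  simp only [Finset.mem_insert, Finset.mem_singleton] at hn
  have h36 : Nat.card (Sylow 7 G) = 36 := by
    refine hn.resolve_left fun h8 => ?_
    have := two_mul_card_dvd_of_card_sylow hG (p := 7) (by norm_num) (by rw [h]; norm_num) h8
    rw [h] at this
    norm_num at this
  have hP : Nat.card (P : Subgroup G) = 7 :=
    (card_sylow_eq P (k := 1) (m := 72) (by rw [h]; norm_num) (by norm_num)).trans (pow_one 7)
  have hN : Nat.card (normalizer ((P : Subgroup G) : Set G)) = 14 := by
    have := card_normalizer_sylow_mul P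
    rw [h36, h] at this
    omega
  obtain ⟨e, he, he1, h7, hcard⟩ := exists_card_normalizer_eq_of_simple hG P hP
  refine ⟨h36, hP, hN, ?_⟩
  rw [hN] at hcard
  obtain ⟨c, hc⟩ := h7
  rw [hc] at hcard ⊢
  have hec : e * c = 2 := by nlinarith
  rcases (Nat.dvd_prime Nat.prime_two).mp ⟨c, hec.symm⟩ with rfl | rfl
  · exact absurd rfl he1
  · omega

theorem index_ne_seven (H : Subgroup G) : H.index ≠ 7 := by
  haveI : Fact (Nat.Prime 7) := ⟨by norm_num⟩
  intro hH
  have P : Sylow 7 G := default
  have := two_mul_card_normalizer_dvd (not_comm h) (p := 7) (by norm_num) (Or.inl hH)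
    (by rw [h]; norm_num) P
  rw [(seven h P).2.2.1] at this
  norm_num at this

theorem index_ge (H : Subgroup G) (hH : H ≠ ⊤) : Nat.card H ≤ 63 := by
  have h1 := two_mul_card_dvd_factorial (not_comm h) hH
  have h2 := H.card_mul_index
  have h3 : H.index ∈ Nat.divisors 504 :=
    Nat.mem_divisors.mpr ⟨h ▸ H.index_dvd_card, by norm_num⟩
  have h4 : 8 ≤ H.index := by
    by_contra hlt
    push Not at hlt
    have h7 := index_ne_seven h H
    rw [h] at h1
    revert h1 h3 h7
    generalize H.index = i at hlt ⊢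
    interval_cases i <;> decide +kernel
  rw [h] at h2
  nlinarith

theorem three [Fact (Nat.Prime 3)] (P : Sylow 3 G) :
    Nat.card (Sylow 3 G) = 28 ∧ Nat.card (P : Subgroup G) = 9 ∧
      Nat.card (normalizer ((P : Subgroup G) : Set G)) = 18 := by
  have hG := not_comm h
  have hn := card_sylow_mem hG (p := 3) (k := 2) (m := 56) (by rw [h]; norm_num) (by norm_num)
    two_ne_zero
  have e : (Nat.divisors 56).filter (fun d => d % 3 = 1 ∧ d ≠ 1) = {4, 7, 28} := by decide +kernel
  rw [e] at hn
  simp only [Finset.mem_insert, Finset.mem_singleton] at hn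
  have hP : Nat.card (P : Subgroup G) = 9 := by
    rw [card_sylow_eq P (k := 2) (m := 56) (by rw [h]; norm_num) (by norm_num)]; rfl
  have hmul := card_normalizer_sylow_mul P
  rw [h] at hmul
  have hN := index_ge h _ (normalizer_sylow_ne_top hG (by rw [h]; norm_num) P)
  rcases hn with hn | hn | hn <;> rw [hn] at hmul
  · omega
  · omega
  · exact ⟨hn, hP, by omega⟩

theorem centralizer_eq [Fact (Nat.Prime 3)] (P : Sylow 3 G) {x : G} (hx : x ∈ (P : Subgroup G))
    (hx1 : x ≠ 1) : centralizer ({x} : Set G) = (P : Subgroup G) := by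
  haveI : Fact (Nat.Prime 7) := ⟨by norm_num⟩
  have hG := not_comm h
  obtain ⟨-, hP, hN⟩ := three h P
  set N := normalizer ((P : Subgroup G) : Set G) with hNdef
  haveI hab : IsMulCommutative (P : Subgroup G) :=
    IsPGroup.isMulCommutative_of_card_eq_prime_sq (p := 3) (by rw [hP]; rfl)
  have hcomm : ∀ a ∈ (P : Subgroup G), ∀ b ∈ (P : Subgroup G), a * b = b * a := fun a ha b hb =>
    congrArg Subtype.val (hab.is_comm.comm (⟨a, ha⟩ : (P : Subgroup G)) ⟨b, hb⟩)
  -- an element inverting `P`
  obtain ⟨g, hgN, hgP⟩ : ∃ g ∈ N, g ∉ (P : Subgroup G) := by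
    refine SetLike.not_le_iff_exists.mp fun hle => ?_
    have := card_dvd_of_le hle
    rw [hN, hP] at this
    norm_num at this
  have hidx : ((P : Subgroup G).subgroupOf N).index = 2 := by
    have h1 := ((P : Subgroup G).subgroupOf N).card_mul_index
    rw [Nat.card_congr (subgroupOfEquivOfLe le_normalizer).toEquiv, hP, hN] at h1
    omega
  have hgg : g * g ∈ (P : Subgroup G) := by
    have h1 := Subgroup.mul_self_mem_of_index_two hidx (⟨g, hgN⟩ : N)
    exact h1
  have hconjP : ∀ a ∈ (P : Subgroup G), g * a * g⁻¹ ∈ (P : Subgroup G) := fun a ha =>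
    (mem_normalizer_iff.mp hgN a).mp ha
  have hinv : ∀ a ∈ (P : Subgroup G), g * a * g⁻¹ = a⁻¹ := by
    intro a ha
    set b := g * a * g⁻¹ with hb
    have hy : a * b ∈ (P : Subgroup G) := mul_mem ha (hconjP a ha)
    have h2 : g * b * g⁻¹ = a := by
      calc g * b * g⁻¹ = (g * g) * a * (g * g)⁻¹ := by rw [hb]; group
        _ = a := by rw [hcomm _ hgg a ha, mul_inv_cancel_right]
    have h3 : g * (a * b) * g⁻¹ = a * b := by
      calc g * (a * b) * g⁻¹ = (g * a * g⁻¹) * (g * b * g⁻¹) := by group
        _ = a * b := by rw [h2, ← hb, hcomm _ (hconjP a ha) a ha]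
    have h4 : a * b = 1 := by
      refine eq_one_of_centralized_by_normalizer hG P hy fun n hn => ?_
      have h5 : g * (a * b) = a * b * g := mul_inv_eq_iff_eq_mul.mp h3
      by_cases hnP : n ∈ (P : Subgroup G)
      · exact hcomm n hnP _ hy
      · have h6 : g⁻¹ * n ∈ (P : Subgroup G) := by
          have := (Subgroup.mul_mem_iff_of_index_two hidx
            (a := (⟨g, hgN⟩ : N)⁻¹) (b := (⟨n, hn⟩ : N))).mpr (iff_of_false ?_ hnP)
          · exact this
          · simpa [mem_subgroupOf] using hgP
        calc n * (a * b) = g * ((g⁻¹ * n) * (a * b)) := by group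
          _ = g * ((a * b) * (g⁻¹ * n)) := by rw [hcomm _ h6 _ hy]
          _ = (g * (a * b)) * (g⁻¹ * n) := by rw [mul_assoc g]
          _ = (a * b) * n := by rw [h5]; group
    exact (inv_eq_of_mul_eq_one_right h4).symm
  set C := centralizer ({x} : Set G) with hCdef
  have hPC : (P : Subgroup G) ≤ C := fun a ha =>
    mem_centralizer_singleton_iff.mpr (hcomm a ha x hx)
  have hord : orderOf x ∣ 9 := by
    have := orderOf_dvd_natCard (⟨x, hx⟩ : (P : Subgroup G))
    rwa [Subgroup.orderOf_mk, hP] at this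
  have hgC : g ∉ C := by
    intro hg
    have h1 : g * x * g⁻¹ = x := by
      rw [mem_centralizer_singleton_iff.mp hg, mul_inv_cancel_right]
    rw [hinv x hx] at h1
    have h2 : orderOf x ∣ 2 :=
      orderOf_dvd_of_pow_eq_one (by rw [pow_two]; nth_rw 1 [← h1]; rw [inv_mul_cancel])
    exact hx1 (orderOf_eq_one_iff.mp (Nat.eq_one_of_dvd_coprimes (by norm_num : Nat.Coprime 2 9)
      h2 hord))
  have hC7 : ¬ 7 ∣ Nat.card C := by
    intro h7
    obtain ⟨⟨y, hy⟩, hy'⟩ := exists_prime_orderOf_dvd_card' (G := C) 7 h7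
    rw [Subgroup.orderOf_mk] at hy'
    have Q : Sylow 7 G := default
    obtain ⟨-, hQ, -, hCQ⟩ := seven h Q
    have hxy : x ∈ centralizer ({y} : Set G) :=
      mem_centralizer_singleton_iff.mpr (mem_centralizer_singleton_iff.mp hy).symm
    have := orderOf_dvd_natCard (⟨x, hxy⟩ : centralizer ({y} : Set G))
    rw [Subgroup.orderOf_mk, card_centralizer_of_orderOf Q hQ hy', hCQ] at this
    exact hx1 (orderOf_eq_one_iff.mp
      (Nat.eq_one_of_dvd_coprimes (by norm_num : Nat.Coprime 7 9) this hord))
  have hCmem : Nat.card C ∈ (Nat.divisors 504).filter (fun d => 9 ∣ d ∧ ¬ 7 ∣ d) :=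
    Finset.mem_filter.mpr ⟨Nat.mem_divisors.mpr ⟨h ▸ card_subgroup_dvd_card C, by norm_num⟩,
      hP ▸ card_dvd_of_le hPC, hC7⟩
  have e : (Nat.divisors 504).filter (fun d => 9 ∣ d ∧ ¬ 7 ∣ d) = {9, 18, 36, 72} := by
    decide +kernel
  rw [e] at hCmem
  simp only [Finset.mem_insert, Finset.mem_singleton] at hCmem
  -- the normalizer of `⟨x⟩` is bigger
  set K := normalizer ((zpowers x : Subgroup G) : Set G) with hK
  have hCK : C ≤ K := by
    rw [hCdef, hK, ← centralizer_closure, ← zpowers_eq_closure]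
    exact centralizer_le_normalizer' _
  have hgK : g ∈ K := by
    rw [hK, mem_normalizer_iff]
    intro z
    have hz : ∀ k : ℤ, g * x ^ k * g⁻¹ = x ^ (-k) := fun k => by
      rw [← conj_zpow, hinv x hx, inv_zpow']
    constructor
    · rintro ⟨k, rfl⟩
      exact ⟨-k, (hz k).symm⟩
    · rintro ⟨k, hk⟩
      have h1 : g * x ^ (-k) * g⁻¹ = g * z * g⁻¹ := by rw [hz, neg_neg]; exact hk
      exact ⟨-k, mul_left_cancel (mul_right_cancel h1)⟩
  have hK2 : 2 * Nat.card C ≤ Nat.card K := by
    have h1 := (C.subgroupOf K).card_mul_index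
    rw [Nat.card_congr (subgroupOfEquivOfLe hCK).toEquiv] at h1
    rcases Nat.lt_or_ge (C.subgroupOf K).index 2 with h2 | h2
    · exfalso
      interval_cases hi : (C.subgroupOf K).index
      · have := Nat.card_pos (α := K); omega
      · have h5 : (⟨g, hgK⟩ : K) ∈ C.subgroupOf K := (index_eq_one.mp hi).symm ▸ mem_top _
        exact hgC (mem_subgroupOf.mp h5)
    · nlinarith
  have hKt : K ≠ ⊤ := by
    refine normalizer_ne_top (zpowers_ne_bot.mpr hx1) fun e => ?_
    have := congrArg (fun H : Subgroup G => Nat.card H) e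
    simp only [Nat.card_zpowers, card_top, h] at this
    rw [this] at hord
    norm_num at hord
  have hK63 := index_ge h K hKt
  rcases hCmem with hC | hC | hC | hC
  · exact (Subgroup.eq_of_le_of_card_ge hPC (by rw [hC, hP])).symm
  · exfalso
    have hi : ((P : Subgroup G).subgroupOf C).index = 2 := by
      have h1 := ((P : Subgroup G).subgroupOf C).card_mul_index
      rw [Nat.card_congr (subgroupOfEquivOfLe hPC).toEquiv, hP, hC] at h1
      omega
    haveI := normal_of_index_eq_two hi
    have hle : C ≤ N := normal_subgroupOf_iff_le_normalizer hPC |>.mp inferInstance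
    exact hgC ((Subgroup.eq_of_le_of_card_ge hle (by rw [hC, hN])).symm ▸ hgN)
  · omega
  · omega

theorem card_centralizer_three {y : G} (hy : orderOf y = 3) :
    Nat.card (centralizer ({y} : Set G)) = 9 := by
  haveI : Fact (Nat.Prime 3) := ⟨Nat.prime_three⟩
  have hp : IsPGroup 3 (zpowers y) :=
    IsPGroup.of_card (n := 1) (by rw [Nat.card_zpowers, hy, pow_one])
  obtain ⟨Q, hQ⟩ := hp.exists_le_sylow
  rw [centralizer_eq h Q (hQ (mem_zpowers y))
    (by rintro rfl; rw [orderOf_one] at hy; norm_num at hy), (three h Q).2.1]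

theorem le_card_three : 224 ≤ Nat.card {g : G // 3 ∣ orderOf g} := by
  haveI : Fact (Nat.Prime 3) := ⟨Nat.prime_three⟩
  classical
  haveI := Fintype.ofFinite (Sylow 3 G)
  let f : (Σ Q : Sylow 3 G, {x : (Q : Subgroup G) // x ≠ 1}) → {g : G // 3 ∣ orderOf g} :=
    fun z => ⟨z.2.1.1, by
      have h1 := orderOf_dvd_natCard z.2.1
      rw [(three h z.1).2.1] at h1
      rw [Subgroup.orderOf_coe]
      have h2 : orderOf z.2.1 ∈ Nat.divisors 9 := Nat.mem_divisors.mpr ⟨h1, by norm_num⟩
      have e : Nat.divisors 9 = {1, 3, 9} := by decide +kernel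
      rw [e] at h2
      simp only [Finset.mem_insert, Finset.mem_singleton, orderOf_eq_one_iff] at h2
      rcases h2 with h2 | h2 | h2
      · exact absurd h2 z.2.2
      · rw [h2]
      · rw [h2]; norm_num⟩
  have hf : Function.Injective f := by
    rintro ⟨Q, x, hx⟩ ⟨Q', x', hx'⟩ e
    have hv : x.1 = x'.1 := congrArg Subtype.val e
    have h1 := centralizer_eq h Q x.2 fun h => hx (Subtype.ext h)
    have h2 := centralizer_eq h Q' x'.2 fun h => hx' (Subtype.ext h)
    obtain rfl : Q = Q' := Sylow.ext (h1.symm.trans (hv ▸ h2))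
    obtain rfl : x = x' := Subtype.ext hv
    rfl
  refine le_trans (le_of_eq ?_) (Nat.card_le_card_of_injective f hf)
  have : ∀ Q : Sylow 3 G, Nat.card {x : (Q : Subgroup G) // x ≠ 1} = 8 := by
    intro Q
    haveI := Fintype.ofFinite (Q : Subgroup G)
    rw [Nat.card_eq_fintype_card, Fintype.card_subtype_compl, Fintype.card_subtype_eq,
      ← Nat.card_eq_fintype_card, (three h Q).2.1]
  have P : Sylow 3 G := default
  rw [Nat.card_sigma, Finset.sum_congr rfl (fun Q _ => this Q), Finset.sum_const, Finset.card_univ,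
    smul_eq_mul, ← Nat.card_eq_fintype_card, (three h P).1]

/-- All centralizers of involutions are elementary abelian. -/
theorem elemCentralizers {t : G} (ht : orderOf t = 2) :
    IsMulCommutative (centralizer ({t} : Set G)) ∧
      ∀ c ∈ centralizer ({t} : Set G), c ^ 2 = 1 := by
  haveI : Fact (Nat.Prime 2) := ⟨Nat.prime_two⟩
  haveI : Fact (Nat.Prime 7) := ⟨by norm_num⟩
  have P : Sylow 7 G := default
  obtain ⟨hn, hP, -, hC⟩ := seven h P
  have h7 : ∀ y : G, orderOf y = 7 → Nat.card (centralizer ({y} : Set G)) = 7 := fun y hy =>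
    (card_centralizer_of_orderOf P hP hy).trans hC
  have hodd : ∀ y : G, (orderOf y).Prime → orderOf y ≠ 2 →
      Odd (Nat.card (centralizer ({y} : Set G))) := by
    intro y hy hy2
    have h1 : orderOf y ∈ (Nat.divisors 504).filter (fun d => d.Prime ∧ d ≠ 2) :=
      Finset.mem_filter.mpr ⟨Nat.mem_divisors.mpr ⟨h ▸ orderOf_dvd_natCard y, by norm_num⟩,
        hy, hy2⟩
    have e : (Nat.divisors 504).filter (fun d => d.Prime ∧ d ≠ 2) = {3, 7} := by decide +kernel
    rw [e] at h1
    simp only [Finset.mem_insert, Finset.mem_singleton] at h1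
    rcases h1 with h1 | h1
    · rw [card_centralizer_three h h1]; decide
    · rw [h7 y h1]; decide
  have hT : 2 ∣ Nat.card G := by rw [h]; norm_num
  refine elemCentralizers_of_count default hT (fun t => isPGroup_centralizer_of_odd hodd) ?_ ht
  have hev : ∀ p : ℕ, (∀ y : G, orderOf y = p → ¬ 2 ∣ Nat.card (centralizer ({y} : Set G))) →
      ∀ g : G, p ∣ orderOf g → Odd (orderOf g) := fun p hp g hg =>
    Nat.not_even_iff_odd.mp fun he => not_dvd_orderOf hp hg (even_iff_two_dvd.mp he)
  have h1 := card_even_add_le (G := G) (p := 3) (q := 7) (by norm_num) (by norm_num)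
    (hev 3 fun y hy => by rw [card_centralizer_three h hy]; norm_num)
    (hev 7 fun y hy => by rw [h7 y hy]; norm_num)
    (fun g hg => not_dvd_orderOf (fun y hy => by rw [card_centralizer_three h hy]; norm_num) hg)
  have h2 := le_card_three h
  have h3 := le_card_dvd_orderOf P hP (m := 1) (by rw [hC])
  rw [hn] at h3
  rw [card_sylow_eq (default : Sylow 2 G) (k := 3) (m := 63) (by rw [h]; norm_num) (by norm_num)]
  rw [h] at h1 ⊢
  omega

end Cfsg.Agent.Lib.SmallGroups.Order504
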