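/-
Simple groups of order `p² q r`.
-/
import Mathlib
import Cfsg.Agent.Lib.SmallGroups.Basic
import Cfsg.Agent.Lib.SmallGroups.PrimeSylow
import Cfsg.Agent.Lib.Burnside.Paqb

set_option autoImplicit false
set_option linter.style.haveILetI false

namespace Cfsg.Agent.Lib.SmallGroups

open Subgroup

/-- A prime larger than `p` dividing the number of automorphisms of a group of order `p²` is
`p + 1`, so `p = 2`. -/
theorem eq_two_of_prime_dvd_mulAut {H : Type*} [Group H] [Finite H] {p l : ℕ} (hp : p.Prime)
    (hl : l.Prime) (hpl : p < l) (hH : Nat.card H = p ^ 2) (h : l ∣ Nat.card (MulAut H)) :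
    p = 2 ∧ l = 3 := by
  haveI : Fact l.Prime := ⟨hl⟩
  obtain ⟨σ, hσ⟩ := exists_prime_orderOf_dvd_card' l h
  letI : MulAction (zpowers σ) H := MulAction.compHom H (zpowers σ).subtype
  have hpg : IsPGroup l (zpowers σ) :=
    IsPGroup.of_card (n := 1) (by rw [Nat.card_zpowers, hσ, pow_one])
  have hmod := hpg.card_modEq_card_fixedPoints H
  let F : Subgroup H :=
    { carrier := MulAction.fixedPoints (zpowers σ) H
      one_mem' := fun g => map_one (g.1 : MulAut H)
      mul_mem' := fun {a b} ha hb g => by
        show g.1 (a * b) = a * b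
        rw [map_mul]
        exact congrArg₂ _ (ha g) (hb g)
      inv_mem' := fun {a} ha g => by
        show g.1 a⁻¹ = a⁻¹
        rw [map_inv]
        exact congrArg _ (ha g) }
  have hF : Nat.card (MulAction.fixedPoints (zpowers σ) H) = Nat.card F := rfl
  have hdvd : Nat.card F ∣ p ^ 2 := hH ▸ card_subgroup_dvd_card F
  obtain ⟨i, hi, hFi⟩ := (Nat.dvd_prime_pow hp).mp hdvd
  rw [hF, hFi, hH] at hmod
  have hle : p ^ i ≤ p ^ 2 := Nat.pow_le_pow_right hp.pos hi
  have hd : l ∣ p ^ 2 - p ^ i := (Nat.modEq_iff_dvd' hle).mp hmod.symm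
  interval_cases i
  · rw [pow_zero] at hd
    have h2 : l ∣ (p + 1) * (p - 1) := by
      rwa [← Nat.sq_sub_sq, one_pow]
    rcases hl.dvd_mul.mp h2 with h3 | h3
    · have h4 : l = p + 1 := le_antisymm (Nat.le_of_dvd (by omega) h3) hpl
      subst h4
      by_cases h2' : p = 2
      · exact ⟨h2', by omega⟩
      · exfalso
        have hodd := hp.odd_of_ne_two h2'
        have := hl.eq_two_or_odd
        obtain ⟨k, hk⟩ := hodd
        have := hp.two_le
        omega
    · have := hp.two_le
      have := Nat.le_of_dvd (by omega) h3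
      omega
  · rw [pow_one, pow_two, ← Nat.mul_sub_one] at hd
    rcases hl.dvd_mul.mp hd with h3 | h3
    · have := Nat.le_of_dvd hp.pos h3
      omega
    · have := hp.two_le
      have := Nat.le_of_dvd (by omega) h3
      omega
  · exfalso
    have hall : ∀ a : H, σ a = a := by
      intro a
      have htop : F = ⊤ := Subgroup.eq_top_of_card_eq F (by rw [hFi, hH])
      exact (htop ▸ mem_top a : a ∈ F) ⟨σ, mem_zpowers σ⟩
    have : σ = 1 := MulEquiv.ext hall
    rw [this, orderOf_one] at hσ
    exact hl.ne_one hσ.symm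

variable {G : Type*} [Group G] [Finite G] [IsSimpleGroup G]

/-- In a non-abelian simple group of order `p² q r` (distinct primes, `p` the smallest) we have
`p = 2` and `3 ∈ {q, r}`. -/
theorem eq_two_three (hG : ¬ IsMulCommutative G) {p q r : ℕ} [hp : Fact p.Prime] (hq : q.Prime)
    (hr : r.Prime) (hpq : p < q) (hpr : p < r) (hcard : Nat.card G = p ^ 2 * (q * r)) :
    p = 2 ∧ (q = 3 ∨ r = 3) := by
  have hndvd : ¬ p ∣ q * r := fun h => by
    rcases hp.out.dvd_mul.mp h with h | h
    · exact absurd ((Nat.prime_dvd_prime_iff_eq hp.out hq).mp h) (by omega)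
    · exact absurd ((Nat.prime_dvd_prime_iff_eq hp.out hr).mp h) (by omega)
  have P : Sylow p G := default
  have hP := card_sylow_eq P (k := 2) hcard hndvd
  haveI hab : IsMulCommutative (P : Subgroup G) := IsPGroup.isMulCommutative_of_card_eq_prime_sq hP
  set N := normalizer ((P : Subgroup G) : Set G)
  set C := centralizer ((P : Subgroup G) : Set G)
  have hCN : C ≤ N := centralizer_le_normalizer' _
  have hmul := (C.subgroupOf N).card_mul_index
  rw [Nat.card_congr (subgroupOfEquivOfLe hCN).toEquiv] at hmul
  set i := (C.subgroupOf N).index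
  have hi1 : i ≠ 1 := fun h => not_normalizer_le_centralizer hG
    (hcard ▸ (dvd_pow_self p two_ne_zero).mul_right _) P
    (subgroupOf_eq_top.mp (index_eq_one.mp h))
  have hqr : i ∣ q * r := by
    obtain ⟨c, hc⟩ := card_dvd_of_le (Subgroup.le_centralizer (H := (P : Subgroup G)))
    rw [hP] at hc
    have h1 : Nat.card N ∣ p ^ 2 * (q * r) := hcard ▸ card_subgroup_dvd_card N
    rw [← hmul, hc, mul_assoc] at h1
    exact (dvd_mul_left i c).trans (Nat.dvd_of_mul_dvd_mul_left (pow_pos hp.out.pos 2) h1)
  have haut : i ∣ Nat.card (MulAut (P : Subgroup G)) := by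
    have := card_dvd_of_injective _
      (QuotientGroup.kerLift_injective (P : Subgroup G).normalizerMonoidHom)
    rwa [normalizerMonoidHom_ker, ← index] at this
  obtain ⟨l, hl, hli⟩ := Nat.exists_prime_and_dvd hi1
  have hlqr : l = q ∨ l = r := (hl.dvd_mul.mp (hli.trans hqr)).imp
    (fun h => (Nat.prime_dvd_prime_iff_eq hl hq).mp h)
    (fun h => (Nat.prime_dvd_prime_iff_eq hl hr).mp h)
  obtain ⟨h2, h3⟩ := eq_two_of_prime_dvd_mulAut hp.out hl
    (by rcases hlqr with rfl | rfl <;> assumption) hP (hli.trans haut)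
  exact ⟨h2, hlqr.imp (fun h => h.symm.trans h3) (fun h => h.symm.trans h3)⟩

/-- A simple group of order `12 r`, `r > 3` prime, has order `60`. -/
theorem card_eq_sixty (hG : ¬ IsMulCommutative G) {r : ℕ} (hr : r.Prime) (h3 : 3 < r)
    (hcard : Nat.card G = 12 * r) : Nat.card G = 60 := by
  haveI : Fact r.Prime := ⟨hr⟩
  have hrd : ¬ r ∣ 12 := fun h => by
    have h12 := Nat.le_of_dvd (by norm_num) h
    interval_cases r <;> simp_all (config := { decide := true })
  have hn := card_sylow_mem hG (p := r) (k := 1) (m := 12) (by rw [hcard, pow_one, mul_comm]) hrd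
    one_ne_zero
  rw [Finset.mem_filter, show Nat.divisors 12 = {1, 2, 3, 4, 6, 12} from by decide +kernel] at hn
  simp only [Finset.mem_insert, Finset.mem_singleton] at hn
  obtain ⟨hn, hmod, hne⟩ := hn
  have hle : r ≤ 11 := by
    by_contra hlt
    have h12 : r ≠ 12 := by rintro rfl; norm_num at hr
    rw [Nat.mod_eq_of_lt (show Nat.card (Sylow r G) < r by omega)] at hmod
    exact hne hmod
  have hr' : r = 5 ∨ r = 7 ∨ r = 11 := by
    interval_cases r <;> norm_num at hr <;> simp
  rcases hr' with rfl | rfl | rfl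
  · rw [hcard]
  · exfalso; omega
  · exfalso
    have h132 : Nat.card G = 132 := by rw [hcard]
    haveI : Fact (Nat.Prime 3) := ⟨Nat.prime_three⟩
    have hn3 := card_sylow_mem hG (p := 3) (k := 1) (m := 44) (by rw [h132]; norm_num) (by norm_num)
      one_ne_zero
    have e : (Nat.divisors 44).filter (fun d => d % 3 = 1 ∧ d ≠ 1) = {4, 22} := by decide +kernel
    rw [e] at hn3
    simp only [Finset.mem_insert, Finset.mem_singleton] at hn3
    have hn11 : Nat.card (Sylow 11 G) = 12 := by omega
    rcases hn3 with h4 | h22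
    · have := two_mul_card_dvd_factorial_card_sylow hG (p := 3) (by rw [h132]; norm_num)
      rw [h132, h4] at this
      norm_num [Nat.factorial] at this
    · have P : Sylow 3 G := default
      have Q : Sylow 11 G := default
      have hP := (card_sylow_eq P (k := 1) (m := 44) (by rw [h132]; norm_num) (by norm_num)).trans
        (pow_one 3)
      have hQ := (card_sylow_eq Q (k := 1) (m := 12) (by rw [h132]; norm_num) (by norm_num)).trans
        (pow_one 11)
      have a3 := card_orderOf_eq_prime P hP
      have a11 := card_orderOf_eq_prime Q hQ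
      rw [h22] at a3
      rw [hn11] at a11
      let f : {g : G // orderOf g = 3} ⊕ {g : G // orderOf g = 11} → G :=
        Sum.elim Subtype.val Subtype.val
      have hf : Function.Injective f := by
        rintro (⟨a, ha⟩ | ⟨a, ha⟩) (⟨b, hb⟩ | ⟨b, hb⟩) h <;> simp only [f, Sum.elim_inl,
          Sum.elim_inr] at h <;> subst h <;>
          first | rfl | (rw [ha] at hb; norm_num at hb)
      have := Nat.card_le_card_of_injective f hf
      rw [Nat.card_sum, a3, a11, h132] at this
      omega

end Cfsg.Agent.Lib.SmallGroups
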