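/-
Sylow subgroups of prime order with a centralizer that has a nontrivial `p'`-part: subgroups
containing the centralizer, and subgroups of index less than `2 * p`.
-/
import Mathlib
import Cfsg.Agent.Lib.SmallGroups.Basic
import Cfsg.Agent.Lib.SmallGroups.PrimeSylow
import Cfsg.Agent.Lib.PGroup.Critical

set_option autoImplicit false
set_option linter.style.haveILetI false

namespace Cfsg.Agent.Lib.SmallGroups

open Subgroup
open scoped Pointwise

variable {G : Type*} [Group G] [Finite G]

/-- Sylow data of a subgroup `H` containing the centralizer of a Sylow subgroup `P`. -/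
theorem sylow_data_of_centralizer_le {p : ℕ} [Fact p.Prime] (P : Sylow p G)
    (hP : Nat.card (P : Subgroup G) = p) {H : Subgroup G}
    (hH : centralizer ((P : Subgroup G) : Set G) ≤ H) :
    ∃ n m : ℕ, n % p = 1 ∧ Nat.card H = n * m ∧ n * m ∣ Nat.card G ∧
      Nat.card (centralizer ((P : Subgroup G) : Set G)) ∣ m ∧
      m ∣ Nat.card (normalizer ((P : Subgroup G) : Set G)) ∧
      (n = 1 → H ≤ normalizer ((P : Subgroup G) : Set G)) := by
  set N := normalizer ((P : Subgroup G) : Set G)
  set C := centralizer ((P : Subgroup G) : Set G)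
  have hPH : (P : Subgroup G) ≤ H := (le_centralizer_of_prime hP).trans hH
  have hnorm : N.subgroupOf H = normalizer ((P.subtype hPH : Subgroup H) : Set H) := by
    rw [Sylow.coe_subtype]
    exact subgroupOf_normalizer_eq hPH
  have hm : Nat.card (normalizer ((P.subtype hPH : Subgroup H) : Set H)) = Nat.card ↥(N ⊓ H) := by
    rw [← hnorm]
    exact Nat.card_congr ⟨fun z => ⟨z.1.1, z.2, z.1.2⟩, fun z => ⟨⟨z.1, z.2.2⟩, z.2.1⟩,
      fun z => rfl, fun z => rfl⟩
  have hmul := card_normalizer_sylow_mul (P.subtype hPH)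
  rw [hm] at hmul
  refine ⟨Nat.card (Sylow p H), Nat.card ↥(N ⊓ H), ?_, ?_, ?_, ?_, ?_, fun h1 => ?_⟩
  · have := card_sylow_modEq_one p H
    rwa [Nat.ModEq, Nat.mod_eq_of_lt (Fact.out : p.Prime).one_lt] at this
  · rw [← hmul, mul_comm]
  · rw [mul_comm, hmul]; exact card_subgroup_dvd_card H
  · exact card_dvd_of_le (le_inf (centralizer_le_normalizer' _) hH)
  · exact card_dvd_of_le inf_le_left
  · rw [h1, mul_one] at hmul
    exact inf_eq_right.mp (Subgroup.eq_of_le_of_card_ge inf_le_right hmul.ge)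

/-- A subgroup containing `N(P)` has relative index `≡ 1 (mod p)`. -/
theorem relIndex_mod_of_normalizer_le {p : ℕ} [Fact p.Prime] (P : Sylow p G) {H : Subgroup G}
    (hH : normalizer ((P : Subgroup G) : Set G) ≤ H) :
    (normalizer ((P : Subgroup G) : Set G)).relIndex H % p = 1 := by
  have hPH : (P : Subgroup G) ≤ H := le_normalizer.trans hH
  have h1 : (normalizer ((P : Subgroup G) : Set G)).relIndex H = Nat.card (Sylow p H) := by
    rw [(P.subtype hPH).card_eq_index_normalizer, relIndex]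
    exact congrArg Subgroup.index (subgroupOf_normalizer_eq hPH)
  have := card_sylow_modEq_one p H
  rw [h1]
  rwa [Nat.ModEq, Nat.mod_eq_of_lt (Fact.out : p.Prime).one_lt] at this

/-- A subgroup of index `i < 2 p` restricts the centralizer of `P`. -/
theorem card_centralizer_dvd_of_index_lt [IsSimpleGroup G]
    {p : ℕ} [hp : Fact p.Prime] (P : Sylow p G) (hP : Nat.card (P : Subgroup G) = p)
    {H : Subgroup G} (hH : H ≠ ⊤) (hi : H.index < 2 * p) :
    p ≤ H.index ∧
      Nat.card (centralizer ((P : Subgroup G) : Set G)) ∣ p * (H.index - p).factorial := by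
  haveI hff : FaithfulSMul G (G ⧸ H) :=
    ⟨fun h => toPermHom_injective hH (Equiv.ext fun a => h a)⟩
  set F := MulAction.fixedPoints (P : Subgroup G) (G ⧸ H)
  have hmod := P.2.card_modEq_card_fixedPoints (G ⧸ H)
  have hle : Nat.card F ≤ Nat.card (G ⧸ H) :=
    Nat.card_le_card_of_injective Subtype.val Subtype.val_injective
  have hne : Nat.card F ≠ Nat.card (G ⧸ H) := by
    intro he
    obtain ⟨⟨y, hy⟩, hy'⟩ := exists_prime_orderOf_dvd_card' (G := (P : Subgroup G)) p
      (dvd_of_eq hP.symm)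
    have hsurj := ((Nat.bijective_iff_injective_and_card (Subtype.val : F → G ⧸ H)).mpr
      ⟨Subtype.val_injective, he⟩).2
    have : y = 1 := eq_of_smul_eq_smul (α := G ⧸ H) fun a => by
      obtain ⟨⟨b, hb⟩, rfl⟩ := hsurj a
      rw [one_smul]
      exact hb ⟨y, hy⟩
    rw [Subgroup.orderOf_mk, this, orderOf_one] at hy'
    exact hp.out.ne_one hy'.symm
  rw [← index_eq_card] at hmod hle hne
  have hd : p ∣ H.index - Nat.card F := (Nat.modEq_iff_dvd' hle).mp hmod.symm
  obtain ⟨k, hk⟩ := hd
  have hk1 : k = 1 := by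
    rcases Nat.lt_or_ge k 1 with h | h
    · obtain rfl : k = 0 := by omega
      omega
    · have : p * k < 2 * p := by omega
      rw [mul_comm 2 p] at this
      have := Nat.lt_of_mul_lt_mul_left this
      omega
  subst hk1
  rw [mul_one] at hk
  refine ⟨by omega, ?_⟩
  have h := card_centralizer_dvd P hP (X := G ⧸ H) (f := H.index - p) (k := 1)
    (by show Nat.card F = _; omega) (by rw [← index_eq_card, mul_one]; omega)
  simpa using h

/-- No simple group has `36` Sylow 7-subgroups with `|C(P)| = 7 * 2 ^ a`, `a ≥ 2`, and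
`|N(P)| = 2 * |C(P)|`. -/
theorem false_of_thirty_six [IsSimpleGroup G] [Fact (Nat.Prime 7)] (hG : ¬ IsMulCommutative G)
    (P : Sylow 7 G) (hP : Nat.card (P : Subgroup G) = 7) {a : ℕ} (ha : 2 ≤ a)
    (hn : Nat.card (Sylow 7 G) = 36)
    (hC : Nat.card (centralizer ((P : Subgroup G) : Set G)) = 7 * 2 ^ a)
    (hN : Nat.card (normalizer ((P : Subgroup G) : Set G)) = 2 * (7 * 2 ^ a)) : False := by
  haveI : Fact (Nat.Prime 2) := ⟨Nat.prime_two⟩
  set N := normalizer ((P : Subgroup G) : Set G) with hNdef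
  set C := centralizer ((P : Subgroup G) : Set G) with hCdef
  have hGcard : Nat.card G = 36 * (2 * (7 * 2 ^ a)) := by
    have h := card_normalizer_sylow_mul P
    rw [hn] at h
    rw [← h, mul_comm, hN]
  have h2a : 4 ≤ 2 ^ a := le_trans (by norm_num) (Nat.pow_le_pow_right two_pos ha)
  have hno7 : ∀ H : Subgroup G, H ≠ ⊤ → H.index ≠ 9 ∧ H.index ≠ 2 := by
    intro H hH
    constructor <;> intro hi <;>
      obtain ⟨h1, h2⟩ := card_centralizer_dvd_of_index_lt P hP hH (by rw [hi]; norm_num)
    · rw [hC, hi] at h2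
      have := Nat.le_of_dvd (by norm_num [Nat.factorial]) h2
      norm_num [Nat.factorial] at this
      omega
    · omega
  -- proper subgroups above `C` lie in `N`
  have key : ∀ H : Subgroup G, C ≤ H → H ≠ ⊤ → H ≤ N := by
    intro H hH hHt
    obtain ⟨n, m, hn7, hcard, hdvd, hCm, hmN, hone⟩ := sylow_data_of_centralizer_le P hP hH
    refine hone ?_
    rw [hC] at hCm
    obtain ⟨c, rfl⟩ := hCm
    rw [hN, mul_comm 2] at hmN
    have hc : c ∣ 2 := Nat.dvd_of_mul_dvd_mul_left (by positivity) hmN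
    have hidx := H.index_mul_card
    rw [hcard, hGcard] at hidx
    have hi : H.index * n * c = 72 := by
      refine Nat.eq_of_mul_eq_mul_left (show 0 < 7 * 2 ^ a by positivity) ?_
      calc 7 * 2 ^ a * (H.index * n * c) = H.index * (n * (7 * 2 ^ a * c)) := by ring
        _ = _ := by rw [hidx]; ring
    have hnd : n ∈ (Nat.divisors 72).filter (fun d => d % 7 = 1) :=
      Finset.mem_filter.mpr ⟨Nat.mem_divisors.mpr ⟨⟨H.index * c, by rw [← hi]; ring⟩,
        by norm_num⟩, hn7⟩
    rw [show (Nat.divisors 72).filter (fun d => d % 7 = 1) = {1, 8, 36} from by decide +kernel]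
      at hnd
    simp only [Finset.mem_insert, Finset.mem_singleton] at hnd
    have hne1 : H.index ≠ 1 := fun h => hHt (index_eq_one.mp h)
    obtain ⟨h9, h2⟩ := hno7 H hHt
    rcases hnd with rfl | rfl | rfl
    · rfl
    · exfalso
      rcases (Nat.dvd_prime Nat.prime_two).mp hc with rfl | rfl
      · omega
      · have : H.index * 16 = 72 := by omega
        omega
    · exfalso
      rcases (Nat.dvd_prime Nat.prime_two).mp hc with rfl | rfl <;> omega
  have hCN : C ≤ N := centralizer_le_normalizer' _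
  -- the `2`-part `K` of `C`
  have T : Sylow 2 C := default
  have hT : Nat.card (T : Subgroup C) = 2 ^ a :=
    card_sylow_eq T (k := a) (m := 7) (by rw [hC, mul_comm]) (by norm_num)
  set K := (T : Subgroup C).map C.subtype with hKdef
  have hK : Nat.card K = 2 ^ a := by
    rw [hKdef, ← hT]
    exact (Nat.card_congr ((T : Subgroup C).equivMapOfInjective C.subtype
      C.subtype_injective).toEquiv).symm
  have hKC : K ≤ C := map_subtype_le _
  have hTnormal : (T : Subgroup C).Normal := by
    refine normalizer_eq_top_iff.mp (Subgroup.eq_top_of_card_eq _ ?_)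
    have h1 := card_dvd_of_le (le_normalizer (H := (T : Subgroup C)))
    rw [hT] at h1
    have hsub : (P : Subgroup G).subgroupOf C ≤ normalizer ((T : Subgroup C) : Set C) := by
      intro z hz
      refine centralizer_le_normalizer' _ (mem_centralizer_iff.mpr fun w _ => Subtype.ext ?_)
      exact (mem_centralizer_iff.mp w.2 z.1 (mem_subgroupOf.mp hz)).symm
    have h2 := card_dvd_of_le hsub
    rw [Nat.card_congr (subgroupOfEquivOfLe (le_centralizer_of_prime hP)).toEquiv, hP] at h2
    refine Nat.dvd_antisymm (card_subgroup_dvd_card _) ?_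
    rw [hC]
    exact ((Nat.coprime_primes (by norm_num) Nat.prime_two).mpr (by norm_num)).pow_right a
      |>.mul_dvd_of_dvd_of_dvd h2 h1
  haveI := hTnormal
  have hTidx : (T : Subgroup C).index = 7 := by
    have h := (T : Subgroup C).card_mul_index
    rw [hT, hC, mul_comm 7] at h
    exact Nat.eq_of_mul_eq_mul_left (by positivity) h
  -- `K` is normal in `N`
  have hconjK : ∀ g ∈ N, ∀ z ∈ K, g * z * g⁻¹ ∈ K := by
    rintro g hg _ ⟨z, hz, rfl⟩
    have hzC : (z : G) ∈ C := z.2
    have hmem : g * (z : G) * g⁻¹ ∈ C := by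
      refine mem_centralizer_iff.mpr fun y hy => ?_
      have hy' : g⁻¹ * y * g ∈ (P : Subgroup G) := by
        have := (mem_normalizer_iff.mp (N.inv_mem hg) y).mp hy
        simpa using this
      have h := mem_centralizer_iff.mp hzC _ hy'
      calc y * (g * (z : G) * g⁻¹) = g * ((g⁻¹ * y * g) * (z : G)) * g⁻¹ := by group
        _ = g * ((z : G) * (g⁻¹ * y * g)) * g⁻¹ := by rw [h]
        _ = g * (z : G) * g⁻¹ * y := by group
    refine ⟨⟨_, hmem⟩, ?_, rfl⟩
    show (⟨g * (z : G) * g⁻¹, hmem⟩ : C) ∈ (T : Subgroup C)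
    set z' : C := ⟨g * (z : G) * g⁻¹, hmem⟩
    have hord : orderOf z' ∣ 2 ^ a := by
      rw [← Subgroup.orderOf_coe]
      show orderOf (g * (z : G) * g⁻¹) ∣ 2 ^ a
      rw [← MulAut.conj_apply, MulEquiv.orderOf_eq, Subgroup.orderOf_coe, ← hT]
      exact (T : Subgroup C).orderOf_dvd_natCard hz
    have h7 : z' ^ 7 ∈ (T : Subgroup C) := hTidx ▸ Subgroup.pow_index_mem _ z'
    obtain ⟨j, hj⟩ := exists_pow_eq_self_of_coprime (n := 7) (x := z')
      ((((Nat.coprime_primes (by norm_num) Nat.prime_two).mpr (by norm_num)).pow_right a)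
        |>.coprime_dvd_right hord)
    rw [← hj]
    exact pow_mem h7 j
  -- another point fixed by `K`
  have hNt : N ≠ ⊤ := normalizer_sylow_ne_top hG (hP ▸ card_subgroup_dvd_card (P : Subgroup G)) P
  have hX : Nat.card (G ⧸ N) = 36 :=
    (index_eq_card N).symm.trans (P.card_eq_index_normalizer.symm.trans hn)
  have hbase : (QuotientGroup.mk 1 : G ⧸ N) ∈ MulAction.fixedPoints K (G ⧸ N) := by
    intro z
    show QuotientGroup.mk ((z : G) * 1) = QuotientGroup.mk 1
    rw [QuotientGroup.eq, mul_one, mul_one]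
    exact N.inv_mem (hCN (hKC z.2))
  obtain ⟨q, hq, hqne⟩ := (IsPGroup.of_card (p := 2) hK).exists_fixed_point_of_prime_dvd_card_of_fixed_point
    (G ⧸ N) (by rw [hX]; norm_num) hbase
  obtain ⟨g, rfl⟩ := QuotientGroup.mk_surjective q
  have hgN : g ∉ N := fun h => hqne ((QuotientGroup.eq).mpr (by simpa using h))
  set K1 := K.map (MulAut.conj g⁻¹).toMonoidHom with hK1def
  have hK1 : Nat.card K1 = 2 ^ a := by
    rw [← hK]
    exact (Nat.card_congr (K.equivMapOfInjective _ (MulAut.conj g⁻¹).injective).toEquiv).symm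
  have hK1N : K1 ≤ N := by
    rintro _ ⟨z, hz, rfl⟩
    show g⁻¹ * z * g⁻¹⁻¹ ∈ N
    have h : QuotientGroup.mk (z * g) = (QuotientGroup.mk g : G ⧸ N) := hq ⟨z, hz⟩
    rw [QuotientGroup.eq] at h
    have h' := N.inv_mem h
    simpa [mul_assoc] using h'
  have hKN : K ≤ N := hKC.trans hCN
  have hKnormal : (K.subgroupOf N).Normal :=
    ⟨fun z hz w => hconjK w.1 w.2 z.1 hz⟩
  have hr : K.relIndex K1 ∣ 2 := by
    have h1 : K.relIndex K1 ∣ 2 ^ a := by
      have := (K.subgroupOf K1).index_dvd_card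
      rwa [hK1] at this
    have h2 : K.relIndex K1 ∣ 14 := by
      have h3 := relIndex_dvd_index_of_normal (K.subgroupOf N) (K1.subgroupOf N)
      rw [relIndex_subgroupOf hK1N] at h3
      refine h3.trans (dvd_of_eq ?_)
      have h4 := (K.subgroupOf N).card_mul_index
      rw [Nat.card_congr (subgroupOfEquivOfLe hKN).toEquiv, hK, hN] at h4
      refine Nat.eq_of_mul_eq_mul_left (show 0 < 2 ^ a by positivity) ?_
      rw [h4]; ring
    have h3 := Nat.dvd_gcd h1 h2
    have h4 : Nat.gcd (2 ^ a) 14 = 2 := by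
      rw [show (14 : ℕ) = 2 * 7 from rfl, Nat.Coprime.gcd_mul (2 ^ a) (by norm_num : Nat.Coprime 2 7),
        Nat.gcd_eq_right (dvd_pow_self 2 (by omega : a ≠ 0)),
        ((Nat.coprime_primes Nat.prime_two (by norm_num)).mpr (by norm_num)).pow_left a, mul_one]
    rwa [h4] at h3
  have hr' : K1.relIndex K = K.relIndex K1 := by
    have h1 := (K1.subgroupOf K).card_mul_index
    have h2 := (K.subgroupOf K1).card_mul_index
    have e : Nat.card (K1.subgroupOf K) = Nat.card (K.subgroupOf K1) :=
      Nat.card_congr ⟨fun z => ⟨⟨z.1.1, z.2⟩, z.1.2⟩, fun z => ⟨⟨z.1.1, z.2⟩, z.1.2⟩,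
        fun z => rfl, fun z => rfl⟩
    rw [hK, e] at h1
    rw [hK1] at h2
    exact Nat.eq_of_mul_eq_mul_left Nat.card_pos (h1.trans h2.symm)
  set D := K1.subgroupOf K
  have hD2 : D.index ∣ 2 := by rw [← hr'] at hr; exact hr
  haveI : D.Normal := by
    rcases (Nat.dvd_prime Nat.prime_two).mp hD2 with h | h
    · rw [index_eq_one.mp h]; infer_instance
    · exact normal_of_index_eq_two h
  have hDne : D ≠ ⊥ := by
    intro e
    rw [e, index_bot, hK] at hD2
    have := Nat.le_of_dvd two_pos hD2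
    omega
  obtain ⟨c, hcD, hcZ, hc1⟩ :=
    Critical.exists_center_mem (IsPGroup.of_card (p := 2) hK) hDne
  -- `C(c)` contains `C` and a conjugate of `P`
  set H := centralizer ({(c : G)} : Set G) with hHdef
  have hPH : (P : Subgroup G) ≤ H := fun y hy =>
    mem_centralizer_singleton_iff.mpr (mem_centralizer_iff.mp (hKC c.2) y hy)
  have hCH : C ≤ H := by
    intro w hw
    -- `C` is generated by `P` and `K`
    have hsup : (P : Subgroup G) ⊔ K = C := by
      refine Subgroup.eq_of_le_of_card_ge (sup_le (le_centralizer_of_prime hP) hKC) ?_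
      have d1 := card_dvd_of_le (le_sup_left : (P : Subgroup G) ≤ (P : Subgroup G) ⊔ K)
      have d2 := card_dvd_of_le (le_sup_right : K ≤ (P : Subgroup G) ⊔ K)
      rw [hP] at d1
      rw [hK] at d2
      rw [hC]
      exact Nat.le_of_dvd Nat.card_pos (((Nat.coprime_primes (by norm_num) Nat.prime_two).mpr
        (by norm_num)).pow_right a |>.mul_dvd_of_dvd_of_dvd d1 d2)
    have hKH : K ≤ H := fun y hy => mem_centralizer_singleton_iff.mpr
      (congrArg Subtype.val (mem_center_iff.mp hcZ ⟨y, hy⟩))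
    exact (sup_le hPH hKH) (hsup ▸ hw)
  have hHt : H ≠ ⊤ := centralizer_ne_top hG fun e => hc1 (Subtype.ext e)
  obtain ⟨d, hd, hdc⟩ : (c : G) ∈ K1 := hcD
  have hdc' : g⁻¹ * d * g⁻¹⁻¹ = (c : G) := hdc
  have hP' : ∀ y ∈ (P : Subgroup G), g⁻¹ * y * g ∈ N := by
    intro y hy
    refine key H hCH hHt (mem_centralizer_singleton_iff.mpr ?_)
    have h := mem_centralizer_iff.mp (hKC hd) y hy
    rw [← hdc', inv_inv]
    calc g⁻¹ * y * g * (g⁻¹ * d * g) = g⁻¹ * (y * d) * g := by group
      _ = g⁻¹ * (d * y) * g := by rw [h]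
      _ = g⁻¹ * d * g * (g⁻¹ * y * g) := by group
  -- so the conjugate of `P` is `P`
  refine hgN ?_
  have h5 : g⁻¹ • P = P := by
    apply Sylow.ext
    have hle : ((g⁻¹ • P : Sylow 7 G) : Subgroup G) ≤ normalizer (P : Set G) := by
      intro z hz
      change z ∈ MulAut.conj g⁻¹ • (P : Subgroup G) at hz
      rw [Subgroup.mem_pointwise_smul_iff_inv_smul_mem] at hz
      have h8 : z ∈ N := by simpa [mul_assoc] using hP' _ hz
      exact h8
    have h6 := (g⁻¹ • P).2.inf_normalizer_sylow P
    rw [inf_eq_left.mpr hle, eq_comm, inf_eq_left] at h6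
    exact ((g⁻¹ • P).3 P.2 h6).symm
  have h7 := Sylow.smul_eq_iff_mem_normalizer.mp h5
  simpa using N.inv_mem h7

end Cfsg.Agent.Lib.SmallGroups
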