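/-
Intersections of Sylow subgroups: the congruence lemma, maximal intersections, Brodkey's theorem.
-/
import Mathlib

set_option autoImplicit false
set_option linter.style.haveILetI false

namespace Cfsg.Agent.Lib.SmallGroups

open Subgroup MulAction
open scoped Pointwise

variable {G : Type*} [Group G]

/-- The stabilizer in `P` of a Sylow subgroup `Q` is `P ∩ Q`. -/
theorem stabilizer_sylow_eq_subgroupOf {p : ℕ} (P Q : Sylow p G) :
    stabilizer (↥(P : Subgroup G)) Q = (Q : Subgroup G).subgroupOf (P : Subgroup G) := by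
  ext x
  rw [mem_stabilizer_iff, Subgroup.smul_def, Sylow.smul_eq_iff_mem_normalizer, mem_subgroupOf]
  constructor
  · intro h
    have : (x : G) ∈ (P : Subgroup G) ⊓ normalizer (Q : Set G) := ⟨x.2, h⟩
    rw [P.2.inf_normalizer_sylow Q] at this
    exact this.2
  · exact fun h => le_normalizer h

/-- If `n_p ≢ 1 (mod p ^ k)` then two Sylow subgroups meet in a subgroup of index `≤ p ^ (k-1)`. -/
theorem exists_inter_index_le [Finite G] (p k : ℕ) [hp : Fact p.Prime]
    (h : ¬ Nat.card (Sylow p G) ≡ 1 [MOD p ^ k]) :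
    ∃ P R : Sylow p G,
      P ≠ R ∧ ((R : Subgroup G).subgroupOf (P : Subgroup G)).index ≤ p ^ (k - 1) := by
  classical
  haveI := Fintype.ofFinite (Sylow p G)
  by_contra hc
  push Not at hc
  apply h
  have P : Sylow p G := default
  haveI := Fintype.ofFinite (orbitRel.Quotient (↥(P : Subgroup G)) (Sylow p G))
  set ω₀ : orbitRel.Quotient (↥(P : Subgroup G)) (Sylow p G) := Quotient.mk'' P with hω₀
  have key : ∀ ω : orbitRel.Quotient (↥(P : Subgroup G)) (Sylow p G), ω ≠ ω₀ →
      p ^ k ∣ (stabilizer (↥(P : Subgroup G)) ω.out).index := by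
    intro ω hω
    obtain ⟨j, hj⟩ := P.2.index (stabilizer (↥(P : Subgroup G)) ω.out)
    have hne : P ≠ ω.out := fun e => hω (by rw [hω₀, ← Quotient.out_eq' ω, ← e])
    have := hc P ω.out hne
    rw [← stabilizer_sylow_eq_subgroupOf, hj] at this
    have : k - 1 < j := (Nat.pow_lt_pow_iff_right hp.out.one_lt).mp this
    rw [hj]
    exact pow_dvd_pow p (by omega)
  have h0 : (stabilizer (↥(P : Subgroup G)) ω₀.out).index = 1 := by
    have hm : ω₀.out ∈ orbit (↥(P : Subgroup G)) P := by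
      rw [← orbitRel_apply, ← Quotient.eq'']
      exact Quotient.out_eq' ω₀
    obtain ⟨x, hx⟩ := hm
    have hfix : x • P = P := by
      show (x : G) • P = P
      rw [Sylow.smul_eq_iff_mem_normalizer]
      exact le_normalizer x.2
    rw [← hx]
    show (stabilizer (↥(P : Subgroup G)) (x • P)).index = 1
    rw [hfix, stabilizer_sylow_eq_subgroupOf, Subgroup.subgroupOf_self, index_top]
  rw [Nat.card_congr (selfEquivSigmaOrbitsQuotientStabilizer (↥(P : Subgroup G)) (Sylow p G)),
    Nat.card_sigma]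
  simp only [← Subgroup.index_eq_card]
  rw [← Finset.add_sum_erase _ _ (Finset.mem_univ ω₀), h0]
  have : p ^ k ∣ ∑ ω ∈ Finset.univ.erase ω₀, (stabilizer (↥(P : Subgroup G)) ω.out).index :=
    Finset.dvd_sum fun ω hω => key ω (Finset.ne_of_mem_erase hω)
  obtain ⟨c, hc'⟩ := this
  rw [hc', Nat.ModEq, Nat.add_mul_mod_self_left]

/-- If `n_p ≢ 1 (mod p²)` there are two Sylow subgroups whose intersection has index `p` in both
and is normalized by both. -/
theorem exists_inter_index_prime [Finite G] (p : ℕ) [hp : Fact p.Prime]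
    (h : ¬ Nat.card (Sylow p G) ≡ 1 [MOD p ^ 2]) :
    ∃ P R : Sylow p G, P ≠ R ∧
      p * Nat.card ((P : Subgroup G) ⊓ (R : Subgroup G) : Subgroup G) =
        Nat.card (P : Subgroup G) ∧
      (P : Subgroup G) ≤ normalizer (((P : Subgroup G) ⊓ (R : Subgroup G) : Subgroup G) : Set G) ∧
      (R : Subgroup G) ≤ normalizer (((P : Subgroup G) ⊓ (R : Subgroup G) : Subgroup G) : Set G) := by
  obtain ⟨P, R, hne, hle⟩ := exists_inter_index_le p 2 h
  have hcard : p * Nat.card ((P : Subgroup G) ⊓ (R : Subgroup G) : Subgroup G) =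
      Nat.card (P : Subgroup G) := by
    obtain ⟨j, hj⟩ := P.2.index ((R : Subgroup G).subgroupOf (P : Subgroup G))
    have hj1 : j = 1 := by
      rw [hj, Nat.add_sub_cancel_right 1 1] at hle
      have h1 : j ≤ 1 := (Nat.pow_le_pow_iff_right hp.out.one_lt).mp hle
      have h0 : j ≠ 0 := by
        rintro rfl
        rw [pow_zero, index_eq_one, subgroupOf_eq_top] at hj
        exact hne (Sylow.ext ((P.3 R.2 hj).symm))
      omega
    have := relIndex_mul_relIndex ⊥ ((P : Subgroup G) ⊓ (R : Subgroup G)) (P : Subgroup G)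
      bot_le inf_le_left
    rw [relIndex_bot_left, relIndex_bot_left] at this
    rw [← this, mul_comm]
    congr 1
    rw [inf_relIndex_left]
    show p = ((R : Subgroup G).subgroupOf (P : Subgroup G)).index
    rw [hj, hj1, pow_one]
  have hnorm : ∀ A : Sylow p G, Nat.card (A : Subgroup G) = Nat.card (P : Subgroup G) →
      (P : Subgroup G) ⊓ (R : Subgroup G) ≤ (A : Subgroup G) →
      (A : Subgroup G) ≤
        normalizer (((P : Subgroup G) ⊓ (R : Subgroup G) : Subgroup G) : Set G) := by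
    intro A hA hle'
    set D := (P : Subgroup G) ⊓ (R : Subgroup G)
    have hidx : (D.subgroupOf (A : Subgroup G)).index = p := by
      have h1 := (D.subgroupOf (A : Subgroup G)).card_mul_index
      rw [Nat.card_congr (subgroupOfEquivOfLe hle').toEquiv, hA, ← hcard, mul_comm p] at h1
      exact Nat.eq_of_mul_eq_mul_left Nat.card_pos h1
    haveI hn : (D.subgroupOf (A : Subgroup G)).Normal := by
      refine normal_of_index_eq_minFac_card (hidx.trans ?_)
      rcases A.2.exists_card_eq with ⟨n, hn⟩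
      have hn0 : n ≠ 0 := by
        rintro rfl
        have h1 := (D.subgroupOf (A : Subgroup G)).index_dvd_card
        rw [hidx, hn, pow_zero] at h1
        exact hp.out.not_dvd_one h1
      rw [hn, Nat.pow_minFac hn0, hp.out.minFac_eq]
    exact (normal_subgroupOf_iff_le_normalizer hle').mp hn
  exact ⟨P, R, hne, hcard, hnorm P rfl inf_le_left,
    hnorm R (Nat.card_congr (Sylow.equiv R P).toEquiv) inf_le_right⟩

/-- A p-subgroup properly below a Sylow subgroup is properly below its normalizer there. -/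
theorem lt_inf_normalizer [Finite G] {p : ℕ} [Fact p.Prime] (P : Sylow p G) {D : Subgroup G}
    (hle : D ≤ (P : Subgroup G)) (hne : D ≠ (P : Subgroup G)) :
    D < (P : Subgroup G) ⊓ normalizer (D : Set G) := by
  haveI := P.2.isNilpotent
  have hlt : D.subgroupOf (P : Subgroup G) < ⊤ :=
    lt_top_iff_ne_top.mpr fun h => hne (le_antisymm hle (subgroupOf_eq_top.mp h))
  obtain ⟨x, hx, hx'⟩ := SetLike.exists_of_lt (Group.normalizerCondition_of_isNilpotent _ hlt)
  refine lt_of_le_of_ne (le_inf hle le_normalizer) fun h => hx' ?_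
  rw [mem_subgroupOf]
  rw [h]
  refine ⟨x.2, ?_⟩
  show (x : G) ∈ normalizer (D : Set G)
  rw [mem_normalizer_iff]
  intro y
  constructor
  · intro hy
    simpa [mem_subgroupOf] using (mem_normalizer_iff.mp hx ⟨y, hle hy⟩).mp hy
  · intro hy
    have hyP : y ∈ (P : Subgroup G) := by
      have := (P : Subgroup G).mul_mem ((P : Subgroup G).mul_mem ((P : Subgroup G).inv_mem x.2) (hle hy)) x.2
      simpa [mul_assoc] using this
    simpa [mem_subgroupOf] using
      (mem_normalizer_iff.mp hx ⟨y, hyP⟩).mpr (by simpa [mem_subgroupOf] using hy)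

/-- Structure of the normalizer of a maximal Sylow intersection. -/
theorem maximal_inter_normalizer [Finite G] (p : ℕ) [Fact p.Prime] (P Q : Sylow p G) (hPQ : P ≠ Q)
    (hmax : ∀ P' Q' : Sylow p G, P' ≠ Q' →
      Nat.card ↥((P' : Subgroup G) ⊓ (Q' : Subgroup G)) ≤
        Nat.card ↥((P : Subgroup G) ⊓ (Q : Subgroup G)))
    (D : Subgroup G) (hD : (P : Subgroup G) ⊓ (Q : Subgroup G) = D) :
    1 < Nat.card (Sylow p ↥(normalizer (D : Set G))) ∧
    (∀ S T : Sylow p ↥(normalizer (D : Set G)), S ≠ T →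
      (S : Subgroup _) ⊓ (T : Subgroup _) = D.subgroupOf (normalizer (D : Set G))) ∧
    ∀ S : Sylow p ↥(normalizer (D : Set G)), ∃! T : Sylow p G,
      (S : Subgroup _).map (normalizer (D : Set G)).subtype ≤ (T : Subgroup G) := by
  rw [hD] at hmax
  set N := normalizer (D : Set G) with hN
  have hDP : D ≤ (P : Subgroup G) := hD ▸ inf_le_left
  have hDQ : D ≤ (Q : Subgroup G) := hD ▸ inf_le_right
  have hDN : D ≤ N := le_normalizer
  have hDp : IsPGroup p (D.subgroupOf N) :=
    (P.2.to_le hDP).of_equiv (subgroupOfEquivOfLe hDN).symm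
  haveI hDnormal : (D.subgroupOf N).Normal := normal_in_normalizer
  have hDS : ∀ S : Sylow p N, D.subgroupOf N ≤ (S : Subgroup N) :=
    fun S => hDp.le_sylow_of_normal S
  have hDP' : D ≠ (P : Subgroup G) := fun h => hPQ (Sylow.ext (P.3 Q.2 (h ▸ hDQ)).symm)
  have hDQ' : D ≠ (Q : Subgroup G) := fun h => hPQ (Sylow.ext (Q.3 P.2 (h ▸ hDP)))
  have hgrow : ∀ A B : Subgroup G, A ≤ B → Nat.card B ≤ Nat.card A → A = B :=
    fun A B h1 h2 => Subgroup.eq_of_le_of_card_ge h1 h2
  -- Sylow subgroups of the normalizer lift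
  have hlift : ∀ S : Sylow p N, ∃ T : Sylow p G, (S : Subgroup N).map N.subtype ≤ T :=
    fun S => (S.2.map N.subtype).exists_le_sylow
  -- every Sylow subgroup of the normalizer is strictly bigger than D
  have hone : ∀ A : Sylow p G, D ≤ (A : Subgroup G) → D ≠ (A : Subgroup G) →
      ∃ S : Sylow p N, D < (A : Subgroup G) ⊓ N ∧
        (S : Subgroup N).map N.subtype ≤ (A : Subgroup G) := by
    intro A hA hA'
    have hlt := lt_inf_normalizer A hA hA'
    rw [← hN] at hlt
    have hp' : IsPGroup p ((A : Subgroup G).subgroupOf N) :=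
      A.2.comap_of_injective N.subtype N.subtype_injective
    obtain ⟨S, hS⟩ := hp'.exists_le_sylow
    obtain ⟨T, hT⟩ := hlift S
    refine ⟨S, hlt, ?_⟩
    have hAN : (A : Subgroup G) ⊓ N ≤ (T : Subgroup G) := fun x hx =>
      hT ⟨⟨x, hx.2⟩, hS (show (⟨x, hx.2⟩ : N) ∈ (A : Subgroup G).subgroupOf N from hx.1), rfl⟩
    by_cases hTA : T = A
    · exact hTA ▸ hT
    · exfalso
      have h1 := hmax T A hTA
      have h2 : Nat.card ((A : Subgroup G) ⊓ N : Subgroup G) ≤
          Nat.card ((T : Subgroup G) ⊓ (A : Subgroup G) : Subgroup G) :=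
        card_le_of_le (le_inf hAN inf_le_left)
      exact hlt.ne (hgrow _ _ hlt.le (h2.trans h1))
  obtain ⟨S₁, hlt₁, hS₁⟩ := hone P hDP hDP'
  obtain ⟨S₂, hlt₂, hS₂⟩ := hone Q hDQ hDQ'
  have hbig : ∀ S : Sylow p N, ¬ (S : Subgroup N).map N.subtype ≤ D := by
    intro S hS
    have h3 : Nat.card (S₁ : Subgroup N) ≤ Nat.card D := by
      rw [Nat.card_congr (Sylow.equiv S₁ S).toEquiv,
        Nat.card_congr ((S : Subgroup N).equivMapOfInjective N.subtype N.subtype_injective).toEquiv]
      exact card_le_of_le hS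
    have hp' : IsPGroup p ((P : Subgroup G).subgroupOf N) :=
      P.2.comap_of_injective N.subtype N.subtype_injective
    obtain ⟨S', hS'⟩ := hp'.exists_le_sylow
    have h4 : Nat.card ((P : Subgroup G) ⊓ N : Subgroup G) ≤ Nat.card (S₁ : Subgroup N) := by
      rw [Nat.card_congr (Sylow.equiv S₁ S').toEquiv,
        Nat.card_congr ((S' : Subgroup N).equivMapOfInjective N.subtype N.subtype_injective).toEquiv]
      exact card_le_of_le fun x hx => ⟨⟨x, hx.2⟩, hS' hx.1, rfl⟩
    exact hlt₁.ne (hgrow _ _ hlt₁.le (h4.trans h3))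
  have hDmap : ∀ S : Sylow p N, D ≤ (S : Subgroup N).map N.subtype :=
    fun S x hx => ⟨⟨x, hDN hx⟩, hDS S (show (⟨x, hDN hx⟩ : N) ∈ D.subgroupOf N from hx), rfl⟩
  have huniq : ∀ (S : Sylow p N) (T T' : Sylow p G), (S : Subgroup N).map N.subtype ≤ T →
      (S : Subgroup N).map N.subtype ≤ T' → T = T' := by
    intro S T T' h1 h2
    by_contra hne
    exact hbig S ((hgrow D _ ((hDmap S).trans (le_inf h1 h2)) (hmax T T' hne)) ▸ le_inf h1 h2)
  refine ⟨?_, ?_, fun S => ?_⟩
  · refine Finite.one_lt_card_iff_nontrivial.mpr ⟨S₁, S₂, fun h => ?_⟩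
    exact hbig S₁ (hD ▸ le_inf hS₁ (h ▸ hS₂))
  · intro S T hST
    refine le_antisymm ?_ (le_inf (hDS S) (hDS T))
    obtain ⟨S', hS'⟩ := hlift S
    obtain ⟨T', hT'⟩ := hlift T
    have hne : S' ≠ T' := by
      intro h
      apply hST
      have h1 : (S : Subgroup N) ≤ (S' : Subgroup G).subgroupOf N := fun x hx => hS' ⟨x, hx, rfl⟩
      have h2 : (T : Subgroup N) ≤ (S' : Subgroup G).subgroupOf N := fun x hx => h ▸ hT' ⟨x, hx, rfl⟩
      have hp' : IsPGroup p ((S' : Subgroup G).subgroupOf N) :=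
        S'.2.comap_of_injective N.subtype N.subtype_injective
      exact Sylow.ext ((S.3 hp' h1).symm.trans (T.3 hp' h2))
    have hle : D ≤ (S' : Subgroup G) ⊓ (T' : Subgroup G) :=
      le_inf ((hDmap S).trans hS') ((hDmap T).trans hT')
    intro x hx
    rw [mem_subgroupOf, hgrow D _ hle (hmax S' T' hne)]
    exact ⟨hS' ⟨x, hx.1, rfl⟩, hT' ⟨x, hx.2, rfl⟩⟩
  · obtain ⟨T, hT⟩ := hlift S
    exact ⟨T, hT, fun T' hT'' => huniq S T' T hT'' hT⟩

/-- **Brodkey's theorem**. -/
theorem brodkey [Finite G] (p : ℕ) [Fact p.Prime]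
    (hab : ∀ P : Sylow p G, IsMulCommutative ↥(P : Subgroup G)) :
    ∃ P Q : Sylow p G,
      (P : Subgroup G) ⊓ (Q : Subgroup G) = ⨅ R : Sylow p G, (R : Subgroup G) := by
  classical
  obtain ⟨D, ⟨P, Q, rfl⟩, hmin⟩ :=
    Set.Finite.exists_minimal (s := {D : Subgroup G | ∃ P Q : Sylow p G,
      D = (P : Subgroup G) ⊓ (Q : Subgroup G)}) (Set.toFinite _)
      ⟨_, default, default, rfl⟩
  refine ⟨P, Q, le_antisymm (le_iInf fun R => ?_) (le_inf (iInf_le _ P) (iInf_le _ Q))⟩
  set D := (P : Subgroup G) ⊓ (Q : Subgroup G) with hD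
  set K := centralizer (D : Set G) with hK
  have habel : ∀ A : Sylow p G, D ≤ (A : Subgroup G) → (A : Subgroup G) ≤ K := fun A hA a ha =>
    mem_centralizer_iff.mpr fun h hh =>
      congrArg Subtype.val ((hab A).1.1 (⟨h, hA hh⟩ : (A : Subgroup G)) ⟨a, ha⟩)
  have hPK : (P : Subgroup G) ≤ K := habel P inf_le_left
  have hQK : (Q : Subgroup G) ≤ K := habel Q inf_le_right
  have hp' : IsPGroup p ((R : Subgroup G).subgroupOf K) :=
    R.2.comap_of_injective K.subtype K.subtype_injective
  obtain ⟨S, hS⟩ := hp'.exists_le_sylow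
  obtain ⟨k, hk⟩ := exists_smul_eq K S (P.subtype hPK)
  have hle : ((k : G) • R : Sylow p G).1 ⊓ (Q : Subgroup G) ≤ D := by
    intro x hx
    refine ⟨?_, hx.2⟩
    have hxK : x ∈ K := hQK hx.2
    have h1 : (⟨x, hxK⟩ : K) ∈ ((k • S : Sylow p K) : Subgroup K) := by
      rw [Sylow.coe_subgroup_smul, mem_pointwise_smul_iff_inv_smul_mem]
      refine hS ?_
      have hx1 := hx.1
      change x ∈ MulAut.conj (k : G) • (R : Subgroup G) at hx1
      rw [mem_pointwise_smul_iff_inv_smul_mem] at hx1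
      simp only [mem_subgroupOf, MulAut.smul_def, MulAut.conj_inv_apply] at hx1 ⊢
      simpa using hx1
    rw [hk] at h1
    exact h1
  have hge : D ≤ ((k : G) • R : Sylow p G).1 ⊓ (Q : Subgroup G) :=
    hmin ⟨(k : G) • R, Q, rfl⟩ hle
  intro x hx
  have h2 := (hge hx).1
  change x ∈ MulAut.conj (k : G) • (R : Subgroup G) at h2
  rw [mem_pointwise_smul_iff_inv_smul_mem] at h2
  have hkc : x * (k : G) = (k : G) * x := mem_centralizer_iff.mp k.2 x hx
  simp only [MulAut.smul_def, MulAut.conj_inv_apply] at h2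
  rwa [show (k : G)⁻¹ * x * (k : G) = x by rw [mul_assoc, hkc, inv_mul_cancel_left]] at h2

end Cfsg.Agent.Lib.SmallGroups
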