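/-
Simple groups of order 4032 cannot have 64 Sylow 7-subgroups.
-/
import Mathlib
import Cfsg.Agent.Lib.SmallGroups.Basic
import Cfsg.Agent.Lib.SmallGroups.PrimeSylow
import Cfsg.Agent.Lib.SmallGroups.SqTwoPrimes
import Cfsg.Agent.Lib.SmallGroups.LargeCentralizer

set_option autoImplicit false
set_option linter.style.haveILetI false

namespace Cfsg.Agent.Lib.SmallGroups.Order4032

open Subgroup

variable {G : Type*} [Group G] [Finite G] [IsSimpleGroup G]

theorem not_sixty_four (h : Nat.card G = 4032) [Fact (Nat.Prime 7)]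
    (hn : Nat.card (Sylow 7 G) = 64) : False := by
  haveI : Fact (Nat.Prime 3) := ⟨Nat.prime_three⟩
  have hG : ¬ IsMulCommutative G := not_isMulCommutative_of_not_prime (by rw [h]; norm_num)
  have P : Sylow 7 G := default
  have hP : Nat.card (P : Subgroup G) = 7 :=
    (card_sylow_eq P (k := 1) (m := 576) (by rw [h]; norm_num) (by norm_num)).trans (pow_one 7)
  set N := normalizer ((P : Subgroup G) : Set G) with hNdef
  set C := centralizer ((P : Subgroup G) : Set G) with hCdef
  have hCN : C ≤ N := centralizer_le_normalizer' _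
  have hN : Nat.card N = 63 := by
    have h1 := card_normalizer_sylow_mul P
    rw [hn, h, ← hNdef] at h1
    omega
  have hC : Nat.card C = 21 := by
    obtain ⟨e, he, he1, ⟨c, hc⟩, hcard⟩ := exists_card_normalizer_eq_of_simple hG P hP
    rw [← hNdef, hN, hc] at hcard
    rw [← hCdef] at hc
    have h9 : e * c = 9 := by linarith
    have hmem : e ∈ Nat.divisors 6 := Nat.mem_divisors.mpr ⟨he, by norm_num⟩
    rw [show Nat.divisors 6 = {1, 2, 3, 6} from by decide +kernel] at hmem
    simp only [Finset.mem_insert, Finset.mem_singleton] at hmem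
    rw [hc]
    rcases hmem with rfl | rfl | rfl | rfl <;> omega
  -- proper subgroups above `N` are equal to it
  have key : ∀ H : Subgroup G, N ≤ H → H ≠ ⊤ → H = N := by
    intro H hH hHt
    obtain ⟨n, m, hn7, hcard, hdvd, hCm, hmN, hone⟩ :=
      sylow_data_of_centralizer_le P hP (hCN.trans hH)
    rw [← hCdef, hC] at hCm
    rw [← hNdef, hN] at hmN
    rw [h] at hdvd
    have h63 := card_dvd_of_le hH
    rw [hN, hcard] at h63
    refine le_antisymm (hone ?_) hH
    have hm : m ∈ Nat.divisors 63 := Nat.mem_divisors.mpr ⟨hmN, by norm_num⟩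
    rw [show Nat.divisors 63 = {1, 3, 7, 9, 21, 63} from by decide +kernel] at hm
    simp only [Finset.mem_insert, Finset.mem_singleton] at hm
    have hnd : n ∈ (Nat.divisors 192).filter (fun d => d % 7 = 1) := by
      refine Finset.mem_filter.mpr ⟨Nat.mem_divisors.mpr ⟨?_, by norm_num⟩, hn7⟩
      have h21 : n * 21 ∣ 192 * 21 := (Nat.mul_dvd_mul_left n hCm).trans hdvd
      exact Nat.dvd_of_mul_dvd_mul_right (by norm_num) h21
    rw [show (Nat.divisors 192).filter (fun d => d % 7 = 1) = {1, 8, 64} from by decide +kernel]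
      at hnd
    simp only [Finset.mem_insert, Finset.mem_singleton] at hnd
    have hmul := H.index_mul_card
    rw [hcard, h] at hmul
    have hne1 : H.index ≠ 1 := fun e => hHt (index_eq_one.mp e)
    rcases hnd with rfl | rfl | rfl
    · rfl
    · exfalso
      rcases hm with rfl | rfl | rfl | rfl | rfl | rfl <;> norm_num at hCm
      all_goals try norm_num at h63
      have hi : H.index = 8 := by omega
      obtain ⟨-, h2⟩ := card_centralizer_dvd_of_index_lt P hP hHt (by omega)
      rw [← hCdef, hC, hi] at h2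
      norm_num [Nat.factorial] at h2
    · exfalso
      rcases hm with rfl | rfl | rfl | rfl | rfl | rfl <;> norm_num at hCm
      all_goals try norm_num at h63
      omega
  -- the element `y`
  obtain ⟨⟨y, hyC⟩, hy⟩ := exists_prime_orderOf_dvd_card' (G := C) 3 (by rw [hC]; norm_num)
  rw [Subgroup.orderOf_mk] at hy
  have hy1 : y ≠ 1 := by rintro rfl; rw [orderOf_one] at hy; norm_num at hy
  have hsup : (P : Subgroup G) ⊔ zpowers y = C := by
    refine Subgroup.eq_of_le_of_card_ge (sup_le (le_centralizer_of_prime hP) (zpowers_le.mpr hyC)) ?_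
    have d1 := card_dvd_of_le (le_sup_left : (P : Subgroup G) ≤ (P : Subgroup G) ⊔ zpowers y)
    have d2 := card_dvd_of_le (le_sup_right : zpowers y ≤ (P : Subgroup G) ⊔ zpowers y)
    rw [hP] at d1
    rw [Nat.card_zpowers, hy] at d2
    rw [hC]
    exact Nat.le_of_dvd Nat.card_pos ((by norm_num : Nat.Coprime 7 3).mul_dvd_of_dvd_of_dvd d1 d2)
  have hCy : C ≤ centralizer ({y} : Set G) := by
    rw [← hsup]
    refine sup_le (fun u hu => ?_) (zpowers_le.mpr (mem_centralizer_singleton_iff.mpr rfl))
    exact mem_centralizer_singleton_iff.mpr (mem_centralizer_iff.mp hyC u hu)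
  have hCnorm : ∀ g ∈ N, ∀ c ∈ C, g * c * g⁻¹ ∈ C := by
    intro g hg c hc
    refine mem_centralizer_iff.mpr fun u hu => ?_
    have hu' : g⁻¹ * u * g ∈ (P : Subgroup G) := by
      have := (mem_normalizer_iff.mp (N.inv_mem hg) u).mp hu
      simpa using this
    have h1 := mem_centralizer_iff.mp hc _ hu'
    calc u * (g * c * g⁻¹) = g * ((g⁻¹ * u * g) * c) * g⁻¹ := by group
      _ = g * (c * (g⁻¹ * u * g)) * g⁻¹ := by rw [h1]
      _ = g * c * g⁻¹ * u := by group
  have hyz : ∀ c ∈ C, c ^ 3 = 1 → c ∈ zpowers y := by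
    intro c hc hc3
    have h1 : ∃ u ∈ (P : Subgroup G), ∃ z ∈ zpowers y, c = u * z := by
      have hcmem : c ∈ (P : Subgroup G) ⊔ zpowers y := by rw [hsup]; exact hc
      have hnorm : zpowers y ≤ normalizer ((P : Subgroup G) : Set G) :=
        zpowers_le.mpr (hCN hyC)
      rw [← SetLike.mem_coe, coe_mul_of_right_le_normalizer_left _ _ hnorm] at hcmem
      obtain ⟨u, hu, z, hz, rfl⟩ := Set.mem_mul.mp hcmem
      exact ⟨u, hu, z, hz, rfl⟩
    obtain ⟨u, hu, z, hz, rfl⟩ := h1
    have hcomm : Commute u z := mem_centralizer_iff.mp ((zpowers_le.mpr hyC) hz) u hu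
    have hz3 : z ^ 3 = 1 := by
      have := orderOf_dvd_natCard (⟨z, hz⟩ : zpowers y)
      rw [Subgroup.orderOf_mk, Nat.card_zpowers, hy] at this
      exact orderOf_dvd_iff_pow_eq_one.mp this
    rw [hcomm.mul_pow, hz3, mul_one] at hc3
    have hu7 : orderOf u ∣ 7 := by
      have := orderOf_dvd_natCard (⟨u, hu⟩ : (P : Subgroup G))
      rwa [Subgroup.orderOf_mk, hP] at this
    rw [orderOf_eq_one_iff.mp (Nat.eq_one_of_dvd_coprimes (by norm_num : Nat.Coprime 3 7)
      (orderOf_dvd_of_pow_eq_one hc3) hu7), one_mul]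
    exact hz
  have hNy : N ≤ centralizer ({y} : Set G) := by
    intro g hg
    have hmem := hyz _ (hCnorm g hg y hyC) (by
      rw [conj_pow, ← hy, pow_orderOf_eq_one, mul_one, mul_inv_cancel])
    obtain ⟨j, hj⟩ := mem_zpowers_iff.mp hmem
    have hj3 : (y ^ (j % 3) : G) = y ^ j := by
      rw [show (3 : ℤ) = ((orderOf y : ℕ) : ℤ) by rw [hy]; rfl, zpow_mod_orderOf]
    rw [← hj3] at hj
    have hcases : j % 3 = 0 ∨ j % 3 = 1 ∨ j % 3 = 2 := by omega
    rw [mem_centralizer_singleton_iff]
    rcases hcases with e | e | e <;> rw [e] at hj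
    · rw [zpow_zero, eq_comm, mul_inv_eq_one] at hj
      exact absurd (mul_eq_left.mp hj) hy1
    · rw [zpow_one] at hj
      exact (mul_inv_eq_iff_eq_mul.mp hj.symm)
    · -- inversion by an element of odd order is impossible
      exfalso
      have h2 : g * y * g⁻¹ = y⁻¹ := by
        rw [← hj, eq_inv_iff_mul_eq_one, show ((2 : ℤ)) = ((2 : ℕ) : ℤ) from rfl, zpow_natCast,
          ← pow_succ]
        exact orderOf_dvd_iff_pow_eq_one.mp (dvd_of_eq hy)
      have hodd : ∀ k : ℕ, (g ^ k) * y * (g ^ k)⁻¹ = if Even k then y else y⁻¹ := by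
        intro k
        induction k with
        | zero => simp
        | succ k ih =>
          rw [pow_succ']
          calc g * g ^ k * y * (g * g ^ k)⁻¹ = g * (g ^ k * y * (g ^ k)⁻¹) * g⁻¹ := by group
            _ = _ := by
              rw [ih]
              by_cases hk : Even k
              · rw [if_pos hk, if_neg (by rw [Nat.even_add_one]; simpa using hk), h2]
              · rw [if_neg hk, if_pos (by rw [Nat.even_add_one]; exact hk), ← conj_inv, h2, inv_inv]
      have h63 : g ^ 63 = 1 := by
        have := congrArg Subtype.val (pow_card_eq_one' (G := N) (x := ⟨g, hg⟩))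
        rw [hN] at this
        exact this
      have := hodd 63
      rw [h63, if_neg (by decide), one_mul, inv_one, mul_one, eq_inv_iff_mul_eq_one, ← pow_two]
        at this
      have := orderOf_dvd_of_pow_eq_one this
      rw [hy] at this
      norm_num at this
  have hCeq : centralizer ({y} : Set G) = N := key _ hNy (centralizer_ne_top hG hy1)
  have hnoinv : ∀ g : G, g * y * g⁻¹ ≠ y⁻¹ := by
    intro g hg
    have hle : N ≤ normalizer ((zpowers y : Subgroup G) : Set G) := by
      refine hNy.trans ?_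
      rw [← centralizer_closure, ← zpowers_eq_closure]
      exact centralizer_le_normalizer' _
    have hne : normalizer ((zpowers y : Subgroup G) : Set G) ≠ ⊤ := by
      refine normalizer_ne_top (zpowers_ne_bot.mpr hy1) fun e => ?_
      have := congrArg (fun H : Subgroup G => Nat.card H) e
      simp only [Nat.card_zpowers, card_top, h, hy] at this
      norm_num at this
    have hgK : g ∈ normalizer ((zpowers y : Subgroup G) : Set G) := by
      rw [mem_normalizer_iff_conj_image_eq]
      refine congrArg (fun H : Subgroup G => (H : Set G))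
        ((MonoidHom.map_zpowers (MulAut.conj g).toMonoidHom y).trans ?_)
      show zpowers (g * y * g⁻¹) = zpowers y
      rw [hg, zpowers_inv]
    rw [key _ hle hne, ← hCeq, mem_centralizer_singleton_iff] at hgK
    rw [hgK, mul_inv_cancel_right, eq_inv_iff_mul_eq_one, ← pow_two] at hg
    have := orderOf_dvd_of_pow_eq_one hg
    rw [hy] at this
    norm_num at this
  -- a Sylow 3-subgroup through `y`
  obtain ⟨Q, hQ⟩ := (IsPGroup.of_card (p := 3) (G := zpowers y) (n := 1)
    (by rw [Nat.card_zpowers, hy, pow_one])).exists_le_sylow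
  have hyQ : y ∈ (Q : Subgroup G) := hQ (mem_zpowers y)
  have hQ9 : Nat.card (Q : Subgroup G) = 9 := by
    rw [card_sylow_eq Q (k := 2) (m := 448) (by rw [h]; norm_num) (by norm_num)]; rfl
  haveI hab : IsMulCommutative (Q : Subgroup G) :=
    IsPGroup.isMulCommutative_of_card_eq_prime_sq (p := 3) (by rw [hQ9]; rfl)
  have hcomm : ∀ a ∈ (Q : Subgroup G), ∀ b ∈ (Q : Subgroup G), a * b = b * a := fun a ha b hb =>
    congrArg Subtype.val (hab.is_comm.comm (⟨a, ha⟩ : (Q : Subgroup G)) ⟨b, hb⟩)
  set M := normalizer ((Q : Subgroup G) : Set G) with hMdef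
  have hM7 : ¬ 7 ∣ Nat.card M := by
    intro h7
    have hCQN : centralizer ((Q : Subgroup G) : Set G) ≤ M := centralizer_le_normalizer' _
    have hmul := ((centralizer ((Q : Subgroup G) : Set G)).subgroupOf M).card_mul_index
    rw [Nat.card_congr (subgroupOfEquivOfLe hCQN).toEquiv] at hmul
    have haut : ((centralizer ((Q : Subgroup G) : Set G)).subgroupOf M).index ∣
        Nat.card (MulAut (Q : Subgroup G)) := by
      have := card_dvd_of_injective _
        (QuotientGroup.kerLift_injective (Q : Subgroup G).normalizerMonoidHom)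
      rwa [normalizerMonoidHom_ker, ← index] at this
    rcases (Nat.Prime.dvd_mul (by norm_num : Nat.Prime 7)).mp (hmul.symm ▸ h7) with h1 | h1
    · obtain ⟨⟨u, hu⟩, hu7⟩ := exists_prime_orderOf_dvd_card'
        (G := centralizer ((Q : Subgroup G) : Set G)) 7 h1
      rw [Subgroup.orderOf_mk] at hu7
      have hle : (Q : Subgroup G) ≤ centralizer ({u} : Set G) := fun a ha =>
        mem_centralizer_singleton_iff.mpr (mem_centralizer_iff.mp hu a ha)
      have h2 := card_dvd_of_le hle
      obtain ⟨R, hR, -⟩ := existsUnique_sylow_of_orderOf P hP hu7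
      have huR : u ∈ (R : Subgroup G) := hR ▸ mem_zpowers u
      rw [hQ9, centralizer_eq_of_prime ((Nat.card_congr (Sylow.equiv R P).toEquiv).trans hP) huR
        (by rintro rfl; rw [orderOf_one] at hu7; norm_num at hu7)] at h2
      have hconjC : Nat.card (centralizer ((R : Subgroup G) : Set G)) = 21 := by
        obtain ⟨g, rfl⟩ := MulAction.exists_smul_eq G P R
        rw [← hC]
        refine Nat.card_congr ((MulAut.conj g).toEquiv.subtypeEquiv fun x => ?_).symm
        rw [mem_centralizer_iff, mem_centralizer_iff]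
        open scoped Pointwise in
        constructor
        · intro h' z hz
          change z ∈ MulAut.conj g • (P : Subgroup G) at hz
          rw [Subgroup.mem_pointwise_smul_iff_inv_smul_mem] at hz
          have := congrArg (MulAut.conj g) (h' _ hz)
          simpa [mul_assoc] using this
        · intro h' z hz
          have hz' : MulAut.conj g z ∈ MulAut.conj g • (P : Subgroup G) :=
            Subgroup.smul_mem_pointwise_smul z (MulAut.conj g) _ hz
          exact (MulAut.conj g).injective (by simpa [map_mul] using h' _ hz')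
      rw [hconjC] at h2
      norm_num at h2
    · have := (eq_two_of_prime_dvd_mulAut (p := 3) Nat.prime_three (by norm_num : Nat.Prime 7)
        (by norm_num) (by rw [hQ9]; rfl) (h1.trans haut)).1
      norm_num at this
  -- the orbit of `y` under `M`
  have hstab : M ⊓ centralizer ({y} : Set G) = (Q : Subgroup G) := by
    refine (Subgroup.eq_of_le_of_card_ge (le_inf le_normalizer fun a ha =>
      mem_centralizer_singleton_iff.mpr (hcomm a ha y hyQ)) ?_).symm
    rw [hQ9]
    have h1 := card_dvd_of_le (inf_le_right : M ⊓ centralizer ({y} : Set G) ≤ _)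
    rw [hCeq, hN] at h1
    have h2 : ¬ 7 ∣ Nat.card ↥(M ⊓ N) := fun h7 => hM7 (h7.trans (card_dvd_of_le inf_le_left))
    rw [hCeq]
    have h3 : Nat.card ↥(M ⊓ N) ∈ (Nat.divisors 63).filter (fun d => ¬ 7 ∣ d) :=
      Finset.mem_filter.mpr ⟨Nat.mem_divisors.mpr ⟨h1, by norm_num⟩, h2⟩
    rw [show (Nat.divisors 63).filter (fun d => ¬ 7 ∣ d) = {1, 3, 9} from by decide +kernel] at h3
    simp only [Finset.mem_insert, Finset.mem_singleton] at h3
    have h4 : Nat.card ↥(M ⊓ N) ≤ 9 := by omega
    exact h4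
  classical
  haveI := Fintype.ofFinite (Q : Subgroup G)
  let O : Finset (Q : Subgroup G) := Finset.univ.filter fun a => ∃ g ∈ M, g * y * g⁻¹ = a.1
  let O' : Finset (Q : Subgroup G) := O.image fun a => a⁻¹
  have hOcard : O.card * 9 = Nat.card M := by
    let φ : M ⧸ (Q : Subgroup G).subgroupOf M → O := Quotient.lift
      (fun g => ⟨⟨g.1 * y * g.1⁻¹, (mem_normalizer_iff.mp g.2 y).mp hyQ⟩,
        Finset.mem_filter.mpr ⟨Finset.mem_univ _, g.1, g.2, rfl⟩⟩) fun a b hab' => by
      have h' : (a⁻¹ * b : M).1 ∈ (Q : Subgroup G) :=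
        mem_subgroupOf.mp (QuotientGroup.leftRel_apply.mp hab')
      push_cast at h'
      refine Subtype.ext (Subtype.ext ?_)
      show a.1 * y * a.1⁻¹ = b.1 * y * b.1⁻¹
      calc a.1 * y * a.1⁻¹ = a.1 * (y * (a.1⁻¹ * b.1)) * b.1⁻¹ := by group
        _ = a.1 * (a.1⁻¹ * b.1 * y) * b.1⁻¹ := by rw [hcomm _ h' y hyQ]
        _ = b.1 * y * b.1⁻¹ := by group
    have hφ : Function.Bijective φ := by
      constructor
      · intro a b
        induction a using QuotientGroup.induction_on with
        | H a =>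
          induction b using QuotientGroup.induction_on with
          | H b =>
            intro hab'
            have h1 : a.1 * y * a.1⁻¹ = b.1 * y * b.1⁻¹ :=
              congrArg (fun z : O => (z.1 : G)) hab'
            rw [QuotientGroup.eq, mem_subgroupOf, ← hstab]
            refine ⟨(a⁻¹ * b).2, mem_centralizer_singleton_iff.mpr ?_⟩
            push_cast
            calc a.1⁻¹ * b.1 * y = a.1⁻¹ * (b.1 * y * b.1⁻¹) * b.1 := by group
              _ = a.1⁻¹ * (a.1 * y * a.1⁻¹) * b.1 := by rw [h1]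
              _ = y * (a.1⁻¹ * b.1) := by group
      · rintro ⟨a, ha⟩
        obtain ⟨g, hg, hga⟩ := (Finset.mem_filter.mp ha).2
        exact ⟨QuotientGroup.mk ⟨g, hg⟩, Subtype.ext (Subtype.ext hga)⟩
    have h1 := ((Q : Subgroup G).subgroupOf M).card_mul_index
    rw [Nat.card_congr (subgroupOfEquivOfLe le_normalizer).toEquiv, hQ9, index_eq_card,
      Nat.card_congr (Equiv.ofBijective φ hφ), Nat.card_eq_finsetCard] at h1
    rw [← h1, mul_comm]
  have hdisj : Disjoint O O' := by
    rw [Finset.disjoint_left]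
    intro a ha ha'
    obtain ⟨b, hb, rfl⟩ := Finset.mem_image.mp ha'
    obtain ⟨g, -, hga⟩ := (Finset.mem_filter.mp ha).2
    obtain ⟨k, -, hkb⟩ := (Finset.mem_filter.mp hb).2
    refine hnoinv (k⁻¹ * g) ?_
    have h1 : g * y * g⁻¹ = (k * y * k⁻¹)⁻¹ := by rw [hga, hkb]; rfl
    calc k⁻¹ * g * y * (k⁻¹ * g)⁻¹ = k⁻¹ * (g * y * g⁻¹) * k := by group
      _ = y⁻¹ := by rw [h1]; group
  have hO' : O'.card = O.card := Finset.card_image_of_injective _ inv_injective
  have hsub : O ∪ O' ⊆ Finset.univ.erase 1 := by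
    intro a ha
    refine Finset.mem_erase.mpr ⟨?_, Finset.mem_univ _⟩
    have hnot : ∀ b ∈ O, b ≠ 1 := by
      intro b hb e
      obtain ⟨g, -, hgb⟩ := (Finset.mem_filter.mp hb).2
      rw [e, OneMemClass.coe_one, mul_inv_eq_one] at hgb
      exact hy1 (mul_eq_left.mp hgb)
    rcases Finset.mem_union.mp ha with ha | ha
    · exact hnot a ha
    · obtain ⟨b, hb, rfl⟩ := Finset.mem_image.mp ha
      exact inv_ne_one.mpr (hnot b hb)
  have h8 : (Finset.univ.erase (1 : (Q : Subgroup G))).card = 8 := by
    rw [Finset.card_erase_of_mem (Finset.mem_univ _), Finset.card_univ, ← Nat.card_eq_fintype_card,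
      hQ9]
  have hle8 := Finset.card_le_card hsub
  rw [Finset.card_union_of_disjoint hdisj, hO', h8] at hle8
  have hM1 : Nat.card M ≠ 9 := fun e => normalizer_ne_self_of_isMulCommutative hG
    (by rw [h]; norm_num) Q (Subgroup.eq_of_le_of_card_ge le_normalizer (by rw [← hMdef, e, hQ9])).symm
  have hmulM := card_normalizer_sylow_mul Q
  rw [← hMdef, h] at hmulM
  have hmod3 := card_sylow_modEq_one 3 G
  have hO4 : O.card = 4 := by
    rw [← hOcard, Nat.ModEq] at *
    have : O.card ≤ 4 := by omega
    interval_cases hc : O.card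
    all_goals omega
  obtain ⟨⟨g, hgM⟩, hg⟩ := exists_prime_orderOf_dvd_card' (G := M) 2 (by rw [← hOcard, hO4]; norm_num)
  rw [Subgroup.orderOf_mk] at hg
  have hgg : g * g = 1 := by rw [← pow_two, ← hg, pow_orderOf_eq_one]
  have hconjQ : ∀ a ∈ (Q : Subgroup G), g * a * g⁻¹ ∈ (Q : Subgroup G) := fun a ha =>
    (mem_normalizer_iff.mp hgM a).mp ha
  have hfix : ∀ w ∈ (Q : Subgroup G), g * w * g⁻¹ = w → w = 1 := by
    intro w hw hgw
    by_contra hw1
    have hall : O ∪ O' = Finset.univ.erase 1 :=
      Finset.eq_of_subset_of_card_le hsub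
        (by rw [Finset.card_union_of_disjoint hdisj, hO', h8, hO4])
    have hmem : (⟨w, hw⟩ : (Q : Subgroup G)) ∈ O ∪ O' := by
      rw [hall]
      exact Finset.mem_erase.mpr ⟨fun e => hw1 (congrArg Subtype.val e), Finset.mem_univ _⟩
    have hcase : ∀ v : G, ∀ k : G, k * y * k⁻¹ = v → g * v * g⁻¹ = v → False := by
      intro v k hk hgv
      have h1 : k⁻¹ * g * k ∈ N := by
        rw [← hCeq, mem_centralizer_singleton_iff]
        have h2 : g * v = v * g := mul_inv_eq_iff_eq_mul.mp hgv
        rw [← hk] at h2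
        calc k⁻¹ * g * k * y = k⁻¹ * (g * (k * y * k⁻¹)) * k := by group
          _ = k⁻¹ * (k * y * k⁻¹ * g) * k := by rw [h2]
          _ = y * (k⁻¹ * g * k) := by group
      have h3 := orderOf_dvd_natCard (⟨_, h1⟩ : N)
      rw [Subgroup.orderOf_mk, hN] at h3
      have h4 : k⁻¹ * g * k = MulAut.conj k⁻¹ g := by simp
      rw [h4, MulEquiv.orderOf_eq, hg] at h3
      norm_num at h3
    rcases Finset.mem_union.mp hmem with hm | hm
    · obtain ⟨k, -, hk⟩ := (Finset.mem_filter.mp hm).2
      exact hcase w k hk hgw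
    · obtain ⟨b, hb, hbw⟩ := Finset.mem_image.mp hm
      obtain ⟨k, -, hk⟩ := (Finset.mem_filter.mp hb).2
      have hbw' : (b.1 : G)⁻¹ = w := congrArg Subtype.val hbw
      refine hcase b.1 k hk ?_
      rw [← inv_inv (b.1 : G), hbw', ← conj_inv, hgw]
  refine hnoinv g ?_
  have h1 := hfix (y * (g * y * g⁻¹)) (mul_mem hyQ (hconjQ y hyQ)) ?_
  · exact (inv_eq_of_mul_eq_one_right h1).symm
  · have h2 : g * (g * y * g⁻¹) * g⁻¹ = y := by
      calc g * (g * y * g⁻¹) * g⁻¹ = (g * g) * y * (g * g)⁻¹ := by group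
        _ = y := by rw [hgg, inv_one, mul_one, one_mul]
    calc g * (y * (g * y * g⁻¹)) * g⁻¹ = (g * y * g⁻¹) * (g * (g * y * g⁻¹) * g⁻¹) := by group
      _ = _ := by rw [h2, hcomm _ (hconjQ y hyQ) y hyQ]

end Cfsg.Agent.Lib.SmallGroups.Order4032
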