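/-
Structure of a simple group of order 168: Sylow numbers, centralizers, element orders, classes.
-/
import Mathlib
import Cfsg.Agent.Lib.SmallGroups.Basic
import Cfsg.Agent.Lib.SmallGroups.PrimeSylow
import Cfsg.Agent.Lib.SmallGroups.Conj
import Cfsg.Agent.Lib.TwoGroup.Recognition

set_option autoImplicit false
set_option linter.style.haveILetI false

namespace Cfsg.Agent.Lib.SmallGroups.Order168

open Subgroup
open scoped Pointwise

variable {G : Type*} [Group G] [Finite G] [IsSimpleGroup G]

theorem nonabelian (h : Nat.card G = 168) : ¬ IsMulCommutative G :=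
  not_isMulCommutative_of_not_prime (by rw [h]; norm_num)

theorem card_sylow_seven (h : Nat.card G = 168) : Nat.card (Sylow 7 G) = 8 := by
  haveI : Fact (Nat.Prime 7) := ⟨by norm_num⟩
  have hn := card_sylow_mem (nonabelian h) (p := 7) (k := 1) (m := 24) (by rw [h]; norm_num)
    (by norm_num) one_ne_zero
  rw [show (Nat.divisors 24).filter (fun d => d % 7 = 1 ∧ d ≠ 1) = {8} by decide +kernel] at hn
  simpa using hn

theorem sylow_seven_data (h : Nat.card G = 168) [Fact (Nat.Prime 7)] (P : Sylow 7 G) :
    Nat.card (P : Subgroup G) = 7 ∧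
    Nat.card (normalizer ((P : Subgroup G) : Set G)) = 21 ∧
    Nat.card (centralizer ((P : Subgroup G) : Set G)) = 7 := by
  have hP : Nat.card (P : Subgroup G) = 7 := by
    rw [card_sylow_eq P (k := 1) (m := 24) (by rw [h]; norm_num) (by norm_num), pow_one]
  have hN := card_normalizer_sylow_mul P
  rw [card_sylow_seven h, h] at hN
  have hN' : Nat.card (normalizer ((P : Subgroup G) : Set G)) = 21 := by omega
  obtain ⟨e, he, he1, hpC, hcard⟩ := exists_card_normalizer_eq_of_simple (nonabelian h) P hP
  refine ⟨hP, hN', ?_⟩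
  obtain ⟨c, hc⟩ := hpC
  rw [hN', hc] at hcard
  have h1 : e * c = 3 := by
    have h2 : e * (7 * c) = 7 * (e * c) := by ring
    omega
  rcases (Nat.dvd_prime Nat.prime_three).mp (Dvd.intro c h1) with h2 | h2
  · exact absurd h2 he1
  · subst h2; omega

theorem card_sylow_three (h : Nat.card G = 168) : Nat.card (Sylow 3 G) = 28 := by
  haveI : Fact (Nat.Prime 3) := ⟨by norm_num⟩
  haveI : Fact (Nat.Prime 7) := ⟨by norm_num⟩
  have hG := nonabelian h
  have hc : Nat.card G = 3 ^ 1 * 56 := by rw [h]; norm_num
  have hn := card_sylow_mem hG (p := 3) hc (by norm_num) one_ne_zero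
  rw [show (Nat.divisors 56).filter (fun d => d % 3 = 1 ∧ d ≠ 1) = {4, 7, 28} by decide +kernel] at hn
  simp only [Finset.mem_insert, Finset.mem_singleton] at hn
  rcases hn with hn | hn | hn
  · have := two_mul_card_dvd_factorial_card_sylow hG (p := 3) (by rw [h]; norm_num)
    rw [hn, h] at this
    norm_num [Nat.factorial] at this
  · exfalso
    have P : Sylow 7 G := default
    obtain ⟨hP, hN, hC⟩ := sylow_seven_data h P
    set N := normalizer ((P : Subgroup G) : Set G) with hNdef
    have Q : Sylow 3 N := default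
    have hQ : Nat.card (Q : Subgroup N) = 3 := by
      rw [card_sylow_eq Q (k := 1) (m := 7) (by rw [hN]; norm_num) (by norm_num), pow_one]
    have hn7 : Nat.card (Sylow 3 N) = 7 := by
      rcases (Nat.dvd_prime (by norm_num : Nat.Prime 7)).mp
        (card_sylow_dvd (p := 3) (k := 1) (m := 7) (G := N) (by rw [hN]; norm_num) (by norm_num))
        with h1 | h1
      · exfalso
        haveI : Subsingleton (Sylow 3 N) := (Nat.card_eq_one_iff_unique.mp h1).1
        haveI := Q.normal_of_subsingleton
        haveI : ((P : Subgroup G).subgroupOf N).Normal := normal_in_normalizer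
        have hdisj : Disjoint (Q : Subgroup N) ((P : Subgroup G).subgroupOf N) := by
          refine disjoint_iff.mpr (inf_eq_bot_of_coprime ?_)
          rw [hQ, Nat.card_congr (subgroupOfEquivOfLe le_normalizer).toEquiv, hP]
          norm_num
        have hQC : (Q : Subgroup N).map N.subtype ≤ centralizer ((P : Subgroup G) : Set G) := by
          rintro x ⟨q, hq, rfl⟩
          rw [mem_centralizer_iff]
          intro y hy
          exact congrArg Subtype.val (Subgroup.commute_of_normal_of_disjoint _ _ inferInstance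
            inferInstance hdisj q ⟨y, le_normalizer hy⟩ hq hy).symm
        have := card_dvd_of_le hQC
        rw [Subgroup.card_map_of_injective N.subtype_injective, hQ, hC] at this
        norm_num at this
      · exact h1
    have hQ' : ∀ R : Sylow 3 G, Nat.card (R : Subgroup G) = 3 := fun R => by
      rw [card_sylow_eq R hc (by norm_num), pow_one]
    have hGc := card_orderOf_eq_prime (default : Sylow 3 G) (hQ' _)
    have hNc := card_orderOf_eq_prime Q hQ
    rw [hn] at hGc
    rw [hn7] at hNc
    let f : {g : N // orderOf g = 3} → {g : G // orderOf g = 3} :=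
      fun g => ⟨g.1.1, (Subgroup.orderOf_coe _).trans g.2⟩
    have hf : Function.Bijective f := (Nat.bijective_iff_injective_and_card f).mpr
      ⟨fun a b hab => Subtype.ext (Subtype.ext (congrArg (fun z => z.1) hab)), hNc.trans hGc.symm⟩
    have hall : ∀ g : G, orderOf g = 3 → g ∈ N := fun g hg => by
      obtain ⟨a, ha⟩ := hf.2 ⟨g, hg⟩
      have e : a.1.1 = g := congrArg Subtype.val ha
      exact e ▸ a.1.2
    obtain ⟨x, hx⟩ := exists_prime_orderOf_dvd_card' (G := G) 3 (by rw [h]; norm_num)
    have hle : normalClosure {x} ≤ N := by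
      rw [normalClosure, closure_le]
      intro y hy
      obtain ⟨a, ha, hxy⟩ := Group.mem_conjugatesOfSet_iff.mp hy
      rw [Set.mem_singleton_iff] at ha
      subst ha
      obtain ⟨c, rfl⟩ := isConj_iff.mp hxy
      exact hall _ ((orderOf_injective (MulAut.conj c).toMonoidHom (MulEquiv.injective _) a).trans hx)
    rcases (normalClosure_normal (s := ({x} : Set G))).eq_bot_or_eq_top with hb | ht
    · have : x ∈ normalClosure ({x} : Set G) := subset_normalClosure rfl
      rw [hb, Subgroup.mem_bot] at this
      rw [this, orderOf_one] at hx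
      norm_num at hx
    · exact normalizer_sylow_ne_top hG (by rw [h]; norm_num) P (top_le_iff.mp (ht ▸ hle))
  · exact hn

theorem sylow_three_data (h : Nat.card G = 168) [Fact (Nat.Prime 3)] (P : Sylow 3 G) :
    Nat.card (P : Subgroup G) = 3 ∧
    Nat.card (normalizer ((P : Subgroup G) : Set G)) = 6 ∧
    Nat.card (centralizer ((P : Subgroup G) : Set G)) = 3 := by
  have hP : Nat.card (P : Subgroup G) = 3 := by
    rw [card_sylow_eq P (k := 1) (m := 56) (by rw [h]; norm_num) (by norm_num), pow_one]
  have hN := card_normalizer_sylow_mul P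
  rw [card_sylow_three h, h] at hN
  have hN' : Nat.card (normalizer ((P : Subgroup G) : Set G)) = 6 := by omega
  obtain ⟨e, he, he1, hpC, hcard⟩ := exists_card_normalizer_eq_of_simple (nonabelian h) P hP
  refine ⟨hP, hN', ?_⟩
  rcases (Nat.dvd_prime Nat.prime_two).mp he with h2 | h2
  · exact absurd h2 he1
  · subst h2; omega

/-- Elements of order 3 and 7 are self-centralizing. -/
theorem centralizer_card (h : Nat.card G = 168) {x : G} (hx : orderOf x = 3 ∨ orderOf x = 7) :
    Nat.card (centralizer ({x} : Set G)) = orderOf x := by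
  rcases hx with hx | hx
  all_goals
    haveI : Fact (orderOf x).Prime := ⟨by rw [hx]; norm_num⟩
    obtain ⟨Q, hQ⟩ :=
      (IsPGroup.of_card (p := orderOf x) (n := 1) (by rw [Nat.card_zpowers, pow_one]) :
        IsPGroup (orderOf x) (zpowers x)).exists_le_sylow
    have hx1 : x ≠ 1 := fun e => by rw [e, orderOf_one] at hx; norm_num at hx
  · haveI : Fact (Nat.Prime 3) := ⟨by norm_num⟩
    revert Q
    rw [hx]
    intro Q hQ
    obtain ⟨h1, -, h3⟩ := sylow_three_data h Q
    rw [centralizer_eq_of_prime h1 (hQ (mem_zpowers x)) hx1, h3]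
  · haveI : Fact (Nat.Prime 7) := ⟨by norm_num⟩
    revert Q
    rw [hx]
    intro Q hQ
    obtain ⟨h1, -, h3⟩ := sylow_seven_data h Q
    rw [centralizer_eq_of_prime h1 (hQ (mem_zpowers x)) hx1, h3]

/-- Centralizers of non-trivial 2-elements are 2-groups: their order divides 8. -/
theorem centralizer_dvd_eight (h : Nat.card G = 168) {z : G} (hz : orderOf z = 2 ∨ orderOf z = 4) :
    Nat.card (centralizer ({z} : Set G)) ∣ 8 := by
  have hd : Nat.card (centralizer ({z} : Set G)) ∣ 8 * 21 :=
    (card_subgroup_dvd_card _).trans h.dvd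
  have key : ∀ q : ℕ, q.Prime → (q = 3 ∨ q = 7) → ¬ q ∣ Nat.card (centralizer ({z} : Set G)) := by
    intro q hq hq' hdvd
    haveI : Fact q.Prime := ⟨hq⟩
    obtain ⟨⟨y, hy⟩, hyo⟩ := exists_prime_orderOf_dvd_card' q hdvd
    rw [orderOf_mk] at hyo
    have hc : zpowers z ≤ centralizer ({y} : Set G) := by
      rw [zpowers_le, mem_centralizer_singleton_iff]
      exact (mem_centralizer_singleton_iff.mp hy).symm
    have h1 := card_dvd_of_le hc
    rw [Nat.card_zpowers, centralizer_card h (hyo ▸ hq'), hyo] at h1
    rcases hq' with rfl | rfl <;> rcases hz with hz | hz <;> rw [hz] at h1 <;> norm_num at h1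
  refine (Nat.Coprime.dvd_of_dvd_mul_right ?_ hd)
  have h3 := (Nat.prime_three.coprime_iff_not_dvd).mpr (key 3 Nat.prime_three (Or.inl rfl))
  have h7 := ((by norm_num : Nat.Prime 7).coprime_iff_not_dvd).mpr (key 7 (by norm_num) (Or.inr rfl))
  exact (h3.mul_left h7).symm

theorem card_sylow_two_subgroup (h : Nat.card G = 168) [Fact (Nat.Prime 2)] (T : Sylow 2 G) :
    Nat.card (T : Subgroup G) = 8 := by
  rw [card_sylow_eq T (k := 3) (m := 21) (by rw [h]; norm_num) (by norm_num)]
  norm_num

theorem card_sylow_two (h : Nat.card G = 168) : Nat.card (Sylow 2 G) = 21 := by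
  haveI : Fact (Nat.Prime 2) := ⟨Nat.prime_two⟩
  haveI : Fact (Nat.Prime 3) := ⟨Nat.prime_three⟩
  have hG := nonabelian h
  have hn := card_sylow_mem hG (p := 2) (k := 3) (m := 21) (by rw [h]; norm_num) (by norm_num)
    (by norm_num)
  rw [show (Nat.divisors 21).filter (fun d => d % 2 = 1 ∧ d ≠ 1) = {3, 7, 21} by decide +kernel] at hn
  simp only [Finset.mem_insert, Finset.mem_singleton] at hn
  rcases hn with hn | hn | hn
  · have := two_mul_card_dvd_factorial_card_sylow hG (p := 2) (by rw [h]; norm_num)
    rw [hn, h] at this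
    norm_num [Nat.factorial] at this
  · exfalso
    have T : Sylow 2 G := default
    have hN := card_normalizer_sylow_mul T
    rw [hn, h] at hN
    obtain ⟨⟨y, hy⟩, hyo⟩ := exists_prime_orderOf_dvd_card'
      (G := normalizer ((T : Subgroup G) : Set G)) 3
      (by rw [show Nat.card (normalizer ((T : Subgroup G) : Set G)) = 24 by omega]; norm_num)
    rw [orderOf_mk] at hyo
    have hyN : ∀ (u : zpowers y) (t : G), t ∈ (T : Subgroup G) →
        u.1 * t * u.1⁻¹ ∈ (T : Subgroup G) := fun u t ht =>
      (mem_normalizer_iff.mp (zpowers_le.mpr hy u.2) t).mp ht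
    letI : MulAction (zpowers y) (T : Subgroup G) :=
      { smul := fun u t => ⟨u.1 * t.1 * u.1⁻¹, hyN u t.1 t.2⟩
        one_smul := fun t => Subtype.ext (by show (1 : G) * t.1 * (1 : G)⁻¹ = t.1; group)
        mul_smul := fun u v t => Subtype.ext (by
          show (u.1 * v.1) * t.1 * (u.1 * v.1)⁻¹ = u.1 * (v.1 * t.1 * v.1⁻¹) * u.1⁻¹
          group) }
    have hp : IsPGroup 3 (zpowers y) :=
      IsPGroup.of_card (n := 1) (by rw [Nat.card_zpowers, hyo, pow_one])
    have hmod := hp.card_modEq_card_fixedPoints (T : Subgroup G)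
    have hfix : Nat.card (MulAction.fixedPoints (zpowers y) (T : Subgroup G)) = 1 := by
      rw [Nat.card_eq_one_iff_unique]
      refine ⟨⟨fun a b => ?_⟩, ⟨1, fun u => Subtype.ext ?_⟩⟩
      · have key : ∀ c : MulAction.fixedPoints (zpowers y) (T : Subgroup G), c.1 = 1 := by
          intro c
          have hc : y * c.1.1 * y⁻¹ = c.1.1 :=
            congrArg Subtype.val (c.2 ⟨y, mem_zpowers y⟩)
          have hcy : c.1.1 ∈ centralizer ({y} : Set G) := by
            rw [mem_centralizer_singleton_iff]
            calc c.1.1 * y = (y * c.1.1 * y⁻¹) * y := by rw [hc]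
              _ = y * c.1.1 := by group
          have hd := card_dvd_of_le (zpowers_le.mpr hcy)
          rw [Nat.card_zpowers, centralizer_card h (Or.inl hyo), hyo] at hd
          have h8 : orderOf c.1.1 ∣ 8 := by
            rw [← card_sylow_two_subgroup h T, Subgroup.orderOf_coe]
            exact orderOf_dvd_natCard _
          exact Subtype.ext (orderOf_eq_one_iff.mp
            (Nat.eq_one_of_dvd_coprimes (by norm_num) hd h8))
        exact Subtype.ext ((key a).trans (key b).symm)
      · show u.1 * (1 : G) * u.1⁻¹ = 1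
        group
    rw [hfix, card_sylow_two_subgroup h T] at hmod
    exact absurd hmod (by decide)
  · exact hn

theorem normalizer_sylow_two (h : Nat.card G = 168) [Fact (Nat.Prime 2)] (T : Sylow 2 G) :
    normalizer ((T : Subgroup G) : Set G) = T := by
  have hN := card_normalizer_sylow_mul T
  rw [card_sylow_two h, h] at hN
  exact (Subgroup.eq_of_le_of_card_ge le_normalizer
    (by rw [card_sylow_two_subgroup h T]; omega)).symm

theorem sylow_two_not_comm (h : Nat.card G = 168) [Fact (Nat.Prime 2)] (T : Sylow 2 G) :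
    ¬ IsMulCommutative (T : Subgroup G) := fun hc => by
  haveI := hc
  exact normalizer_ne_self_of_isMulCommutative (nonabelian h) (by rw [h]; norm_num) T
    (normalizer_sylow_two h T)

/-- The centralizer of a nontrivial central element of a Sylow 2-subgroup is that subgroup. -/
theorem centralizer_central (h : Nat.card G = 168) [Fact (Nat.Prime 2)] (T : Sylow 2 G) {z : G}
    (hzT : z ∈ (T : Subgroup G)) (hz1 : z ≠ 1) (hz : ∀ t ∈ (T : Subgroup G), t * z = z * t) :
    centralizer ({z} : Set G) = T := by
  have hle : (T : Subgroup G) ≤ centralizer ({z} : Set G) := fun t ht =>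
    mem_centralizer_singleton_iff.mpr (hz t ht)
  have ho : orderOf z ∣ 8 := by
    have h1 := orderOf_dvd_natCard (⟨z, hzT⟩ : (T : Subgroup G))
    rwa [orderOf_mk, card_sylow_two_subgroup h T] at h1
  have h24 : orderOf z = 2 ∨ orderOf z = 4 := by
    have h2 : orderOf z ≠ 8 := fun e => sylow_two_not_comm h T (by
      haveI : IsCyclic (T : Subgroup G) :=
        isCyclic_of_orderOf_eq_card (⟨z, hzT⟩ : (T : Subgroup G))
          (by rw [orderOf_mk, e, card_sylow_two_subgroup h T])
      infer_instance)
    have h3 : orderOf z ≠ 1 := fun e => hz1 (orderOf_eq_one_iff.mp e)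
    have h4 := Nat.le_of_dvd (by norm_num) ho
    interval_cases hk : orderOf z <;> norm_num at *
  exact (Subgroup.eq_of_le_of_card_ge hle (by
    rw [card_sylow_two_subgroup h T]
    exact Nat.le_of_dvd (by norm_num) (centralizer_dvd_eight h h24))).symm

theorem orders (h : Nat.card G = 168) (g : G) :
    orderOf g = 1 ∨ orderOf g = 2 ∨ orderOf g = 3 ∨ orderOf g = 4 ∨ orderOf g = 7 := by
  haveI : Fact (Nat.Prime 2) := ⟨Nat.prime_two⟩
  have hd : orderOf g ∣ 168 := h ▸ orderOf_dvd_natCard g
  by_cases h8 : orderOf g = 8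
  · exfalso
    obtain ⟨T, hT⟩ := (IsPGroup.of_card (p := 2) (n := 3)
      (by rw [Nat.card_zpowers, h8]; norm_num) : IsPGroup 2 (zpowers g)).exists_le_sylow
    have hgT : g ∈ (T : Subgroup G) := hT (mem_zpowers g)
    refine sylow_two_not_comm h T ?_
    haveI : IsCyclic (T : Subgroup G) :=
      isCyclic_of_orderOf_eq_card (⟨g, hgT⟩ : (T : Subgroup G))
        (by rw [orderOf_mk, h8, card_sylow_two_subgroup h T])
    infer_instance
  have hmix : ∀ q : ℕ, (q = 3 ∨ q = 7) → q ∣ orderOf g → orderOf g = q := by
    intro q hq hdvd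
    have hx : orderOf (g ^ (orderOf g / q)) = q := orderOf_pow_orderOf_div (orderOf_pos g).ne' hdvd
    have hc : zpowers g ≤ centralizer ({g ^ (orderOf g / q)} : Set G) := by
      rw [zpowers_le, mem_centralizer_singleton_iff]
      exact Commute.self_pow g _
    have h1 := card_dvd_of_le hc
    rw [Nat.card_zpowers, centralizer_card h (hq.imp (fun e => hx.trans e) (fun e => hx.trans e)), hx] at h1
    exact Nat.dvd_antisymm h1 hdvd
  have h21 : orderOf g ∈ Nat.divisors 168 := Nat.mem_divisors.mpr ⟨hd, by norm_num⟩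
  rw [show Nat.divisors 168 = {1, 2, 3, 4, 6, 7, 8, 12, 14, 21, 24, 28, 42, 56, 84, 168} by
    decide +kernel] at h21
  simp only [Finset.mem_insert, Finset.mem_singleton] at h21
  rcases h21 with e | e | e | e | e | e | e | e | e | e | e | e | e | e | e | e
  all_goals
    first
    | (left; exact e)
    | (right; left; exact e)
    | (right; right; left; exact e)
    | (right; right; right; left; exact e)
    | (right; right; right; right; exact e)
    | exact absurd e h8
    | (have h3 : 3 ∣ orderOf g := by rw [e]; decide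
       have := hmix 3 (Or.inl rfl) h3; omega)
    | (have h7 : 7 ∣ orderOf g := by rw [e]; decide
       have := hmix 7 (Or.inr rfl) h7; omega)

theorem card_order_seven (h : Nat.card G = 168) : Nat.card {g : G // orderOf g = 7} = 48 := by
  haveI : Fact (Nat.Prime 7) := ⟨by norm_num⟩
  rw [card_orderOf_eq_prime (default : Sylow 7 G) (sylow_seven_data h _).1, card_sylow_seven h]

theorem card_order_three (h : Nat.card G = 168) : Nat.card {g : G // orderOf g = 3} = 56 := by
  haveI : Fact (Nat.Prime 3) := ⟨by norm_num⟩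
  rw [card_orderOf_eq_prime (default : Sylow 3 G) (sylow_three_data h _).1, card_sylow_three h]

/-- Numbers of involutions and of elements of order 4 add up to 63. -/
theorem card_two_four (h : Nat.card G = 168) :
    Nat.card {g : G // orderOf g = 2} + Nat.card {g : G // orderOf g = 4} = 63 := by
  classical
  haveI := Fintype.ofFinite G
  have h3 := card_order_three h
  have h7 := card_order_seven h
  simp only [Nat.card_eq_fintype_card, Fintype.card_subtype] at h3 h7 ⊢
  have hsum : Fintype.card G = ∑ k ∈ ({1, 2, 3, 4, 7} : Finset ℕ),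
      (Finset.univ.filter (fun g : G => orderOf g = k)).card := by
    rw [← Finset.card_univ]
    exact Finset.card_eq_sum_card_fiberwise fun g _ => by
      simp only [Finset.mem_coe, Finset.mem_insert, Finset.mem_singleton]
      exact orders h g
  have h1 : (Finset.univ.filter (fun g : G => orderOf g = 1)).card = 1 := by
    rw [Finset.card_eq_one]
    exact ⟨1, by ext g; simp⟩
  rw [Finset.sum_insert (by decide), Finset.sum_insert (by decide), Finset.sum_insert (by decide),
    Finset.sum_insert (by decide), Finset.sum_singleton, ← Nat.card_eq_fintype_card, h] at hsum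
  omega

/-- A chosen central involution of a Sylow 2-subgroup. -/
theorem exists_central (h : Nat.card G = 168) [Fact (Nat.Prime 2)] (T : Sylow 2 G) :
    ∃ z : G, z ∈ (T : Subgroup G) ∧ orderOf z = 2 ∧ ∀ t ∈ (T : Subgroup G), t * z = z * t := by
  haveI : Nontrivial (T : Subgroup G) :=
    Finite.one_lt_card_iff_nontrivial.mp (by rw [card_sylow_two_subgroup h T]; norm_num)
  haveI := T.2.center_nontrivial
  obtain ⟨k, hk⟩ := IsPGroup.iff_card.mp (T.2.to_subgroup (center (T : Subgroup G)))
  have hk0 : 2 ∣ Nat.card (center (T : Subgroup G)) := by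
    have h1 : 1 < Nat.card (center (T : Subgroup G)) := Finite.one_lt_card
    rw [hk] at h1 ⊢
    exact dvd_pow_self 2 (by rintro rfl; simp at h1)
  obtain ⟨c, hc⟩ := exists_prime_orderOf_dvd_card' 2 hk0
  refine ⟨c.1.1, c.1.2, ?_, fun t ht => ?_⟩
  · rw [Subgroup.orderOf_coe, Subgroup.orderOf_coe]; exact hc
  · exact congrArg Subtype.val (mem_center_iff.mp c.2 ⟨t, ht⟩)

/-- Map a Sylow 2-subgroup to its central involution; injective. -/
theorem eq_of_central (h : Nat.card G = 168) [Fact (Nat.Prime 2)] {T T' : Sylow 2 G} {z : G}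
    (hz2 : orderOf z = 2) (hzT : z ∈ (T : Subgroup G))
    (hz : ∀ t ∈ (T : Subgroup G), t * z = z * t) (hzT' : z ∈ (T' : Subgroup G))
    (hz' : ∀ t ∈ (T' : Subgroup G), t * z = z * t) : T = T' := by
  have hz1 : z ≠ 1 := fun e => by rw [e, orderOf_one] at hz2; norm_num at hz2
  exact Sylow.ext ((centralizer_central h T hzT hz1 hz).symm.trans
    (centralizer_central h T' hzT' hz1 hz'))

/-- Each Sylow 2-subgroup is dihedral. -/
theorem exists_dihedral_gens (h : Nat.card G = 168) [Fact (Nat.Prime 2)] (T : Sylow 2 G) :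
    ∃ a b : G, a ∈ (T : Subgroup G) ∧ b ∈ (T : Subgroup G) ∧ orderOf a = 4 ∧ b * b = 1 ∧
      b * a * b⁻¹ = a⁻¹ ∧ b ∉ zpowers a ∧
      ∀ g ∈ (T : Subgroup G), g ∈ zpowers a ∨ b * g ∈ zpowers a := by
  classical
  have hT := card_sylow_two_subgroup h T
  have hexp : ∀ t ∈ (T : Subgroup G), orderOf t = 1 ∨ orderOf t = 2 ∨ orderOf t = 4 := by
    intro t ht
    have h1 := orderOf_dvd_natCard (⟨t, ht⟩ : (T : Subgroup G))
    rw [orderOf_mk, hT] at h1
    rcases orders h t with e | e | e | e | e <;> rw [e] at h1 <;> simp_all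
  obtain ⟨a, haT, ha⟩ : ∃ a ∈ (T : Subgroup G), orderOf a = 4 := by
    by_contra hc
    push Not at hc
    refine sylow_two_not_comm h T ⟨⟨mul_comm_of_exponent_two ?_⟩⟩
    refine Nat.dvd_antisymm (Monoid.exponent_dvd_of_forall_pow_eq_one fun u => Subtype.ext ?_) ?_
    · have : orderOf u.1 ∣ 2 := by
        rcases hexp u.1 u.2 with e | e | e
        · rw [e]; norm_num
        · rw [e]
        · exact absurd e (hc u.1 u.2)
      exact orderOf_dvd_iff_pow_eq_one.mp this
    · obtain ⟨z, hzT, hz2, -⟩ := exists_central h T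
      have h2 : orderOf (⟨z, hzT⟩ : (T : Subgroup G)) = 2 := by rw [orderOf_mk]; exact hz2
      exact h2.symm.dvd.trans (Monoid.order_dvd_exponent _)
  have hA : Nat.card (zpowers a) = 4 := by rw [Nat.card_zpowers, ha]
  have hAT : zpowers a ≤ (T : Subgroup G) := zpowers_le.mpr haT
  have hidx : ((zpowers a).subgroupOf (T : Subgroup G)).index = 2 := by
    have h1 := ((zpowers a).subgroupOf (T : Subgroup G)).card_mul_index
    rw [Nat.card_congr (subgroupOfEquivOfLe hAT).toEquiv, hA, hT] at h1
    omega
  haveI hnorm := normal_of_index_eq_two hidx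
  -- an involution outside the cyclic subgroup
  obtain ⟨b, hbT, hbA, hb⟩ : ∃ b ∈ (T : Subgroup G), b ∉ zpowers a ∧ b * b = 1 := by
    by_contra hc
    push Not at hc
    -- then every Sylow 2-subgroup has six elements of order 4, too many
    have hone : ∀ t ∈ (T : Subgroup G), orderOf t = 2 → t = a ^ 2 := by
      intro t ht ht2
      have htA : t ∈ zpowers a := by
        by_contra hn
        refine hc t ht hn ?_
        rw [← pow_two]
        exact orderOf_dvd_iff_pow_eq_one.mp ht2.dvd
      obtain ⟨k, hk, hk'⟩ : ∃ k < 4, a ^ k = t := by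
        rw [← mem_powers_iff_mem_zpowers] at htA
        obtain ⟨m, hm⟩ := htA
        exact ⟨m % 4, Nat.mod_lt _ (by norm_num), by rw [← hm, ← ha]; exact pow_mod_orderOf a m⟩
      rw [← hk'] at ht2 ⊢
      interval_cases k
      · rw [pow_zero, orderOf_one] at ht2; norm_num at ht2
      · rw [pow_one, ha] at ht2; norm_num at ht2
      · rfl
      · exfalso
        rw [Nat.Coprime.orderOf_pow (by rw [ha]; norm_num), ha] at ht2
        norm_num at ht2
    haveI := Fintype.ofFinite (Sylow 2 G)
    have hsix : ∀ T' : Sylow 2 G, 6 ≤ Nat.card {g : (T' : Subgroup G) // orderOf g = 4} := by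
      intro T'
      let e := Sylow.equiv T' T
      rw [Nat.card_congr (e.toEquiv.subtypeEquiv (q := fun g => orderOf g = 4)
        fun g => by show orderOf g = 4 ↔ orderOf (e g) = 4; rw [MulEquiv.orderOf_eq])]
      haveI := Fintype.ofFinite (T : Subgroup G)
      rw [Nat.card_eq_fintype_card, Fintype.card_subtype]
      have hsub : ((Finset.univ : Finset (T : Subgroup G)) \
          {1, ⟨a ^ 2, (T : Subgroup G).pow_mem haT 2⟩}) ⊆
          Finset.univ.filter (fun g => orderOf g = 4) := by
        intro g hg
        simp only [Finset.mem_sdiff, Finset.mem_univ, Finset.mem_insert, Finset.mem_singleton,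
          true_and, not_or] at hg
        rw [Finset.mem_filter, ← Subgroup.orderOf_coe]
        refine ⟨Finset.mem_univ _, ?_⟩
        rcases hexp g.1 g.2 with e1 | e1 | e1
        · exact absurd (Subtype.ext (orderOf_eq_one_iff.mp e1)) hg.1
        · exact absurd (Subtype.ext (hone g.1 g.2 e1)) hg.2
        · exact e1
      refine le_trans ?_ (Finset.card_le_card hsub)
      have h2 : ({1, ⟨a ^ 2, (T : Subgroup G).pow_mem haT 2⟩} : Finset (T : Subgroup G)).card ≤ 2 :=
        Finset.card_le_two
      have h3 := Finset.le_card_sdiff ({1, ⟨a ^ 2, (T : Subgroup G).pow_mem haT 2⟩} :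
        Finset (T : Subgroup G)) Finset.univ
      rw [Finset.card_univ, ← Nat.card_eq_fintype_card, hT] at h3
      omega
    have hcent : ∀ (T' : Sylow 2 G), ∀ t ∈ (T' : Subgroup G), orderOf t = 4 →
        (∀ u ∈ (T' : Subgroup G), u * t ^ 2 = t ^ 2 * u) := by
      -- the square is the only involution, hence central
      intro T' t ht ht4 u hu
      obtain ⟨z, hzT, hz2, hzc⟩ := exists_central h T'
      let e := Sylow.equiv T' T
      have huniq : ∀ s : (T' : Subgroup G), orderOf s = 2 → (e s).1 = a ^ 2 := fun s hs =>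
        hone _ (e s).2 (by rw [Subgroup.orderOf_coe, MulEquiv.orderOf_eq, hs])
      have h2 : orderOf (⟨t ^ 2, (T' : Subgroup G).pow_mem ht 2⟩ : (T' : Subgroup G)) = 2 := by
        rw [orderOf_mk, orderOf_pow, ht4]
        norm_num
      have hz2' : orderOf (⟨z, hzT⟩ : (T' : Subgroup G)) = 2 := by rw [orderOf_mk]; exact hz2
      have : t ^ 2 = z := congrArg Subtype.val
        (e.injective (Subtype.ext ((huniq _ h2).trans (huniq _ hz2').symm)))
      rw [this]
      exact hzc u hu
    let f : (Σ T' : Sylow 2 G, {g : (T' : Subgroup G) // orderOf g = 4}) → {g : G // orderOf g = 4} :=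
      fun s => ⟨s.2.1.1, (Subgroup.orderOf_coe _).trans s.2.2⟩
    have hf : Function.Injective f := by
      rintro ⟨T1, g1, hg1⟩ ⟨T2, g2, hg2⟩ e
      have e' : g1.1 = g2.1 := congrArg Subtype.val e
      have ho : orderOf g1.1 = 4 := (Subgroup.orderOf_coe _).trans hg1
      obtain rfl : T1 = T2 := eq_of_central h (z := g1.1 ^ 2) (by rw [orderOf_pow, ho]; norm_num)
        ((T1 : Subgroup G).pow_mem g1.2 2) (hcent T1 g1.1 g1.2 ho)
        (by rw [e']; exact (T2 : Subgroup G).pow_mem g2.2 2)
        (by rw [e']; exact hcent T2 g2.1 g2.2 ((Subgroup.orderOf_coe _).trans hg2))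
      obtain rfl : g1 = g2 := Subtype.ext e'
      rfl
    have h1 := Nat.card_le_card_of_injective f hf
    rw [Nat.card_sigma] at h1
    have h2 : 21 * 6 ≤ ∑ T' : Sylow 2 G, Nat.card {g : (T' : Subgroup G) // orderOf g = 4} := by
      refine le_trans ?_ (Finset.sum_le_sum fun T' _ => hsix T')
      rw [Finset.sum_const, Finset.card_univ, smul_eq_mul, ← Nat.card_eq_fintype_card,
        card_sylow_two h]
    have h3 := card_two_four h
    omega
  have hrest : ∀ g ∈ (T : Subgroup G), g ∈ zpowers a ∨ b * g ∈ zpowers a := by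
    intro g hg
    by_cases hga : g ∈ zpowers a
    · exact Or.inl hga
    · exact Or.inr (by
        have := (Subgroup.mul_mem_iff_of_index_two hidx (a := ⟨b, hbT⟩) (b := ⟨g, hg⟩)).mpr
          (iff_of_false (by simpa [mem_subgroupOf] using hbA) (by simpa [mem_subgroupOf] using hga))
        simpa [mem_subgroupOf] using this)
  refine ⟨a, b, haT, hbT, ha, hb, ?_, hbA, hrest⟩
  have hc : b * a * b⁻¹ ∈ zpowers a := by
    have := hnorm.conj_mem ⟨a, haT⟩ (by rw [mem_subgroupOf]; exact mem_zpowers a) ⟨b, hbT⟩
    simpa [mem_subgroupOf] using this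
  rw [← mem_powers_iff_mem_zpowers] at hc
  obtain ⟨m, hm⟩ := hc
  have hm' : a ^ (m % 4) = b * a * b⁻¹ := by rw [← ha, pow_mod_orderOf]; exact hm
  have hlt : m % 4 < 4 := Nat.mod_lt _ (by norm_num)
  have ho : orderOf (a ^ (m % 4)) = 4 := by
    rw [hm', show b * a * b⁻¹ = MulAut.conj b a from rfl, MulEquiv.orderOf_eq, ha]
  interval_cases hk : m % 4
  · rw [pow_zero, orderOf_one] at ho; norm_num at ho
  · exfalso
    rw [pow_one] at hm'
    have hab : Commute b a := by
      show b * a = a * b
      conv_rhs => rw [hm']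
      group
    refine sylow_two_not_comm h T ⟨⟨fun x y => Subtype.ext ?_⟩⟩
    have hmem : ∀ g ∈ (T : Subgroup G), g ∈ Subgroup.closure ({a, b} : Set G) := by
      intro g hg
      have hle : zpowers a ≤ Subgroup.closure ({a, b} : Set G) :=
        zpowers_le.mpr (subset_closure (by simp))
      rcases hrest g hg with h1 | h1
      · exact hle h1
      · have h2 := mul_mem (inv_mem (subset_closure (by simp : b ∈ ({a, b} : Set G)))) (hle h1)
        rwa [inv_mul_cancel_left] at h2
    haveI := Subgroup.isMulCommutative_closure (k := ({a, b} : Set G)) (by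
      rintro u (rfl | rfl) v (rfl | rfl)
      · rfl
      · exact hab.symm
      · exact hab
      · rfl)
    have := congrArg Subtype.val (IsMulCommutative.is_comm.comm
      (⟨x.1, hmem _ x.2⟩ : Subgroup.closure ({a, b} : Set G)) ⟨y.1, hmem _ y.2⟩)
    exact this
  · exfalso
    rw [orderOf_pow, ha] at ho
    norm_num at ho
  · rw [← hm']
    refine eq_inv_of_mul_eq_one_left ?_
    rw [← pow_succ, show 3 + 1 = orderOf a by rw [ha], pow_orderOf_eq_one]

theorem dihedral (h : Nat.card G = 168) [Fact (Nat.Prime 2)] (T : Sylow 2 G) :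
    Nonempty (↥(T : Subgroup G) ≃* DihedralGroup 4) := by
  obtain ⟨a, b, haT, hbT, ha, hb, hba, hbA, hrest⟩ := exists_dihedral_gens h T
  exact TwoGroup.nonempty_mulEquiv_dihedral ha hb hba hbA _ haT hbT hrest

/-- In a dihedral Sylow 2-subgroup every square lies in the centre. -/
theorem sq_central (h : Nat.card G = 168) [Fact (Nat.Prime 2)] (T : Sylow 2 G) {t : G}
    (ht : t ∈ (T : Subgroup G)) : ∀ u ∈ (T : Subgroup G), u * t ^ 2 = t ^ 2 * u := by
  intro u hu
  obtain ⟨e⟩ := dihedral h T
  have key : ∀ x y : DihedralGroup 4, y * x ^ 2 = x ^ 2 * y := by decide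
  have := key (e ⟨t, ht⟩) (e ⟨u, hu⟩)
  rw [← map_pow, ← map_mul, ← map_mul] at this
  exact congrArg Subtype.val (e.injective this)

end Cfsg.Agent.Lib.SmallGroups.Order168
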