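/-
Classes, Klein four-subgroups and maximal subgroups of a simple group of order 168.
-/
import Mathlib
import Cfsg.Agent.Lib.SmallGroups.Order168

set_option autoImplicit false
set_option linter.style.haveILetI false

namespace Cfsg.Agent.Lib.SmallGroups.Order168

open Subgroup
open scoped Pointwise

variable {G : Type*} [Group G] [Finite G] [IsSimpleGroup G]

omit [IsSimpleGroup G] in
theorem exists_sylow_of_two_four {g : G} (hg : orderOf g = 2 ∨ orderOf g = 4)
    [Fact (Nat.Prime 2)] : ∃ T : Sylow 2 G, g ∈ (T : Subgroup G) := by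
  obtain ⟨T, hT⟩ := (show IsPGroup 2 (zpowers g) from by
    rcases hg with e | e
    · exact IsPGroup.of_card (n := 1) (by rw [Nat.card_zpowers, e]; norm_num)
    · exact IsPGroup.of_card (n := 2) (by rw [Nat.card_zpowers, e]; norm_num)).exists_le_sylow
  exact ⟨T, hT (mem_zpowers g)⟩

theorem centralizer_four (h : Nat.card G = 168) {r : G} (hr : orderOf r = 4) :
    Nat.card (centralizer ({r} : Set G)) = 4 := by
  haveI : Fact (Nat.Prime 2) := ⟨Nat.prime_two⟩
  have h8 := centralizer_dvd_eight h (z := r) (Or.inr hr)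
  have h4 : 4 ∣ Nat.card (centralizer ({r} : Set G)) := by
    rw [← hr, ← Nat.card_zpowers]
    exact card_dvd_of_le (zpowers_le.mpr (mem_centralizer_singleton_iff.mpr rfl))
  have h4le : 4 ≤ Nat.card (centralizer ({r} : Set G)) := Nat.le_of_dvd Nat.card_pos h4
  have h8le := Nat.le_of_dvd (by norm_num) h8
  rcases eq_or_lt_of_le h4le with h1 | h1
  · exact h1.symm
  exfalso
  have h8eq : Nat.card (centralizer ({r} : Set G)) = 8 := by omega
  have hp : IsPGroup 2 (centralizer ({r} : Set G)) :=
    IsPGroup.of_card (n := 3) (by rw [h8eq]; norm_num)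
  obtain ⟨T, hT⟩ := hp.exists_le_sylow
  have heq : centralizer ({r} : Set G) = (T : Subgroup G) :=
    Subgroup.eq_of_le_of_card_ge hT (by rw [h8eq, card_sylow_two_subgroup h T])
  obtain ⟨e⟩ := dihedral h T
  have hrT : r ∈ (T : Subgroup G) := heq ▸ mem_centralizer_singleton_iff.mpr rfl
  have key : ∀ x : DihedralGroup 4, (∀ y, y * x = x * y) → x ^ 2 = 1 := by decide
  have h1' := key (e ⟨r, hrT⟩) fun y => by
    obtain ⟨⟨u, hu⟩, rfl⟩ := e.surjective y
    rw [← map_mul, ← map_mul]
    congr 1
    exact Subtype.ext (mem_centralizer_singleton_iff.mp (heq.symm.le hu))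
  rw [← map_pow] at h1'
  have h2 := congrArg Subtype.val (e.injective (h1'.trans (map_one e).symm))
  have h3 := orderOf_dvd_of_pow_eq_one (show r ^ 2 = 1 from h2)
  rw [hr] at h3
  norm_num at h3

omit [IsSimpleGroup G] in
theorem isConj_of_index {g : G} {k : ℕ} (hk : (centralizer ({g} : Set G)).index = k)
    (P : G → Prop) (hP : ∀ y, IsConj g y → P y) (hcard : Nat.card {y : G // P y} = k) {y : G}
    (hy : P y) : IsConj g y := by
  let f : {y : G // IsConj g y} → {y : G // P y} := fun z => ⟨z.1, hP z.1 z.2⟩
  have hf : Function.Bijective f := (Nat.bijective_iff_injective_and_card f).mpr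
    ⟨fun a b e => Subtype.ext (congrArg (fun z => z.1) e),
      by rw [card_isConj_eq_index, hk, hcard]⟩
  obtain ⟨z, hz⟩ := hf.2 ⟨y, hy⟩
  have e : z.1 = y := congrArg Subtype.val hz
  rw [← e]
  exact z.2

omit [Finite G] [IsSimpleGroup G] in
theorem orderOf_eq_of_isConj {g y : G} (hc : IsConj g y) : orderOf y = orderOf g := by
  obtain ⟨c, rfl⟩ := isConj_iff.mp hc
  exact orderOf_injective (MulAut.conj c).toMonoidHom (MulEquiv.injective _) g

theorem index_centralizer (h : Nat.card G = 168) (g : G) :
    (centralizer ({g} : Set G)).index * Nat.card (centralizer ({g} : Set G)) = 168 := by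
  rw [mul_comm, card_mul_index, h]

/-- Each central involution has 21 conjugates, at least 2 square roots, and the counts are exact. -/
theorem card_two_and_four (h : Nat.card G = 168) :
    Nat.card {g : G // orderOf g = 2} = 21 ∧ Nat.card {g : G // orderOf g = 4} = 42 := by
  classical
  haveI : Fact (Nat.Prime 2) := ⟨Nat.prime_two⟩
  have T : Sylow 2 G := default
  have hsum := card_two_four h
  obtain ⟨z, hzT, hz2, hzc⟩ := exists_central h T
  have hz1 : z ≠ 1 := fun e => by rw [e, orderOf_one] at hz2; norm_num at hz2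
  have h21 : 21 ≤ Nat.card {g : G // orderOf g = 2} := by
    have h1 := index_centralizer h z
    rw [centralizer_central h T hzT hz1 hzc, card_sylow_two_subgroup h T] at h1
    have h2 : Nat.card {y : G // IsConj z y} = 21 := by
      rw [card_isConj_eq_index, centralizer_central h T hzT hz1 hzc]; omega
    rw [← h2]
    exact Nat.card_le_card_of_injective (fun w => ⟨w.1, (orderOf_eq_of_isConj w.2).trans hz2⟩)
      fun a b e => Subtype.ext (congrArg (fun w => w.1) e)
  obtain ⟨a, b, haT, -, ha, -, -, -, -⟩ := exists_dihedral_gens h T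
  have h42 : 42 ≤ Nat.card {g : G // orderOf g = 4} := by
    have h1 := index_centralizer h a
    rw [centralizer_four h ha] at h1
    have h2 : Nat.card {y : G // IsConj a y} = 42 := by rw [card_isConj_eq_index]; omega
    rw [← h2]
    exact Nat.card_le_card_of_injective (fun w => ⟨w.1, (orderOf_eq_of_isConj w.2).trans ha⟩)
      fun a b e => Subtype.ext (congrArg (fun w => w.1) e)
  omega

theorem isConj_four (h : Nat.card G = 168) {s t : G} (hs : orderOf s = 4) (ht : orderOf t = 4) :
    IsConj s t := by
  refine isConj_of_index (k := 42) ?_ (fun g => orderOf g = 4)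
    (fun y hy => (orderOf_eq_of_isConj hy).trans hs) (card_two_and_four h).2 ht
  have h1 := index_centralizer h s
  rw [centralizer_four h hs] at h1
  omega

theorem isConj_three (h : Nat.card G = 168) {s t : G} (hs : orderOf s = 3) (ht : orderOf t = 3) :
    IsConj s t := by
  refine isConj_of_index (k := 56) ?_ (fun g => orderOf g = 3)
    (fun y hy => (orderOf_eq_of_isConj hy).trans hs) (card_order_three h) ht
  have h1 := index_centralizer h s
  rw [centralizer_card h (Or.inl hs), hs] at h1
  omega

theorem isConj_two (h : Nat.card G = 168) {s t : G} (hs : orderOf s = 2) (ht : orderOf t = 2) :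
    IsConj s t := by
  haveI : Fact (Nat.Prime 2) := ⟨Nat.prime_two⟩
  have T : Sylow 2 G := default
  obtain ⟨z, hzT, hz2, hzc⟩ := exists_central h T
  have hz1 : z ≠ 1 := fun e => by rw [e, orderOf_one] at hz2; norm_num at hz2
  have key : ∀ u : G, orderOf u = 2 → IsConj z u := fun u hu => by
    refine isConj_of_index (k := 21) ?_ (fun g => orderOf g = 2)
      (fun y hy => (orderOf_eq_of_isConj hy).trans hz2) (card_two_and_four h).1 hu
    have h1 := index_centralizer h z
    rw [centralizer_central h T hzT hz1 hzc, card_sylow_two_subgroup h T] at h1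
    rw [centralizer_central h T hzT hz1 hzc]
    omega
  exact (key s hs).symm.trans (key t ht)

theorem card_centralizer_two (h : Nat.card G = 168) {t : G} (ht : orderOf t = 2) :
    Nat.card (centralizer ({t} : Set G)) = 8 := by
  haveI : Fact (Nat.Prime 2) := ⟨Nat.prime_two⟩
  have T : Sylow 2 G := default
  obtain ⟨z, hzT, hz2, hzc⟩ := exists_central h T
  have hz1 : z ≠ 1 := fun e => by rw [e, orderOf_one] at hz2; norm_num at hz2
  have h1 := card_isConj_eq_index z
  have h2 := card_isConj_eq_index t
  have e : Nat.card {y : G // IsConj z y} = Nat.card {y : G // IsConj t y} :=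
    Nat.card_congr (Equiv.subtypeEquivRight fun y =>
      ⟨fun hy => (isConj_two h ht hz2).trans hy, fun hy => (isConj_two h hz2 ht).trans hy⟩)
  have h3 := index_centralizer h t
  have h4 := index_centralizer h z
  rw [centralizer_central h T hzT hz1 hzc, card_sylow_two_subgroup h T] at h4
  rw [centralizer_central h T hzT hz1 hzc] at h1
  rw [← h2, ← e, h1] at h3
  have h5 : (T : Subgroup G).index = 21 := by omega
  rw [h5] at h3
  omega

theorem seven_class (h : Nat.card G = 168) {x : G} (hx : orderOf x = 7) :
    Nat.card {g : G // IsConj x g} = 24 ∧ ¬ IsConj x x⁻¹ := by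
  constructor
  · have h1 := index_centralizer h x
    rw [centralizer_card h (Or.inr hx), hx] at h1
    rw [card_isConj_eq_index]
    omega
  · intro hc
    obtain ⟨g, hg⟩ := isConj_iff.mp hc
    have hgg : g * g * x * (g * g)⁻¹ = x := by
      calc g * g * x * (g * g)⁻¹ = g * (g * x * g⁻¹) * g⁻¹ := by group
        _ = g * x⁻¹ * g⁻¹ := by rw [hg]
        _ = (g * x * g⁻¹)⁻¹ := by group
        _ = x := by rw [hg, inv_inv]
    have hmem : g ^ 2 ∈ centralizer ({x} : Set G) := by
      rw [mem_centralizer_singleton_iff, pow_two]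
      calc g * g * x = g * g * x * (g * g)⁻¹ * (g * g) := by group
        _ = x * (g * g) := by rw [hgg]
    have hd := card_dvd_of_le (zpowers_le.mpr hmem)
    rw [Nat.card_zpowers, centralizer_card h (Or.inr hx), hx, orderOf_pow] at hd
    -- so g has odd order and is a power of its square
    have hodd : (orderOf g).Coprime 2 := by
      rcases orders h g with e | e | e | e | e <;> rw [e] <;> try norm_num
      · -- g an involution normalizing zpowers x
        exfalso
        haveI : Fact (Nat.Prime 7) := ⟨by norm_num⟩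
        obtain ⟨P, hP⟩ := (IsPGroup.of_card (p := 7) (n := 1)
          (by rw [Nat.card_zpowers, hx, pow_one]) : IsPGroup 7 (zpowers x)).exists_le_sylow
        obtain ⟨hP7, hN, -⟩ := sylow_seven_data h P
        have hPx : (P : Subgroup G) = zpowers x :=
          (Subgroup.eq_of_le_of_card_ge hP (by rw [hP7, Nat.card_zpowers, hx])).symm
        have hgN : g ∈ normalizer ((P : Subgroup G) : Set G) := by
          refine Sylow.smul_eq_iff_mem_normalizer.mp (Sylow.ext ?_)
          rw [Sylow.coe_subgroup_smul, hPx]
          refine (MonoidHom.map_zpowers _ x).trans ?_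
          change zpowers (g * x * g⁻¹) = _
          rw [hg, zpowers_inv]
        have := card_dvd_of_le (zpowers_le.mpr hgN)
        rw [Nat.card_zpowers, e, hN] at this
        norm_num at this
      · rw [e] at hd; norm_num at hd
    obtain ⟨m, hm⟩ := exists_pow_eq_self_of_coprime hodd.symm
    have hgc : g ∈ centralizer ({x} : Set G) := hm ▸ pow_mem hmem m
    rw [mem_centralizer_singleton_iff] at hgc
    rw [hgc, mul_inv_cancel_right] at hg
    have h2 : x ^ 2 = 1 := by
      rw [pow_two]; nth_rewrite 2 [hg]; exact mul_inv_cancel x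
    have h3 := orderOf_dvd_of_pow_eq_one h2
    rw [hx] at h3
    norm_num at h3

/-! ### Klein four-subgroups -/

omit [IsSimpleGroup G] in
theorem klein_commute {U : Subgroup G} (hU : IsKleinFour ↥U) {u v : G} (hu : u ∈ U) (hv : v ∈ U) :
    u * v = v * u :=
  congrArg Subtype.val (mul_comm_of_exponent_two hU.exponent_two (⟨u, hu⟩ : U) ⟨v, hv⟩)

omit [IsSimpleGroup G] in
theorem klein_orderOf {U : Subgroup G} (hU : IsKleinFour ↥U) {u : G} (hu : u ∈ U) (hu1 : u ≠ 1) :
    orderOf u = 2 := by
  refine orderOf_eq_prime ?_ hu1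
  have := Monoid.pow_exponent_eq_one (⟨u, hu⟩ : U)
  rw [hU.exponent_two] at this
  exact congrArg Subtype.val this

omit [IsSimpleGroup G] in
/-- A four-subgroup with no element of order 4. -/
theorem klein_of_card {U : Subgroup G} (hU : Nat.card U = 4) (h4 : ∀ u ∈ U, orderOf u ≠ 4) :
    IsKleinFour ↥U := by
  refine ⟨hU, ?_⟩
  have hsq : ∀ u : U, u ^ 2 = 1 := by
    intro u
    have h1 : orderOf u ∣ 4 := hU ▸ orderOf_dvd_natCard u
    have h2 : orderOf u ≠ 4 := fun e => h4 u.1 u.2 ((Subgroup.orderOf_coe u).trans e)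
    have h3 := Nat.le_of_dvd (by norm_num) h1
    apply orderOf_dvd_iff_pow_eq_one.mp
    interval_cases orderOf u <;> norm_num at *
  rcases (Nat.dvd_prime Nat.prime_two).mp (Monoid.exponent_dvd_of_forall_pow_eq_one hsq) with e | e
  · haveI : Subsingleton U := Monoid.exp_eq_one_iff.mp e
    rw [Nat.card_unique] at hU
    norm_num at hU
  · exact e

/-- A Sylow 2-subgroup contains exactly two four-groups, both normal in it. -/
theorem klein_in_sylow (h : Nat.card G = 168) [Fact (Nat.Prime 2)] (T : Sylow 2 G) :
    Nat.card {U : Subgroup G // U ≤ (T : Subgroup G) ∧ IsKleinFour ↥U} = 2 ∧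
    ∀ U : Subgroup G, U ≤ (T : Subgroup G) → IsKleinFour ↥U →
      (T : Subgroup G) ≤ normalizer (U : Set G) := by
  classical
  have hT := card_sylow_two_subgroup h T
  obtain ⟨a, b, haT, hbT, ha, hb, hba, hbA, hrest⟩ := exists_dihedral_gens h T
  obtain ⟨e⟩ := dihedral h T
  have hnorm : ∀ U : Subgroup G, U ≤ (T : Subgroup G) → IsKleinFour ↥U →
      (T : Subgroup G) ≤ normalizer (U : Set G) := by
    intro U hle hU
    refine (normal_subgroupOf_iff_le_normalizer hle).mp (normal_of_index_eq_two ?_)
    have h1 := (U.subgroupOf (T : Subgroup G)).card_mul_index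
    rw [Nat.card_congr (subgroupOfEquivOfLe hle).toEquiv, hU.card_four, hT] at h1
    omega
  refine ⟨?_, hnorm⟩
  -- four-groups correspond to those of the dihedral group
  let K : Bool → Subgroup (DihedralGroup 4) := fun i =>
    { carrier := {x | x ∈ if i then ([.r 0, .r 2, .sr 0, .sr 2] : List (DihedralGroup 4))
                      else [.r 0, .r 2, .sr 1, .sr 3]}
      mul_mem' := by revert i; decide
      one_mem' := by revert i; decide
      inv_mem' := by revert i; decide }
  have hKmem : ∀ (i : Bool) (x : DihedralGroup 4), x ∈ K i ↔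
      x ∈ (if i then ([.r 0, .r 2, .sr 0, .sr 2] : List (DihedralGroup 4))
        else [.r 0, .r 2, .sr 1, .sr 3]) := fun i x => Iff.rfl
  have hKcard : ∀ i, Nat.card (K i) = 4 := by
    intro i
    have e1 : Nat.card (K i) = Nat.card {x : DihedralGroup 4 //
        x ∈ (if i then ([.r 0, .r 2, .sr 0, .sr 2] : List (DihedralGroup 4))
          else [.r 0, .r 2, .sr 1, .sr 3])} :=
      Nat.card_congr (Equiv.subtypeEquivRight (hKmem i))
    rw [e1, Nat.card_eq_fintype_card, Fintype.card_subtype]
    clear e1; revert i; decide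
  have hD : ∀ x y : DihedralGroup 4, x ^ 2 = 1 → y ^ 2 = 1 → x * y = y * x →
      ∃ i : Bool, x ∈ (if i then ([.r 0, .r 2, .sr 0, .sr 2] : List (DihedralGroup 4))
        else [.r 0, .r 2, .sr 1, .sr 3]) ∧
        y ∈ (if i then ([.r 0, .r 2, .sr 0, .sr 2] : List (DihedralGroup 4))
        else [.r 0, .r 2, .sr 1, .sr 3]) := by decide
  let F : Bool → {U : Subgroup G // U ≤ (T : Subgroup G) ∧ IsKleinFour ↥U} := fun i =>
    ⟨((K i).comap e.toMonoidHom).map (T : Subgroup G).subtype, map_subtype_le _, by
      refine klein_of_card ?_ ?_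
      · rw [Subgroup.card_map_of_injective (T : Subgroup G).subtype_injective,
          ← Subgroup.card_map_of_injective (f := e.toMonoidHom) e.injective,
          map_comap_eq_self_of_surjective e.surjective, hKcard]
      · rintro u ⟨v, hv, rfl⟩ ho
        have h1 : orderOf (e v) = 4 := by
          rw [MulEquiv.orderOf_eq, ← Subgroup.orderOf_coe]; exact ho
        have h2 : ∀ (i : Bool) (x : DihedralGroup 4),
            x ∈ (if i then ([.r 0, .r 2, .sr 0, .sr 2] : List (DihedralGroup 4))
              else [.r 0, .r 2, .sr 1, .sr 3]) → x ^ 2 = 1 := by decide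
        have h3 := orderOf_dvd_of_pow_eq_one (h2 i (e v) hv)
        rw [h1] at h3
        norm_num at h3⟩
  have hF : Function.Bijective F := by
    constructor
    · intro i j hij
      have h1 : ((K i).comap e.toMonoidHom).map (T : Subgroup G).subtype =
          ((K j).comap e.toMonoidHom).map (T : Subgroup G).subtype := congrArg Subtype.val hij
      have h2 := map_injective (T : Subgroup G).subtype_injective h1
      have h3 := comap_injective e.surjective h2
      have h4 : ∀ i j : Bool, (∀ x : DihedralGroup 4,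
          (x ∈ (if i then ([.r 0, .r 2, .sr 0, .sr 2] : List (DihedralGroup 4))
            else [.r 0, .r 2, .sr 1, .sr 3])) ↔
          (x ∈ (if j then ([.r 0, .r 2, .sr 0, .sr 2] : List (DihedralGroup 4))
            else [.r 0, .r 2, .sr 1, .sr 3]))) → i = j := by decide
      exact h4 i j fun x => by rw [← hKmem i, ← hKmem j, h3]
    · rintro ⟨U, hle, hU⟩
      set U' : Subgroup (DihedralGroup 4) := (U.subgroupOf (T : Subgroup G)).map e.toMonoidHom
      have hU'card : Nat.card U' = 4 := by
        rw [Subgroup.card_map_of_injective (f := e.toMonoidHom) e.injective,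
          Nat.card_congr (subgroupOfEquivOfLe hle).toEquiv, hU.card_four]
      have hsq : ∀ x ∈ U', x ^ 2 = 1 := by
        rintro x ⟨u, hu, rfl⟩
        by_cases hu1 : u.1 = 1
        · rw [show u = 1 from Subtype.ext hu1]; simp
        · rw [← map_pow, show u ^ 2 = 1 from
            Subtype.ext (orderOf_dvd_iff_pow_eq_one.mp (klein_orderOf hU hu hu1).dvd), map_one]
      have hcomm : ∀ x ∈ U', ∀ y ∈ U', x * y = y * x := by
        rintro x ⟨u, hu, rfl⟩ y ⟨v, hv, rfl⟩
        rw [← map_mul, ← map_mul, show u * v = v * u from Subtype.ext (klein_commute hU hu hv)]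
      obtain ⟨x, hxU, hx⟩ : ∃ x ∈ U', x ≠ 1 ∧ x ≠ DihedralGroup.r 2 := by
        by_contra hc
        push Not at hc
        have hsub : (U' : Set (DihedralGroup 4)) ⊆ {1, DihedralGroup.r 2} := fun y hy => by
          by_cases hy1 : y = 1
          · exact Or.inl hy1
          · exact Or.inr (hc y hy hy1)
        have h1 := Set.ncard_le_ncard hsub (Set.toFinite _)
        rw [← Nat.card_coe_set_eq] at h1
        change Nat.card U' ≤ _ at h1
        rw [hU'card] at h1
        have h2 := Set.ncard_insert_le (1 : DihedralGroup 4) {DihedralGroup.r 2}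
        rw [Set.ncard_singleton] at h2
        omega
      have huniq : ∀ x : DihedralGroup 4, x ^ 2 = 1 → x ≠ 1 → x ≠ DihedralGroup.r 2 →
          ∀ i j : Bool, (x ∈ (if i then ([.r 0, .r 2, .sr 0, .sr 2] : List (DihedralGroup 4))
            else [.r 0, .r 2, .sr 1, .sr 3])) →
          (x ∈ (if j then ([.r 0, .r 2, .sr 0, .sr 2] : List (DihedralGroup 4))
            else [.r 0, .r 2, .sr 1, .sr 3])) → i = j := by decide
      obtain ⟨i, hxi, -⟩ := hD x x (hsq x hxU) (hsq x hxU) rfl
      have hle' : U' ≤ K i := fun y hy => by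
        obtain ⟨j, hxj, hyj⟩ := hD x y (hsq x hxU) (hsq y hy) (hcomm x hxU y hy)
        obtain rfl := huniq x (hsq x hxU) hx.1 hx.2 i j hxi hxj
        exact (hKmem i y).mpr hyj
      have heq : U' = K i := Subgroup.eq_of_le_of_card_ge hle' (by rw [hU'card, hKcard])
      refine ⟨i, Subtype.ext ?_⟩
      show ((K i).comap e.toMonoidHom).map (T : Subgroup G).subtype = U
      rw [← heq, comap_map_eq_self_of_injective e.injective, map_subgroupOf_eq_of_le hle]
  rw [← Nat.card_congr (Equiv.ofBijective F hF), Nat.card_eq_fintype_card, Fintype.card_bool]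

/-- Two four-groups in one Sylow 2-subgroup are not conjugate. -/
theorem klein_not_conj (h : Nat.card G = 168) [Fact (Nat.Prime 2)] (T : Sylow 2 G)
    {U W : Subgroup G} (hU : U ≤ (T : Subgroup G)) (hW : W ≤ (T : Subgroup G))
    (hUK : IsKleinFour ↥U) (hWK : IsKleinFour ↥W) (hne : U ≠ W) (g : G) :
    U.map (MulAut.conj g).toMonoidHom ≠ W := by
  intro he
  apply hne
  have hUN := (klein_in_sylow h T).2 U hU hUK
  have hWN := (klein_in_sylow h T).2 W hW hWK
  set N := normalizer (W : Set G)
  have hgN : ((g • T : Sylow 2 G) : Subgroup G) ≤ N := by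
    intro y hy
    change y ∈ MulAut.conj g • (T : Subgroup G) at hy
    rw [mem_pointwise_smul_iff_inv_smul_mem] at hy
    simp only [MulAut.smul_def, MulAut.conj_inv_apply] at hy
    have hy' := mem_normalizer_iff.mp (hUN hy)
    rw [mem_normalizer_iff]
    intro w
    rw [← he]
    simp only [Subgroup.mem_map_equiv, MulAut.conj_symm_apply]
    rw [hy']
    constructor <;> intro H <;> convert H using 1 <;> group
  obtain ⟨⟨n, hnN⟩, hn⟩ := MulAction.exists_smul_eq N ((g • T).subtype hgN) (T.subtype hWN)
  have hn' : n • g • T = T := by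
    rw [Sylow.smul_subtype] at hn
    exact Sylow.subtype_injective hn
  rw [smul_smul] at hn'
  have hmem : n * g ∈ (T : Subgroup G) := by
    rw [← normalizer_sylow_two h T]
    exact Sylow.smul_eq_iff_mem_normalizer.mp hn'
  ext u
  have h1 := mem_normalizer_iff.mp (hUN hmem) u
  have h2 := mem_normalizer_iff.mp hnN (g * u * g⁻¹)
  have h3 : u ∈ U ↔ g * u * g⁻¹ ∈ W := by
    rw [← he]
    simp only [Subgroup.mem_map_equiv, MulAut.conj_symm_apply]
    constructor <;> intro H <;> convert H using 1 <;> group
  have h4 : n * g * u * (n * g)⁻¹ = n * (g * u * g⁻¹) * n⁻¹ := by group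
  constructor
  · intro hu
    have h5 := h2.mp (h3.mp hu)
    have h6 := mem_normalizer_iff.mp ((klein_in_sylow h T).2 W hW hWK hmem) u
    rw [h6, h4]
    exact h5
  · intro hu
    have h6 := mem_normalizer_iff.mp ((klein_in_sylow h T).2 W hW hWK hmem) u
    rw [h4] at h6
    exact h3.mpr (h2.mpr (h6.mp hu))

/-- Four-groups containing an involution lie in its centralizer, so there are two of them. -/
theorem card_klein (h : Nat.card G = 168) :
    Nat.card {U : Subgroup G // IsKleinFour ↥U} = 14 := by
  classical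
  haveI : Fact (Nat.Prime 2) := ⟨Nat.prime_two⟩
  haveI := Fintype.ofFinite {t : G // orderOf t = 2}
  haveI := Fintype.ofFinite {U : Subgroup G // IsKleinFour ↥U}
  -- incidences between involutions and four-groups
  let I := {q : {t : G // orderOf t = 2} × {U : Subgroup G // IsKleinFour ↥U} // q.1.1 ∈ q.2.1}
  have h1 : ∀ t : {t : G // orderOf t = 2},
      Nat.card {U : {U : Subgroup G // IsKleinFour ↥U} // t.1 ∈ U.1} = 2 := by
    intro t
    have hc := card_centralizer_two h t.2
    obtain ⟨T, hT⟩ := (IsPGroup.of_card (p := 2) (n := 3) (by rw [hc]; norm_num) :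
      IsPGroup 2 (centralizer ({t.1} : Set G))).exists_le_sylow
    have heq : centralizer ({t.1} : Set G) = (T : Subgroup G) :=
      Subgroup.eq_of_le_of_card_ge hT (by rw [hc, card_sylow_two_subgroup h T])
    refine Eq.trans ?_ (klein_in_sylow h T).1
    refine Nat.card_congr ⟨fun U => ⟨U.1.1, fun u hu => ?_, U.1.2⟩,
      fun U => ⟨⟨U.1, U.2.2⟩, ?_⟩, fun U => rfl, fun U => rfl⟩
    · rw [← heq, mem_centralizer_singleton_iff]
      exact klein_commute U.1.2 hu U.2
    · -- t is central in T, so it lies in every four-group of T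
      have htT : t.1 ∈ (T : Subgroup G) := heq ▸ mem_centralizer_singleton_iff.mpr rfl
      by_contra htU
      have hcomm : ∀ u ∈ U.1, u * t.1 = t.1 * u := fun u hu =>
        mem_centralizer_singleton_iff.mp (heq ▸ U.2.1 hu)
      obtain ⟨e⟩ := dihedral h T
      have key : ∀ z : DihedralGroup 4, (∀ y, y * z = z * y) → z ≠ 1 → z = DihedralGroup.r 2 := by
        decide
      have hz := key (e ⟨t.1, htT⟩) (fun y => by
        obtain ⟨⟨u, hu⟩, rfl⟩ := e.surjective y
        rw [← map_mul, ← map_mul]
        congr 1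
        exact Subtype.ext (mem_centralizer_singleton_iff.mp (heq.symm.le hu)))
        (fun e1 => by
          have e2 := congrArg Subtype.val (e.injective (e1.trans (map_one e).symm))
          have e3 : t.1 = 1 := e2
          have := t.2
          rw [e3, orderOf_one] at this
          norm_num at this)
      have hU' : ∀ u, (hu : u ∈ U.1) → e ⟨u, U.2.1 hu⟩ ≠ DihedralGroup.r 2 := by
        intro u hu e1
        rw [← hz] at e1
        have e2 : u = t.1 := congrArg Subtype.val (e.injective e1)
        exact htU (e2 ▸ hu)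
      obtain ⟨⟨u, hu⟩, hu1⟩ : ∃ u : U.1, u ≠ 1 := by
        haveI : Nontrivial U.1 :=
          Finite.one_lt_card_iff_nontrivial.mp (by rw [U.2.2.card_four]; norm_num)
        exact exists_ne 1
      obtain ⟨⟨v, hv⟩, hv1, hvu⟩ : ∃ v : U.1, v ≠ 1 ∧ v ≠ ⟨u, hu⟩ := by
        by_contra hc'
        push Not at hc'
        have hsub : (Set.univ : Set U.1) ⊆ {1, ⟨u, hu⟩} := fun y _ => by
          by_cases hy : y = 1
          · exact Or.inl hy
          · exact Or.inr (hc' y hy)
        have h1' := Set.ncard_le_ncard hsub (Set.toFinite _)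
        rw [Set.ncard_univ, U.2.2.card_four] at h1'
        have h2' := Set.ncard_insert_le (1 : U.1) {⟨u, hu⟩}
        rw [Set.ncard_singleton] at h2'
        omega
      have key2 : ∀ x y : DihedralGroup 4, x ≠ 1 → y ≠ 1 → x ≠ y → x ^ 2 = 1 → y ^ 2 = 1 →
          x * y = y * x → x ≠ DihedralGroup.r 2 → y ≠ DihedralGroup.r 2 →
          x * y = DihedralGroup.r 2 := by decide
      have hsq : ∀ w, (hw : w ∈ U.1) → e ⟨w, U.2.1 hw⟩ ^ 2 = 1 := by
        intro w hw
        have h' := Monoid.pow_exponent_eq_one (⟨w, hw⟩ : U.1)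
        rw [U.2.2.exponent_two] at h'
        rw [← map_pow, ← map_one e]
        refine congrArg e (Subtype.ext ?_)
        have h'' : w ^ 2 = 1 := congrArg Subtype.val h'
        exact h''
      have hne1 : ∀ w, (hw : w ∈ U.1) → (⟨w, hw⟩ : U.1) ≠ 1 → e ⟨w, U.2.1 hw⟩ ≠ 1 := by
        intro w hw hw1 e1
        exact hw1 (Subtype.ext (congrArg Subtype.val (e.injective (e1.trans (map_one e).symm)) :))
      have h5 := key2 _ _ (hne1 u hu hu1) (hne1 v hv hv1)
        (fun e1 => hvu (Subtype.ext (congrArg Subtype.val (e.injective e1)).symm))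
        (hsq u hu) (hsq v hv)
        (by rw [← map_mul, ← map_mul]; exact congrArg e (Subtype.ext (klein_commute U.2.2 hu hv)))
        (hU' u hu) (hU' v hv)
      rw [← map_mul] at h5
      exact hU' (u * v) (U.1.mul_mem hu hv) h5
  have h2 : ∀ U : {U : Subgroup G // IsKleinFour ↥U},
      Nat.card {t : {t : G // orderOf t = 2} // t.1 ∈ U.1} = 3 := by
    intro U
    haveI := Fintype.ofFinite U.1
    have e : Nat.card {t : {t : G // orderOf t = 2} // t.1 ∈ U.1} =
        Nat.card {u : U.1 // u ≠ 1} :=
      Nat.card_congr ⟨fun t => ⟨⟨t.1.1, t.2⟩, fun e => by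
          have e' : t.1.1 = 1 := congrArg Subtype.val e
          have := t.1.2
          rw [e', orderOf_one] at this
          norm_num at this⟩,
        fun u => ⟨⟨u.1.1, klein_orderOf U.2 u.1.2 fun e => u.2 (Subtype.ext e)⟩, u.1.2⟩,
        fun t => rfl, fun u => rfl⟩
    rw [e, Nat.card_eq_fintype_card, Fintype.card_subtype_compl, Fintype.card_subtype_eq,
      ← Nat.card_eq_fintype_card, U.2.card_four]
  have e1 : Nat.card I = Nat.card {t : G // orderOf t = 2} * 2 := by
    rw [Nat.card_congr (Equiv.subtypeProdEquivSigmaSubtype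
        fun (t : {t : G // orderOf t = 2}) (U : {U : Subgroup G // IsKleinFour ↥U}) => t.1 ∈ U.1),
      Nat.card_sigma, Finset.sum_congr rfl (fun t _ => h1 t), Finset.sum_const, Finset.card_univ,
      smul_eq_mul, ← Nat.card_eq_fintype_card]
  have e2 : Nat.card I = Nat.card {U : Subgroup G // IsKleinFour ↥U} * 3 := by
    refine (Nat.card_congr (((Equiv.prodComm _ _).subtypeEquiv
      (q := fun q : {U : Subgroup G // IsKleinFour ↥U} × {t : G // orderOf t = 2} => q.2.1 ∈ q.1.1)
      fun _ => Iff.rfl).trans (Equiv.subtypeProdEquivSigmaSubtype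
        fun (U : {U : Subgroup G // IsKleinFour ↥U}) (t : {t : G // orderOf t = 2}) =>
          t.1 ∈ U.1))).trans ?_
    rw [Nat.card_sigma, Finset.sum_congr rfl (fun U _ => h2 U), Finset.sum_const,
      Finset.card_univ, smul_eq_mul, ← Nat.card_eq_fintype_card]
  rw [(card_two_and_four h).1] at e1
  omega

end Cfsg.Agent.Lib.SmallGroups.Order168
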