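/-
An element centralizing `C(P)` and a conjugate of `P`, when `|C(P)| = p * 2 ^ a`.
-/
import Mathlib
import Cfsg.Agent.Lib.SmallGroups.Basic
import Cfsg.Agent.Lib.SmallGroups.PrimeSylow
import Cfsg.Agent.Lib.SmallGroups.LargeCentralizer
import Cfsg.Agent.Lib.PGroup.Critical

set_option autoImplicit false
set_option linter.style.haveILetI false

namespace Cfsg.Agent.Lib.SmallGroups

open Subgroup
open scoped Pointwise

variable {G : Type*} [Group G] [Finite G]

/-- If `|C(P)| = p * 2 ^ a` with `a ≥ 2`, the 2-part of `|N(P) : O_2(C(P))|` is at most 2 and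
`n_p` is even, some `c ≠ 1` has a centralizer containing `C(P)` but not contained in `N(P)`. -/
theorem exists_centralizer_not_le_normalizer [IsSimpleGroup G] {p : ℕ} [hp : Fact p.Prime]
    (hp2 : p ≠ 2) (hG : ¬ IsMulCommutative G) (P : Sylow p G)
    (hP : Nat.card (P : Subgroup G) = p) {a e : ℕ} (ha : 2 ≤ a)
    (hn : 2 ∣ Nat.card (Sylow p G))
    (hC : Nat.card (centralizer ((P : Subgroup G) : Set G)) = p * 2 ^ a)
    (hN : Nat.card (normalizer ((P : Subgroup G) : Set G)) = e * (p * 2 ^ a))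
    (he : Nat.gcd (2 ^ a) (e * p) ∣ 2) :
    ∃ c : G, c ≠ 1 ∧ centralizer ((P : Subgroup G) : Set G) ≤ centralizer ({c} : Set G) ∧
      ¬ centralizer ({c} : Set G) ≤ normalizer ((P : Subgroup G) : Set G) := by
  haveI : Fact (Nat.Prime 2) := ⟨Nat.prime_two⟩
  set N := normalizer ((P : Subgroup G) : Set G) with hNdef
  set C := centralizer ((P : Subgroup G) : Set G) with hCdef
  have h2a : 4 ≤ 2 ^ a := le_trans (by norm_num) (Nat.pow_le_pow_right two_pos ha)
  have hco : p.Coprime 2 := (Nat.coprime_primes hp.out Nat.prime_two).mpr hp2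
  have hCN : C ≤ N := centralizer_le_normalizer' _
  -- the `2`-part `K` of `C`
  have T : Sylow 2 C := default
  have hT : Nat.card (T : Subgroup C) = 2 ^ a :=
    card_sylow_eq T (k := a) (m := p) (by rw [hC, mul_comm]) (fun h => hp2 ((Nat.prime_dvd_prime_iff_eq Nat.prime_two hp.out).mp h).symm)
  set K := (T : Subgroup C).map C.subtype with hKdef
  have hK : Nat.card K = 2 ^ a := by
    rw [hKdef, ← hT]
    exact (Nat.card_congr ((T : Subgroup C).equivMapOfInjective C.subtype
      C.subtype_injective).toEquiv).symm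
  have hKC : K ≤ C := map_subtype_le _
  have hTnormal : (T : Subgroup C).Normal := by
    refine normalizer_eq_top_iff.mp (Subgroup.eq_top_of_card_eq _ ?_)
    have h1 := card_dvd_of_le (le_normalizer (H := (T : Subgroup C)))
    rw [hT] at h1
    have hsub : (P : Subgroup G).subgroupOf C ≤ normalizer ((T : Subgroup C) : Set C) := by
      intro z hz
      refine centralizer_le_normalizer' _ (mem_centralizer_iff.mpr fun w _ => Subtype.ext ?_)
      exact (mem_centralizer_iff.mp w.2 z.1 (mem_subgroupOf.mp hz)).symm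
    have h2 := card_dvd_of_le hsub
    rw [Nat.card_congr (subgroupOfEquivOfLe (le_centralizer_of_prime hP)).toEquiv, hP] at h2
    refine Nat.dvd_antisymm (card_subgroup_dvd_card _) ?_
    rw [hC]
    exact (hco.pow_right a).mul_dvd_of_dvd_of_dvd h2 h1
  haveI := hTnormal
  have hTidx : (T : Subgroup C).index = p := by
    have h := (T : Subgroup C).card_mul_index
    rw [hT, hC, mul_comm p] at h
    exact Nat.eq_of_mul_eq_mul_left (by positivity) h
  -- `K` is normal in `N`
  have hconjK : ∀ g ∈ N, ∀ z ∈ K, g * z * g⁻¹ ∈ K := by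
    rintro g hg _ ⟨z, hz, rfl⟩
    have hzC : (z : G) ∈ C := z.2
    have hmem : g * (z : G) * g⁻¹ ∈ C := by
      refine mem_centralizer_iff.mpr fun y hy => ?_
      have hy' : g⁻¹ * y * g ∈ (P : Subgroup G) := by
        have := (mem_normalizer_iff.mp (N.inv_mem hg) y).mp hy
        simpa using this
      have h := mem_centralizer_iff.mp hzC _ hy'
      calc y * (g * (z : G) * g⁻¹) = g * ((g⁻¹ * y * g) * (z : G)) * g⁻¹ := by group
        _ = g * ((z : G) * (g⁻¹ * y * g)) * g⁻¹ := by rw [h]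
        _ = g * (z : G) * g⁻¹ * y := by group
    refine ⟨⟨_, hmem⟩, ?_, rfl⟩
    show (⟨g * (z : G) * g⁻¹, hmem⟩ : C) ∈ (T : Subgroup C)
    set z' : C := ⟨g * (z : G) * g⁻¹, hmem⟩
    have hord : orderOf z' ∣ 2 ^ a := by
      rw [← Subgroup.orderOf_coe]
      show orderOf (g * (z : G) * g⁻¹) ∣ 2 ^ a
      rw [← MulAut.conj_apply, MulEquiv.orderOf_eq, Subgroup.orderOf_coe, ← hT]
      exact (T : Subgroup C).orderOf_dvd_natCard hz
    have h7 : z' ^ p ∈ (T : Subgroup C) := hTidx ▸ Subgroup.pow_index_mem _ z'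
    obtain ⟨j, hj⟩ := exists_pow_eq_self_of_coprime (n := p) (x := z')
      ((hco.pow_right a).coprime_dvd_right hord)
    rw [← hj]
    exact pow_mem h7 j
  -- another point fixed by `K`
  have hNt : N ≠ ⊤ := normalizer_sylow_ne_top hG (hP ▸ card_subgroup_dvd_card (P : Subgroup G)) P
  have hX : Nat.card (G ⧸ N) = Nat.card (Sylow p G) :=
    (index_eq_card N).symm.trans P.card_eq_index_normalizer.symm
  have hbase : (QuotientGroup.mk 1 : G ⧸ N) ∈ MulAction.fixedPoints K (G ⧸ N) := by
    intro z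
    show QuotientGroup.mk ((z : G) * 1) = QuotientGroup.mk 1
    rw [QuotientGroup.eq, mul_one, mul_one]
    exact N.inv_mem (hCN (hKC z.2))
  obtain ⟨q, hq, hqne⟩ := (IsPGroup.of_card (p := 2) hK).exists_fixed_point_of_prime_dvd_card_of_fixed_point
    (G ⧸ N) (by rw [hX]; exact hn) hbase
  obtain ⟨g, rfl⟩ := QuotientGroup.mk_surjective q
  have hgN : g ∉ N := fun h => hqne ((QuotientGroup.eq).mpr (by simpa using h))
  set K1 := K.map (MulAut.conj g⁻¹).toMonoidHom with hK1def
  have hK1 : Nat.card K1 = 2 ^ a := by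
    rw [← hK]
    exact (Nat.card_congr (K.equivMapOfInjective _ (MulAut.conj g⁻¹).injective).toEquiv).symm
  have hK1N : K1 ≤ N := by
    rintro _ ⟨z, hz, rfl⟩
    show g⁻¹ * z * g⁻¹⁻¹ ∈ N
    have h : QuotientGroup.mk (z * g) = (QuotientGroup.mk g : G ⧸ N) := hq ⟨z, hz⟩
    rw [QuotientGroup.eq] at h
    have h' := N.inv_mem h
    simpa [mul_assoc] using h'
  have hKN : K ≤ N := hKC.trans hCN
  have hKnormal : (K.subgroupOf N).Normal :=
    ⟨fun z hz w => hconjK w.1 w.2 z.1 hz⟩
  have hr : K.relIndex K1 ∣ 2 := by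
    have h1 : K.relIndex K1 ∣ 2 ^ a := by
      have := (K.subgroupOf K1).index_dvd_card
      rwa [hK1] at this
    have h2 : K.relIndex K1 ∣ e * p := by
      have h3 := relIndex_dvd_index_of_normal (K.subgroupOf N) (K1.subgroupOf N)
      rw [relIndex_subgroupOf hK1N] at h3
      refine h3.trans (dvd_of_eq ?_)
      have h4 := (K.subgroupOf N).card_mul_index
      rw [Nat.card_congr (subgroupOfEquivOfLe hKN).toEquiv, hK, hN] at h4
      refine Nat.eq_of_mul_eq_mul_left (show 0 < 2 ^ a by positivity) ?_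
      rw [h4]; ring
    exact (Nat.dvd_gcd h1 h2).trans he
  have hr' : K1.relIndex K = K.relIndex K1 := by
    have h1 := (K1.subgroupOf K).card_mul_index
    have h2 := (K.subgroupOf K1).card_mul_index
    have e : Nat.card (K1.subgroupOf K) = Nat.card (K.subgroupOf K1) :=
      Nat.card_congr ⟨fun z => ⟨⟨z.1.1, z.2⟩, z.1.2⟩, fun z => ⟨⟨z.1.1, z.2⟩, z.1.2⟩,
        fun z => rfl, fun z => rfl⟩
    rw [hK, e] at h1
    rw [hK1] at h2
    exact Nat.eq_of_mul_eq_mul_left Nat.card_pos (h1.trans h2.symm)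
  set D := K1.subgroupOf K
  have hD2 : D.index ∣ 2 := by rw [← hr'] at hr; exact hr
  haveI : D.Normal := by
    rcases (Nat.dvd_prime Nat.prime_two).mp hD2 with h | h
    · rw [index_eq_one.mp h]; infer_instance
    · exact normal_of_index_eq_two h
  have hDne : D ≠ ⊥ := by
    intro e
    rw [e, index_bot, hK] at hD2
    have := Nat.le_of_dvd two_pos hD2
    omega
  obtain ⟨c, hcD, hcZ, hc1⟩ :=
    Critical.exists_center_mem (IsPGroup.of_card (p := 2) hK) hDne
  -- `C(c)` contains `C` and a conjugate of `P`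
  set H := centralizer ({(c : G)} : Set G) with hHdef
  have hPH : (P : Subgroup G) ≤ H := fun y hy =>
    mem_centralizer_singleton_iff.mpr (mem_centralizer_iff.mp (hKC c.2) y hy)
  have hCH : C ≤ H := by
    intro w hw
    -- `C` is generated by `P` and `K`
    have hsup : (P : Subgroup G) ⊔ K = C := by
      refine Subgroup.eq_of_le_of_card_ge (sup_le (le_centralizer_of_prime hP) hKC) ?_
      have d1 := card_dvd_of_le (le_sup_left : (P : Subgroup G) ≤ (P : Subgroup G) ⊔ K)
      have d2 := card_dvd_of_le (le_sup_right : K ≤ (P : Subgroup G) ⊔ K)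
      rw [hP] at d1
      rw [hK] at d2
      rw [hC]
      exact Nat.le_of_dvd Nat.card_pos ((hco.pow_right a).mul_dvd_of_dvd_of_dvd d1 d2)
    have hKH : K ≤ H := fun y hy => mem_centralizer_singleton_iff.mpr
      (congrArg Subtype.val (mem_center_iff.mp hcZ ⟨y, hy⟩))
    exact (sup_le hPH hKH) (hsup ▸ hw)
  obtain ⟨d, hd, hdc⟩ : (c : G) ∈ K1 := hcD
  have hdc' : g⁻¹ * d * g⁻¹⁻¹ = (c : G) := hdc
  refine ⟨(c : G), fun e' => hc1 (Subtype.ext e'), hCH, fun hle => ?_⟩
  have hP' : ∀ y ∈ (P : Subgroup G), g⁻¹ * y * g ∈ N := by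
    intro y hy
    refine hle (mem_centralizer_singleton_iff.mpr ?_)
    have h := mem_centralizer_iff.mp (hKC hd) y hy
    rw [← hdc', inv_inv]
    calc g⁻¹ * y * g * (g⁻¹ * d * g) = g⁻¹ * (y * d) * g := by group
      _ = g⁻¹ * (d * y) * g := by rw [h]
      _ = g⁻¹ * d * g * (g⁻¹ * y * g) := by group
  -- so the conjugate of `P` is `P`
  refine hgN ?_
  have h5 : g⁻¹ • P = P := by
    apply Sylow.ext
    have hle : ((g⁻¹ • P : Sylow p G) : Subgroup G) ≤ normalizer (P : Set G) := by
      intro z hz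
      change z ∈ MulAut.conj g⁻¹ • (P : Subgroup G) at hz
      rw [Subgroup.mem_pointwise_smul_iff_inv_smul_mem] at hz
      have h8 : z ∈ N := by simpa [mul_assoc] using hP' _ hz
      exact h8
    have h6 := (g⁻¹ • P).2.inf_normalizer_sylow P
    rw [inf_eq_left.mpr hle, eq_comm, inf_eq_left] at h6
    exact ((g⁻¹ • P).3 P.2 h6).symm
  have h7 := Sylow.smul_eq_iff_mem_normalizer.mp h5
  simpa using N.inv_mem h7

end Cfsg.Agent.Lib.SmallGroups
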