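/-
No simple group of order 1440 has 36 Sylow 5-subgroups.
-/
import Mathlib
import Cfsg.Agent.Lib.SmallGroups.Basic
import Cfsg.Agent.Lib.SmallGroups.PrimeSylow
import Cfsg.Agent.Lib.SmallGroups.Conj
import Cfsg.Agent.Lib.SmallGroups.ElemCentral
import Cfsg.Agent.Lib.SmallGroups.LargeCentralizer
import Cfsg.Agent.Lib.SmallGroups.SharedCentralizer
import Cfsg.Agent.Lib.SmallGroups.InvolutionParity

set_option autoImplicit false
set_option linter.style.haveILetI false

namespace Cfsg.Agent.Lib.SmallGroups.Order1440

open Subgroup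

variable {G : Type*} [Group G] [Finite G]

/-- A group of order `120` with six Sylow 5-subgroups has `C(P) < N(P)` or an element of order 15. -/
theorem exists_commute_of_card_120 {H : Subgroup G} (hH : Nat.card H = 120) [Fact (Nat.Prime 5)]
    (P : Sylow 5 H) (hP : Nat.card (P : Subgroup H) = 5)
    (hN : normalizer ((P : Subgroup H) : Set H) ≤ centralizer ((P : Subgroup H) : Set H)) :
    ∃ y u : G, orderOf y = 3 ∧ orderOf u = 5 ∧ y * u = u * y := by
  haveI : Fact (Nat.Prime 3) := ⟨Nat.prime_three⟩
  have hc := MonoidHom.ker_transferSylow_isComplement' P hN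
  set M := (MonoidHom.transferSylow P hN).ker
  have hM : Nat.card M = 24 := by
    have h := hc.card_mul_card
    rw [hP, hH] at h
    omega
  have R : Sylow 3 M := default
  have hR : Nat.card (R : Subgroup M) = 3 :=
    (card_sylow_eq R (k := 1) (m := 8) (by rw [hM]; norm_num) (by norm_num)).trans (pow_one 3)
  have hR4 : Nat.card (Sylow 3 M) ≤ 4 := by
    have h1 : Nat.card (Sylow 3 M) ∈ (Nat.divisors 8).filter (fun d => d % 3 = 1) := by
      refine Finset.mem_filter.mpr ⟨Nat.mem_divisors.mpr ⟨card_sylow_dvd (p := 3) (k := 1) (m := 8)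
        (by rw [hM]; norm_num) (by norm_num), by norm_num⟩, ?_⟩
      have := card_sylow_modEq_one 3 M
      exact this
    rw [show (Nat.divisors 8).filter (fun d => d % 3 = 1) = {1, 4} from by decide +kernel] at h1
    simp only [Finset.mem_insert, Finset.mem_singleton] at h1
    omega
  have Q : Sylow 3 H := default
  have hQ : Nat.card (Q : Subgroup H) = 3 :=
    (card_sylow_eq Q (k := 1) (m := 40) (by rw [hH]; norm_num) (by norm_num)).trans (pow_one 3)
  -- all elements of order 3 are in `M`
  have hmem : ∀ z : H, orderOf z = 3 → z ∈ M := by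
    intro z hz
    refine MonoidHom.mem_ker.mpr ?_
    have h1 : orderOf (MonoidHom.transferSylow P hN z) ∣ 3 :=
      (orderOf_map_dvd _ z).trans (dvd_of_eq hz)
    have h2 : orderOf (MonoidHom.transferSylow P hN z) ∣ 5 := (_root_.orderOf_dvd_natCard _).trans (dvd_of_eq hP)
    exact orderOf_eq_one_iff.mp
      (Nat.eq_one_of_dvd_coprimes (by norm_num : Nat.Coprime 3 5) h1 h2)
  have hn : Nat.card (Sylow 3 H) ≤ 4 := by
    have h1 : Nat.card {z : H // orderOf z = 3} ≤ Nat.card {z : M // orderOf z = 3} :=
      Nat.card_le_card_of_injective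
        (fun z => ⟨⟨z.1, hmem z.1 z.2⟩, by rw [Subgroup.orderOf_mk]; exact z.2⟩)
        fun a b h => Subtype.ext (congrArg (fun w => (w.1.1 : H)) h)
    rw [card_orderOf_eq_prime Q hQ, card_orderOf_eq_prime R hR] at h1
    omega
  -- `P` fixes a Sylow 3-subgroup
  obtain ⟨S, hS⟩ : (MulAction.fixedPoints (P : Subgroup H) (Sylow 3 H)).Nonempty := by
    refine P.2.nonempty_fixed_point_of_prime_not_dvd_card _ fun h5 => ?_
    have := Nat.le_of_dvd Nat.card_pos h5
    omega
  have hSc : Nat.card (S : Subgroup H) = 3 :=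
    (Nat.card_congr (Sylow.equiv S Q).toEquiv).trans hQ
  obtain ⟨e, he, hcard⟩ := exists_card_normalizer_eq hSc
  have h5 : 5 ∣ Nat.card (normalizer ((S : Subgroup H) : Set H)) := by
    rw [← hP]
    exact card_dvd_of_le fun u hu => Sylow.smul_eq_iff_mem_normalizer.mp (hS ⟨u, hu⟩)
  rw [hcard] at h5
  have h5C : 5 ∣ Nat.card (centralizer ((S : Subgroup H) : Set H)) := by
    refine (Nat.Prime.dvd_mul (by norm_num)).mp h5 |>.resolve_left fun h => ?_
    have := Nat.le_of_dvd two_pos (h.trans he)
    omega
  obtain ⟨⟨u, hu⟩, hu5⟩ := exists_prime_orderOf_dvd_card'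
    (G := centralizer ((S : Subgroup H) : Set H)) 5 h5C
  obtain ⟨⟨y, hy⟩, hy3⟩ := exists_prime_orderOf_dvd_card' (G := (S : Subgroup H)) 3
    (dvd_of_eq hSc.symm)
  refine ⟨y.1, u.1, by rw [Subgroup.orderOf_coe]; rwa [Subgroup.orderOf_mk] at hy3,
    by rw [Subgroup.orderOf_coe]; rwa [Subgroup.orderOf_mk] at hu5, ?_⟩
  exact congrArg Subtype.val (mem_centralizer_iff.mp hu y hy)

variable [IsSimpleGroup G] [Fact (Nat.Prime 5)]

theorem not_thirty_six (h : Nat.card G = 1440) (P : Sylow 5 G)
    (hn : Nat.card (Sylow 5 G) = 36) : False := by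
  haveI : Fact (Nat.Prime 2) := ⟨Nat.prime_two⟩
  have hG : ¬ IsMulCommutative G := not_isMulCommutative_of_not_prime (by rw [h]; norm_num)
  have hP : Nat.card (P : Subgroup G) = 5 :=
    (card_sylow_eq P (k := 1) (m := 288) (by rw [h]; norm_num) (by norm_num)).trans (pow_one 5)
  set N := normalizer ((P : Subgroup G) : Set G) with hNdef
  set C := centralizer ((P : Subgroup G) : Set G) with hCdef
  have hCN : C ≤ N := centralizer_le_normalizer' _
  have hN : Nat.card N = 40 := by
    have h1 := card_normalizer_sylow_mul P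
    rw [hn, h, ← hNdef] at h1
    omega
  obtain ⟨e, he, he1, ⟨m, hm⟩, hcard⟩ := exists_card_normalizer_eq_of_simple hG P hP
  rw [← hNdef, hN, hm] at hcard
  rw [← hCdef] at hm
  have he' : e = 2 ∨ e = 4 := by
    have hmem : e ∈ Nat.divisors 4 := Nat.mem_divisors.mpr ⟨he, by norm_num⟩
    rw [show Nat.divisors 4 = {1, 2, 4} from by decide +kernel] at hmem
    simp only [Finset.mem_insert, Finset.mem_singleton] at hmem
    omega
  have hidx : ∀ H : Subgroup G, H ≠ ⊤ → H.index ∈ [2, 3, 4, 5, 6] → False := by
    intro H hH hi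
    obtain ⟨h1, h2⟩ := card_centralizer_dvd_of_index_lt P hP hH
      (by simp only [List.mem_cons, List.not_mem_nil, or_false] at hi; omega)
    rw [← hCdef, hm] at h2
    simp only [List.mem_cons, List.not_mem_nil, or_false] at hi
    have h5 : H.index = 5 ∨ H.index = 6 := by omega
    rcases h5 with h5 | h5 <;> rw [h5] at h2 <;>
      have h3 := Nat.le_of_dvd (by norm_num [Nat.factorial]) h2 <;>
      norm_num [Nat.factorial] at h3 <;> rcases he' with rfl | rfl <;> omega
  rcases he' with rfl | rfl
  · -- `|C(P)| = 20`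
    have hC : Nat.card C = 20 := by omega
    obtain ⟨c, hc1, hCH, hHN⟩ := exists_centralizer_not_le_normalizer (by norm_num) hG P hP
      (a := 2) (e := 2) le_rfl (by rw [hn]; norm_num) (by rw [← hCdef, hC]; norm_num)
      (by rw [← hNdef, hN]; norm_num) (by decide)
    set H := centralizer ({c} : Set G)
    have hHt : H ≠ ⊤ := centralizer_ne_top hG hc1
    obtain ⟨n, k, hn5, hHc, hdvd, hCk, hkN, hone⟩ := sylow_data_of_centralizer_le P hP hCH
    rw [← hNdef, hN] at hkN
    rw [← hCdef, hC] at hCk
    rw [h] at hdvd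
    have hmul := H.index_mul_card
    rw [hHc, h] at hmul
    have hne1 : H.index ≠ 1 := fun e => hHt (index_eq_one.mp e)
    have hk : k = 20 ∨ k = 40 := by
      obtain ⟨j, rfl⟩ := hCk
      have hj : j ∣ 2 := Nat.dvd_of_mul_dvd_mul_left (by norm_num) (show 20 * j ∣ 20 * 2 from hkN)
      rcases (Nat.dvd_prime Nat.prime_two).mp hj with rfl | rfl <;> omega
    have hnd : n ∈ (Nat.divisors 72).filter (fun d => d % 5 = 1) :=
      Finset.mem_filter.mpr ⟨Nat.mem_divisors.mpr
        ⟨Nat.dvd_of_mul_dvd_mul_right (k := 20) (by norm_num)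
          ((Nat.mul_dvd_mul_left n hCk).trans hdvd), by norm_num⟩, hn5⟩
    rw [show (Nat.divisors 72).filter (fun d => d % 5 = 1) = {1, 6, 36} from by decide +kernel]
      at hnd
    simp only [Finset.mem_insert, Finset.mem_singleton] at hnd
    have h120 : Nat.card H = 120 := by
      rcases hnd with rfl | rfl | rfl
      · exact absurd (hone rfl) hHN
      · rcases hk with rfl | rfl
        · omega
        · exfalso
          refine hidx H hHt ?_
          simp only [List.mem_cons, List.not_mem_nil, or_false]
          omega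
      · exfalso
        refine hidx H hHt ?_
        simp only [List.mem_cons, List.not_mem_nil, or_false]
        rcases hk with rfl | rfl <;> omega
    have hPH : (P : Subgroup G) ≤ H := (le_centralizer_of_prime hP).trans hCH
    set P' := P.subtype hPH
    have hP' : Nat.card (P' : Subgroup H) = 5 := by
      rw [show (P' : Subgroup H) = (P : Subgroup G).subgroupOf H from Sylow.coe_subtype ..,
        Nat.card_congr (subgroupOfEquivOfLe hPH).toEquiv, hP]
    have hCle : C.subgroupOf H ≤ centralizer ((P' : Subgroup H) : Set H) := by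
      intro a ha
      refine mem_centralizer_iff.mpr fun b hb => Subtype.ext ?_
      exact mem_centralizer_iff.mp (mem_subgroupOf.mp ha) b.1 hb
    have hmul' := card_normalizer_sylow_mul P'
    rw [h120] at hmul'
    have h20 := card_dvd_of_le (hCle.trans (centralizer_le_normalizer' _))
    rw [Nat.card_congr (subgroupOfEquivOfLe hCH).toEquiv, hC] at h20
    have hne6 : Nat.card (Sylow 5 H) ≠ 1 := by
      intro h1
      refine hHN ?_
      haveI : Subsingleton (Sylow 5 H) := (Nat.card_eq_one_iff_unique.mp h1).1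
      have htop := normalizer_eq_top_iff.mpr P'.normal_of_subsingleton
      rw [Sylow.coe_subtype, ← subgroupOf_normalizer_eq hPH, subgroupOf_eq_top] at htop
      exact htop
    have hmod := card_sylow_modEq_one 5 H
    rw [Nat.ModEq] at hmod
    obtain ⟨j, hj⟩ := h20
    rw [hj] at hmul'
    have h6 : j * Nat.card (Sylow 5 H) = 6 := by nlinarith
    have hj1 : j = 1 := by
      have hd : Nat.card (Sylow 5 H) ∈ Nat.divisors 6 :=
        Nat.mem_divisors.mpr ⟨⟨j, by rw [← h6]; ring⟩, by norm_num⟩
      rw [show Nat.divisors 6 = {1, 2, 3, 6} from by decide +kernel] at hd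
      simp only [Finset.mem_insert, Finset.mem_singleton] at hd
      rcases hd with h' | h' | h' | h' <;> rw [h'] at h6 hne6 hmod <;> omega
    rw [hj1, mul_one] at hj
    obtain ⟨y, u, hy, hu, hyu⟩ := exists_commute_of_card_120 h120 P' hP' (by
      rw [← Subgroup.eq_of_le_of_card_ge (hCle.trans (centralizer_le_normalizer' _))
        (by rw [hj, Nat.card_congr (subgroupOfEquivOfLe hCH).toEquiv, hC])]
      exact hCle)
    have hyC : y ∈ centralizer ({u} : Set G) := mem_centralizer_singleton_iff.mpr hyu
    have h3 := orderOf_dvd_natCard (⟨y, hyC⟩ : centralizer ({u} : Set G))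
    rw [Subgroup.orderOf_mk, hy, card_centralizer_of_orderOf P hP hu, ← hCdef, hC] at h3
    norm_num at h3
  · -- `|C(P)| = 10`
    have hC : Nat.card C = 10 := by omega
    obtain ⟨⟨c, hcC⟩, hc⟩ := exists_prime_orderOf_dvd_card' (G := C) 2 (by rw [hC]; norm_num)
    rw [Subgroup.orderOf_mk] at hc
    obtain ⟨⟨x, hxP⟩, hx⟩ := exists_prime_orderOf_dvd_card' (G := (P : Subgroup G)) 5
      (dvd_of_eq hP.symm)
    rw [Subgroup.orderOf_mk] at hx
    have hx1 : x ≠ 1 := by rintro rfl; rw [orderOf_one] at hx; norm_num at hx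
    have hxC : C = centralizer ({x} : Set G) := (centralizer_eq_of_prime hP hxP hx1).symm
    -- `c` is the only involution of `C`
    have huniq : ∀ t ∈ C, t ^ 2 = 1 → t = 1 ∨ t = c := by
      intro t ht ht2
      by_contra hne
      push Not at hne
      have ht' : orderOf t = 2 := orderOf_eq_prime ht2 hne.1
      have hx' : x ∈ C := le_centralizer_of_prime hP hxP
      have T : Sylow 2 C := default
      have hT : Nat.card (T : Subgroup C) = 2 :=
        (card_sylow_eq T (k := 1) (m := 5) (by rw [hC]; norm_num) (by norm_num)).trans (pow_one 2)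
      have hnorm : (P : Subgroup G).subgroupOf C ≤ normalizer ((T : Subgroup C) : Set C) := by
        intro z hz
        refine centralizer_le_normalizer' _ (mem_centralizer_iff.mpr fun w _ => Subtype.ext ?_)
        exact (mem_centralizer_iff.mp w.2 z.1 (mem_subgroupOf.mp hz)).symm
      have h5 := card_dvd_of_le hnorm
      rw [Nat.card_congr (subgroupOfEquivOfLe (le_centralizer_of_prime hP)).toEquiv, hP] at h5
      have hmulT := card_normalizer_sylow_mul T
      rw [hC] at hmulT
      have hT1 := card_sylow_modEq_one 2 C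
      rw [Nat.ModEq] at hT1
      obtain ⟨j, hj⟩ := h5
      rw [hj] at hmulT
      have hn1 : Nat.card (Sylow 2 C) = 1 := by
        have h2' : j * Nat.card (Sylow 2 C) = 2 := by linarith
        rcases (Nat.dvd_prime Nat.prime_two).mp (Dvd.intro_left j h2') with h' | h'
        · exact h'
        · rw [h'] at hT1; norm_num at hT1
      haveI : Subsingleton (Sylow 2 C) := (Nat.card_eq_one_iff_unique.mp hn1).1
      have hz : ∀ z : C, orderOf (z : G) = 2 → zpowers z = (T : Subgroup C) := by
        intro z hz
        rw [Subgroup.orderOf_coe] at hz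
        obtain ⟨S, hS, -⟩ := existsUnique_sylow_of_orderOf T hT hz
        rw [← hS, Subsingleton.elim S T]
      have e := (hz ⟨t, ht⟩ ht').trans (hz ⟨c, hcC⟩ hc).symm
      have hmem : (⟨t, ht⟩ : C) ∈ zpowers (⟨c, hcC⟩ : C) := e ▸ mem_zpowers _
      obtain ⟨i, hi⟩ := mem_zpowers_iff.mp hmem
      have hi' : c ^ i = t := congrArg Subtype.val hi
      rw [← zpow_mod_orderOf, hc] at hi'
      rcases Int.emod_two_eq i with e2 | e2 <;>
        rw [show ((2 : ℕ) : ℤ) = 2 from rfl, e2] at hi'
      · exact hne.1 (by rw [← hi', zpow_zero])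
      · exact hne.2 (by rw [← hi', zpow_one])
    have hcN : N ≤ centralizer ({c} : Set G) := by
      intro g hg
      have hmem : g * c * g⁻¹ ∈ C := by
        refine mem_centralizer_iff.mpr fun u hu => ?_
        have hu' : g⁻¹ * u * g ∈ (P : Subgroup G) := by
          have := (mem_normalizer_iff.mp (N.inv_mem hg) u).mp hu
          simpa using this
        have h1 := mem_centralizer_iff.mp hcC _ hu'
        calc u * (g * c * g⁻¹) = g * ((g⁻¹ * u * g) * c) * g⁻¹ := by group
          _ = g * (c * (g⁻¹ * u * g)) * g⁻¹ := by rw [h1]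
          _ = g * c * g⁻¹ * u := by group
      have hc2 : c ^ 2 = 1 := orderOf_dvd_iff_pow_eq_one.mp (dvd_of_eq hc)
      rcases huniq _ hmem (by rw [conj_pow, hc2, mul_one, mul_inv_cancel]) with h1 | h1
      · rw [mul_inv_eq_one, mul_eq_left] at h1
        rw [h1, orderOf_one] at hc
        norm_num at hc
      · exact mem_centralizer_singleton_iff.mpr (mul_inv_eq_iff_eq_mul.mp h1)
    have hc1 : c ≠ 1 := by rintro rfl; rw [orderOf_one] at hc; norm_num at hc
    have hCc : centralizer ({c} : Set G) = N := by
      set H := centralizer ({c} : Set G)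
      have hHt : H ≠ ⊤ := centralizer_ne_top hG hc1
      have hrel := relIndex_mul_index hcN
      have hidx' : N.index = 36 := P.card_eq_index_normalizer.symm.trans hn
      have hmod : N.relIndex H % 5 = 1 := relIndex_mod_of_normalizer_le P hcN
      rw [hidx'] at hrel
      have hne1 : H.index ≠ 1 := fun e => hHt (index_eq_one.mp e)
      have hd : N.relIndex H ∈ Nat.divisors 36 :=
        Nat.mem_divisors.mpr ⟨⟨_, hrel.symm⟩, by norm_num⟩
      rw [show Nat.divisors 36 = {1, 2, 3, 4, 6, 9, 12, 18, 36} from by decide +kernel] at hd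
      simp only [Finset.mem_insert, Finset.mem_singleton] at hd
      refine le_antisymm (relIndex_eq_one.mp ?_) hcN
      rcases hd with h' | h' | h' | h' | h' | h' | h' | h' | h' <;>
        rw [h'] at hmod hrel <;> try norm_num at hmod
      · exact h'
      · exfalso
        refine hidx H hHt ?_
        simp only [List.mem_cons, List.not_mem_nil, or_false]
        omega
      all_goals omega
    have hclass : Nat.card {g : G // IsConj c g} = 36 := by
      have h1 := card_isConj_mul_card_centralizer c
      rw [hCc, hN, h] at h1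
      omega
    have hX : Nat.card (G ⧸ N) = 36 :=
      (index_eq_card N).symm.trans (P.card_eq_index_normalizer.symm.trans hn)
    have hfix := card_fixedBy_mul_card_conj N c
    rw [hclass, index_eq_card, hX] at hfix
    have hpar := card_fixedBy_mod_four hG (X := G ⧸ N) hc
    rw [hX] at hpar
    -- `P`-invariance
    have hmod5 : Nat.card (MulAction.fixedBy (G ⧸ N) c) % 5 = 1 := by
      letI act : MulAction (P : Subgroup G) (MulAction.fixedBy (G ⧸ N) c) :=
        { smul := fun u a => ⟨(u : G) • a.1, by
            show c • (u : G) • a.1 = (u : G) • a.1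
            rw [smul_smul, (mem_centralizer_iff.mp hcC u u.2).symm, mul_smul, a.2]⟩
          one_smul := fun a => Subtype.ext (one_smul G a.1)
          mul_smul := fun u v a => Subtype.ext (mul_smul (u : G) (v : G) a.1) }
      have h1 := P.2.card_modEq_card_fixedPoints (MulAction.fixedBy (G ⧸ N) c)
      have h2 : Nat.card (MulAction.fixedPoints (P : Subgroup G) (MulAction.fixedBy (G ⧸ N) c)) = 1 := by
        obtain ⟨q, hq, hq'⟩ := fixedPoints_normalizer_coset P P
        have hqc : c • q = q := by
          refine hq' _ fun u hu => ?_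
          rw [smul_smul, mem_centralizer_iff.mp hcC u hu, mul_smul, hq u hu]
        rw [Nat.card_eq_one_iff_unique]
        refine ⟨⟨fun a b => Subtype.ext (Subtype.ext ?_)⟩, ⟨⟨q, hqc⟩, fun u => Subtype.ext (hq u.1 u.2)⟩⟩
        exact (hq' a.1.1 fun u hu => congrArg Subtype.val (a.2 ⟨u, hu⟩)).trans
          (hq' b.1.1 fun u hu => congrArg Subtype.val (b.2 ⟨u, hu⟩)).symm
      rw [h2, Nat.ModEq] at h1
      omega
    -- few involutions in `N`
    have hle : Nat.card {g : G // IsConj c g ∧ g ∈ N} ≤ 12 := by
      classical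
      have hinv : ∀ t ∈ N, t ^ 2 = 1 → t ∉ C → t * x * t⁻¹ = x⁻¹ := by
        intro t htN ht2 htC
        obtain ⟨j, hj⟩ := mem_zpowers_iff.mp
          (show t * x * t⁻¹ ∈ zpowers x by
            rw [zpowers_eq_of_prime hP hxP hx1]; exact (mem_normalizer_iff.mp htN x).mp hxP)
        have h1 : t * (t * x * t⁻¹) * t⁻¹ = x := by
          calc t * (t * x * t⁻¹) * t⁻¹ = t ^ 2 * x * (t ^ 2)⁻¹ := by rw [pow_two]; group
            _ = x := by rw [ht2, one_mul, inv_one, mul_one]
        rw [← hj, ← conj_zpow, ← hj, ← zpow_mul] at h1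
        have h2 : x ^ (j * j - 1) = 1 := by rw [zpow_sub_one, h1, mul_inv_cancel]
        have h3 := orderOf_dvd_iff_zpow_eq_one.mpr h2
        rw [hx] at h3
        have h4 : (5 : ℤ) ∣ (j - 1) * (j + 1) := by
          rw [show (j - 1) * (j + 1) = j * j - 1 by ring]; exact_mod_cast h3
        rcases (Int.prime_iff_natAbs_prime.mpr (by norm_num : Nat.Prime (5 : ℤ).natAbs)).dvd_mul.mp h4
          with h5 | h5
        · exfalso
          refine htC ?_
          rw [hxC, mem_centralizer_singleton_iff]
          have h6 : x ^ (j - 1) = 1 := orderOf_dvd_iff_zpow_eq_one.mp (by rw [hx]; exact_mod_cast h5)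
          rw [zpow_sub_one, mul_inv_eq_one] at h6
          rw [h6] at hj
          exact (mul_inv_eq_iff_eq_mul.mp hj.symm)
        · have h6 : x ^ (j + 1) = 1 := orderOf_dvd_iff_zpow_eq_one.mp (by rw [hx]; exact_mod_cast h5)
          rw [zpow_add_one] at h6
          rw [← hj]
          exact eq_inv_of_mul_eq_one_left h6
      by_cases hex : ∃ t₀ : G, t₀ ∈ N ∧ t₀ ^ 2 = 1 ∧ t₀ ∉ C
      · obtain ⟨t₀, h0N, h02, h0C⟩ := hex
        have hsq : ∀ g : {g : G // IsConj c g ∧ g ∈ N}, g.1 ^ 2 = 1 := by
          rintro ⟨g, hg, -⟩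
          obtain ⟨k, rfl⟩ := isConj_iff.mp hg
          rw [conj_pow, orderOf_dvd_iff_pow_eq_one.mp (dvd_of_eq hc), mul_one, mul_inv_cancel]
        let f : {g : G // IsConj c g ∧ g ∈ N} → Option C := fun g =>
          if hg : g.1 ∈ C then none else some ⟨t₀⁻¹ * g.1, by
            rw [hxC, mem_centralizer_singleton_iff]
            have a := hinv g.1 g.2.2 (hsq g) hg
            have b := hinv t₀ h0N h02 h0C
            calc t₀⁻¹ * g.1 * x = t₀⁻¹ * (g.1 * x * g.1⁻¹) * g.1 := by group
              _ = t₀⁻¹ * (t₀ * x * t₀⁻¹) * g.1 := by rw [a, b]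
              _ = x * (t₀⁻¹ * g.1) := by group⟩
        have hf : Function.Injective f := by
          intro a b hab
          simp only [f] at hab
          split_ifs at hab with ha hb hb
          · have h1 := (huniq _ ha (hsq a)).resolve_left fun e => hc1 (isConj_one_left.mp (e ▸ a.2.1))
            have h2 := (huniq _ hb (hsq b)).resolve_left fun e => hc1 (isConj_one_left.mp (e ▸ b.2.1))
            exact Subtype.ext (h1.trans h2.symm)
          · exact Subtype.ext (mul_left_cancel (congrArg Subtype.val (Option.some.inj hab)))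
        have := Nat.card_le_card_of_injective f hf
        rw [Finite.card_option, hC] at this
        omega
      · push Not at hex
        refine le_trans (Nat.card_le_card_of_injective
          (fun g : {g : G // IsConj c g ∧ g ∈ N} => (⟨g.1, hex g.1 g.2.2 ?_⟩ : C))
          fun a b hab => Subtype.ext (congrArg Subtype.val hab :)) (by rw [hC]; norm_num)
        obtain ⟨k, hk⟩ := isConj_iff.mp g.2.1
        rw [← hk, conj_pow, orderOf_dvd_iff_pow_eq_one.mp (dvd_of_eq hc), mul_one, mul_inv_cancel]
    omega

end Cfsg.Agent.Lib.SmallGroups.Order1440
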