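/-
Normalizers of four-groups and maximal subgroups of a simple group of order 168.
-/
import Mathlib
import Cfsg.Agent.Lib.SmallGroups.Order168Klein
import Cfsg.Agent.S1012

set_option autoImplicit false
set_option linter.style.haveILetI false
set_option linter.unusedSectionVars false

namespace Cfsg.Agent.Lib.SmallGroups.Order168

open Subgroup
open scoped Pointwise

variable {G : Type*} [Group G] [Finite G] [IsSimpleGroup G]

theorem no_order_six (h : Nat.card G = 168) (H : Subgroup G) (g : H) : orderOf g ≠ 6 := by
  rw [← Subgroup.orderOf_coe]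
  rcases orders h g.1 with e | e | e | e | e <;> rw [e] <;> norm_num

theorem symm_four_of_card (h : Nat.card G = 168) {H : Subgroup G} (hH : Nat.card H = 24) :
    Nonempty (↥H ≃* Equiv.Perm (Fin 4)) :=
  Cfsg.Agent.S1012.result hH (no_order_six h H)

theorem exists_klein_sylow (h : Nat.card G = 168) [Fact (Nat.Prime 2)] {U : Subgroup G}
    (hU : IsKleinFour ↥U) : ∃ T : Sylow 2 G, U ≤ (T : Subgroup G) :=
  (IsPGroup.of_card (p := 2) (n := 2) (by rw [hU.card_four]; norm_num)).exists_le_sylow

theorem index_normalizer_klein_mem (h : Nat.card G = 168) {U : Subgroup G} (hU : IsKleinFour ↥U) :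
    (normalizer (U : Set G)).index = 7 ∨ (normalizer (U : Set G)).index = 21 := by
  haveI : Fact (Nat.Prime 2) := ⟨Nat.prime_two⟩
  obtain ⟨T, hT⟩ := exists_klein_sylow h hU
  have hTN := (klein_in_sylow h T).2 U hT hU
  have h1 := index_dvd_of_le hTN
  have hTi : (T : Subgroup G).index = 21 := by
    have := (T : Subgroup G).card_mul_index
    rw [card_sylow_two_subgroup h T, h] at this
    omega
  rw [hTi] at h1
  have hne : normalizer (U : Set G) ≠ ⊤ := by
    refine normalizer_ne_top ?_ ?_
    · intro e
      have := hU.card_four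
      rw [e, card_bot] at this
      norm_num at this
    · intro e
      have := hU.card_four
      rw [e, card_top, h] at this
      norm_num at this
  have h2 := two_mul_card_dvd_factorial (nonabelian h) hne
  rw [h] at h2
  have h3 : (normalizer (U : Set G)).index ∈ Nat.divisors 21 := Nat.mem_divisors.mpr ⟨h1, by norm_num⟩
  rw [show Nat.divisors 21 = {1, 3, 7, 21} by decide +kernel] at h3
  simp only [Finset.mem_insert, Finset.mem_singleton] at h3
  rcases h3 with e | e | e | e
  · exact absurd (index_eq_one.mp e) hne
  · rw [e] at h2; norm_num [Nat.factorial] at h2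
  · exact Or.inl e
  · exact Or.inr e

/-- The conjugates of a four-group, as a type, are the cosets of its normalizer. -/
theorem card_conjugates (U : Subgroup G) :
    Nat.card {W : Subgroup G // ∃ g : G, U.map (MulAut.conj g).toMonoidHom = W} =
      (normalizer (U : Set G)).index := by
  let f : G ⧸ normalizer (U : Set G) →
      {W : Subgroup G // ∃ g : G, U.map (MulAut.conj g).toMonoidHom = W} :=
    Quotient.lift (fun g => ⟨U.map (MulAut.conj g).toMonoidHom, g, rfl⟩) fun a b hab => by
      have hab := QuotientGroup.leftRel_apply.mp hab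
      refine Subtype.ext (Subgroup.ext fun x => ?_)
      simp only [Subgroup.mem_map_equiv, MulAut.conj_symm_apply]
      rw [mem_normalizer_iff.mp hab (b⁻¹ * x * b)]
      constructor <;> intro H <;> convert H using 1 <;> group
  rw [index_eq_card]
  refine (Nat.card_congr (Equiv.ofBijective f ⟨?_, ?_⟩)).symm
  · intro p q
    induction p using QuotientGroup.induction_on with
    | H a =>
      induction q using QuotientGroup.induction_on with
      | H b =>
        intro hab
        have e : U.map (MulAut.conj a).toMonoidHom = U.map (MulAut.conj b).toMonoidHom :=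
          congrArg Subtype.val hab
        rw [QuotientGroup.eq, mem_normalizer_iff]
        intro x
        have := Subgroup.ext_iff.mp e (b * x * b⁻¹)
        simp only [Subgroup.mem_map_equiv, MulAut.conj_symm_apply] at this
        constructor
        · intro hx
          have h1 : b⁻¹ * (b * x * b⁻¹) * b = x := by group
          have h2 := this.mpr (by rw [h1]; exact hx)
          convert h2 using 1; group
        · intro hx
          have h1 : a⁻¹ * (b * x * b⁻¹) * a = a⁻¹ * b * x * (a⁻¹ * b)⁻¹ := by group
          have h2 := this.mp (by rw [h1]; exact hx)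
          convert h2 using 1; group
  · rintro ⟨W, g, rfl⟩
    exact ⟨QuotientGroup.mk g, rfl⟩

omit [IsSimpleGroup G] in
theorem klein_map {U : Subgroup G} (hU : IsKleinFour ↥U) (g : G) :
    IsKleinFour ↥(U.map (MulAut.conj g).toMonoidHom) := by
  have e := Subgroup.equivMapOfInjective U (MulAut.conj g).toMonoidHom (MulAut.conj g).injective
  exact ⟨by rw [← Nat.card_congr e.toEquiv, hU.card_four],
    by rw [← Monoid.exponent_eq_of_mulEquiv e, hU.exponent_two]⟩

/-- There are exactly two classes of four-groups, of seven groups each. -/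
theorem klein_classes (h : Nat.card G = 168) [Fact (Nat.Prime 2)] :
    ∃ U₁ U₂ : Subgroup G, IsKleinFour ↥U₁ ∧ IsKleinFour ↥U₂ ∧
      (∀ g : G, U₁.map (MulAut.conj g).toMonoidHom ≠ U₂) ∧
      ∀ U : Subgroup G, IsKleinFour ↥U → (normalizer (U : Set G)).index = 7 ∧
        ∃ g : G, U₁.map (MulAut.conj g).toMonoidHom = U ∨
          U₂.map (MulAut.conj g).toMonoidHom = U := by
  classical
  have T : Sylow 2 G := default
  obtain ⟨hcard, -⟩ := klein_in_sylow h T
  obtain ⟨⟨U₁, h1T, h1K⟩, ⟨U₂, h2T, h2K⟩, hne, -⟩ := Nat.card_eq_two_iff.mp hcard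
  have hne' : U₁ ≠ U₂ := fun e => hne (Subtype.ext e)
  have hnc := klein_not_conj h T h1T h2T h1K h2K hne'
  let A := {W : Subgroup G // ∃ g : G, U₁.map (MulAut.conj g).toMonoidHom = W}
  let B := {W : Subgroup G // ∃ g : G, U₂.map (MulAut.conj g).toMonoidHom = W}
  let f : A ⊕ B → {U : Subgroup G // IsKleinFour ↥U} := Sum.elim
    (fun W => ⟨W.1, by obtain ⟨g, hg⟩ := W.2; exact hg ▸ klein_map h1K g⟩)
    (fun W => ⟨W.1, by obtain ⟨g, hg⟩ := W.2; exact hg ▸ klein_map h2K g⟩)
  have hdisj : ∀ (x : A) (y : B), x.1 ≠ y.1 := by
    rintro ⟨X, g, rfl⟩ ⟨Y, k, rfl⟩ e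
    apply hnc (k⁻¹ * g)
    change U₁.map (MulAut.conj g).toMonoidHom = U₂.map (MulAut.conj k).toMonoidHom at e
    refine Subgroup.ext fun x => ?_
    have := Subgroup.ext_iff.mp e (k * x * k⁻¹)
    simp only [Subgroup.mem_map_equiv, MulAut.conj_symm_apply] at this ⊢
    have e1 : (k⁻¹ * g)⁻¹ * x * (k⁻¹ * g) = g⁻¹ * (k * x * k⁻¹) * g := by group
    have e2 : k⁻¹ * (k * x * k⁻¹) * k = x := by group
    rw [e1, this, e2]
  have hf : Function.Injective f := by
    rintro (x | x) (y | y) e <;> have e' := congrArg Subtype.val e
    · exact congrArg Sum.inl (Subtype.ext e')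
    · exact absurd e' (hdisj x y)
    · exact absurd e'.symm (hdisj y x)
    · exact congrArg Sum.inr (Subtype.ext e')
  have hle := Nat.card_le_card_of_injective f hf
  rw [Nat.card_sum, card_conjugates, card_conjugates, card_klein h] at hle
  have m1 := index_normalizer_klein_mem h h1K
  have m2 := index_normalizer_klein_mem h h2K
  have i1 : (normalizer (U₁ : Set G)).index = 7 := by omega
  have i2 : (normalizer (U₂ : Set G)).index = 7 := by omega
  have hbij : Function.Bijective f := (Nat.bijective_iff_injective_and_card f).mpr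
    ⟨hf, by rw [Nat.card_sum, card_conjugates, card_conjugates, card_klein h, i1, i2]⟩
  refine ⟨U₁, U₂, h1K, h2K, hnc, fun U hU => ?_⟩
  obtain ⟨s, hs⟩ := hbij.2 ⟨U, hU⟩
  have hidx : ∀ (V : Subgroup G) (g : G), V.map (MulAut.conj g).toMonoidHom = U →
      (normalizer (U : Set G)).index = (normalizer (V : Set G)).index := by
    rintro V g rfl
    rw [← card_conjugates, ← card_conjugates]
    refine Nat.card_congr (Equiv.subtypeEquivRight fun W => ⟨?_, ?_⟩) <;> rintro ⟨k, rfl⟩
    · refine ⟨k * g, ?_⟩
      rw [Subgroup.map_map]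
      congr 1
      ext x
      show (k * g) * x * (k * g)⁻¹ = k * (g * x * g⁻¹) * k⁻¹
      group
    · refine ⟨k * g⁻¹, ?_⟩
      rw [Subgroup.map_map]
      congr 1
      ext x
      show (k * g⁻¹) * (g * x * g⁻¹) * (k * g⁻¹)⁻¹ = k * x * k⁻¹
      group
  rcases s with ⟨W, g, hg⟩ | ⟨W, g, hg⟩
  · have e : W = U := congrArg Subtype.val hs
    subst e
    exact ⟨(hidx U₁ g hg).trans i1, g, Or.inl hg⟩
  · have e : W = U := congrArg Subtype.val hs
    subst e
    exact ⟨(hidx U₂ g hg).trans i2, g, Or.inr hg⟩

theorem card_normalizer_klein (h : Nat.card G = 168) {U : Subgroup G} (hU : IsKleinFour ↥U) :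
    Nat.card (normalizer (U : Set G)) = 24 := by
  haveI : Fact (Nat.Prime 2) := ⟨Nat.prime_two⟩
  obtain ⟨_, _, _, _, _, hall⟩ := klein_classes h
  have h1 := (normalizer (U : Set G)).card_mul_index
  rw [(hall U hU).1, h] at h1
  omega

/-- A maximal subgroup is the normalizer of a Sylow 7-subgroup or of a four-group. -/
theorem maximal_cases (h : Nat.card G = 168) [Fact (Nat.Prime 7)] {M : Subgroup G} (hM : IsCoatom M) :
    (∃ P : Sylow 7 G, M = normalizer ((P : Subgroup G) : Set G)) ∨
    (∃ U : Subgroup G, IsKleinFour ↥U ∧ M = normalizer (U : Set G)) := by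
  classical
  haveI : Fact (Nat.Prime 2) := ⟨Nat.prime_two⟩
  haveI : Fact (Nat.Prime 3) := ⟨Nat.prime_three⟩
  have hG := nonabelian h
  have hidx := two_mul_card_dvd_factorial hG hM.1
  rw [h] at hidx
  have hdvd : M.index ∣ 168 := h ▸ M.index_dvd_card
  have hmul := M.card_mul_index
  rw [h] at hmul
  have hge : 7 ≤ M.index := by
    by_contra hlt
    push Not at hlt
    interval_cases hk : M.index <;> norm_num [Nat.factorial] at hidx
  have hMle : Nat.card M ≤ 24 := by
    by_contra hlt
    push Not at hlt
    nlinarith
  have hup : ∀ K : Subgroup G, M ≤ K → K ≠ ⊤ → M = K := fun K hle hK => by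
    by_contra hne
    exact hK (hM.2 K (lt_of_le_of_ne hle hne))
  have hkl : ∀ U : Subgroup G, IsKleinFour ↥U → M ≤ normalizer (U : Set G) →
      ∃ U : Subgroup G, IsKleinFour ↥U ∧ M = normalizer (U : Set G) := fun U hU hle =>
    ⟨U, hU, hup _ hle fun e => by
      have := card_normalizer_klein h hU
      rw [e, card_top, h] at this
      norm_num at this⟩
  by_cases h7 : 7 ∣ Nat.card M
  · left
    obtain ⟨⟨x, hxM⟩, hx⟩ := exists_prime_orderOf_dvd_card' 7 h7
    rw [orderOf_mk] at hx
    have hMc : Nat.card M = 7 ^ 1 * (Nat.card M / 7) := by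
      rw [pow_one, Nat.mul_div_cancel' h7]
    have hn : Nat.card (Sylow 7 M) = 1 := by
      have hpos : 0 < Nat.card M := Nat.card_pos
      have h1 := card_sylow_dvd hMc (by omega)
      have h2 := card_sylow_modEq_one 7 M
      have h3 := Nat.le_of_dvd (by omega) h1
      have h4 : 0 < Nat.card (Sylow 7 M) := Nat.card_pos
      rw [Nat.ModEq] at h2
      omega
    obtain ⟨P, hP⟩ := (IsPGroup.of_card (p := 7) (n := 1)
      (by rw [Nat.card_zpowers, hx, pow_one]) : IsPGroup 7 (zpowers x)).exists_le_sylow
    have hPM : (P : Subgroup G) ≤ M := by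
      rw [← zpowers_eq_of_prime (sylow_seven_data h P).1 (hP (mem_zpowers x))
        (fun e => by rw [e, orderOf_one] at hx; norm_num at hx)]
      exact zpowers_le.mpr hxM
    refine ⟨P, hup _ ?_ (normalizer_sylow_ne_top hG (by rw [h]; norm_num) P)⟩
    haveI : Subsingleton (Sylow 7 M) := (Nat.card_eq_one_iff_unique.mp hn).1
    exact (normal_subgroupOf_iff_le_normalizer hPM).mp (P.subtype hPM).normal_of_subsingleton
  · right
    have hM24 : Nat.card M ∣ 24 := by
      refine Nat.Coprime.dvd_of_dvd_mul_right
        (((by norm_num : Nat.Prime 7).coprime_iff_not_dvd.mpr h7).symm) ?_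
      rw [show (24 : ℕ) * 7 = 168 by norm_num, ← h]
      exact card_subgroup_dvd_card M
    have h24 : Nat.card M ∈ Nat.divisors 24 := Nat.mem_divisors.mpr ⟨hM24, by norm_num⟩
    rw [show Nat.divisors 24 = {1, 2, 3, 4, 6, 8, 12, 24} by decide +kernel] at h24
    simp only [Finset.mem_insert, Finset.mem_singleton] at h24
    have htwo : ∀ k, Nat.card M = 2 ^ k → ∃ U : Subgroup G, IsKleinFour ↥U ∧ M = normalizer (U : Set G) := by
      intro k hk
      obtain ⟨T, hT⟩ := (IsPGroup.of_card (p := 2) hk).exists_le_sylow
      obtain ⟨⟨U, hUT, hU⟩⟩ : Nonempty {U : Subgroup G // U ≤ (T : Subgroup G) ∧ IsKleinFour ↥U} :=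
        (Nat.card_pos_iff.mp (by rw [(klein_in_sylow h T).1]; norm_num)).1
      exact hkl U hU (hT.trans ((klein_in_sylow h T).2 U hUT hU))
    -- the normalizer of a Sylow 3-subgroup lies in some normalizer of a four-group
    have hthree : ∀ P : Sylow 3 G, ∃ U : Subgroup G, IsKleinFour ↥U ∧
        normalizer ((P : Subgroup G) : Set G) ≤ normalizer (U : Set G) := by
      intro P
      obtain ⟨U, _, hU, _, _, _⟩ := klein_classes h
      set N := normalizer (U : Set G) with hN
      have hNc := card_normalizer_klein h hU
      have Q : Sylow 3 N := default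
      have hQ : Nat.card (Q : Subgroup N) = 3 := by
        rw [card_sylow_eq Q (k := 1) (m := 8) (by rw [hNc]; norm_num) (by norm_num), pow_one]
      obtain ⟨P', hP'⟩ := (Q.2.map N.subtype).exists_le_sylow
      have hP'eq : (Q : Subgroup N).map N.subtype = P' :=
        Subgroup.eq_of_le_of_card_ge hP' (by
          rw [(sylow_three_data h P').1, Subgroup.card_map_of_injective N.subtype_injective, hQ])
      have hn4 : Nat.card (Sylow 3 N) ≤ 4 := by
        have h1 := card_sylow_dvd (p := 3) (G := N) (k := 1) (m := 8) (by rw [hNc]; norm_num) (by norm_num)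
        have h2 := card_sylow_modEq_one 3 N
        have h3 := Nat.le_of_dvd (by norm_num) h1
        rw [Nat.ModEq] at h2
        interval_cases hk : Nat.card (Sylow 3 N) <;> norm_num at *
      have hNQ := card_normalizer_sylow_mul Q
      rw [hNc] at hNQ
      have h6 : 6 ≤ Nat.card (normalizer ((Q : Subgroup N) : Set N)) := by nlinarith
      have hsub : normalizer ((P' : Subgroup G) : Set G) ≤ N := by
        have hmap : (normalizer ((Q : Subgroup N) : Set N)).map N.subtype ≤
            normalizer ((P' : Subgroup G) : Set G) := by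
          rw [← hP'eq]
          rintro y ⟨n, hn, rfl⟩
          rw [mem_normalizer_iff]
          intro z
          constructor
          · rintro ⟨q, hq, rfl⟩
            exact ⟨n * q * n⁻¹, (mem_normalizer_iff.mp hn q).mp hq, rfl⟩
          · rintro ⟨q, hq, e⟩
            refine ⟨n⁻¹ * q * n, (mem_normalizer_iff.mp hn _).mpr ?_, ?_⟩
            · rw [show n * (n⁻¹ * q * n) * n⁻¹ = q by group]
              exact hq
            · simp only [Subgroup.coe_subtype, Subgroup.coe_mul, Subgroup.coe_inv] at e ⊢
              rw [e]; group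
        have he := Subgroup.eq_of_le_of_card_ge hmap (by
          rw [Subgroup.card_map_of_injective N.subtype_injective, (sylow_three_data h P').2.1]
          exact h6)
        exact he ▸ map_subtype_le _
      obtain ⟨g, hg⟩ := MulAction.exists_smul_eq G P' P
      refine ⟨U.map (MulAut.conj g).toMonoidHom, klein_map hU g, fun x hx => ?_⟩
      subst hg
      have hx' : (g⁻¹ * x * g) ∈ normalizer ((P' : Subgroup G) : Set G) := by
        refine Sylow.smul_eq_iff_mem_normalizer.mp ?_
        rw [mul_smul, mul_smul, Sylow.smul_eq_iff_mem_normalizer.mpr hx, inv_smul_smul]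
      rw [mem_normalizer_iff]
      intro u
      have := mem_normalizer_iff.mp (hsub hx') (g⁻¹ * u * g)
      simp only [Subgroup.mem_map_equiv, MulAut.conj_symm_apply]
      rw [this]
      constructor <;> intro H <;> convert H using 1 <;> group
    have hP3 : ∀ (Q : Sylow 3 M), Nat.card (Q : Subgroup M) = 3 → Nat.card (Sylow 3 M) = 1 →
        ∃ U : Subgroup G, IsKleinFour ↥U ∧ M = normalizer (U : Set G) := by
      intro Q hQ hn
      haveI : Subsingleton (Sylow 3 M) := (Nat.card_eq_one_iff_unique.mp hn).1
      obtain ⟨P, hP⟩ := (Q.2.map M.subtype).exists_le_sylow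
      have hPeq : (Q : Subgroup M).map M.subtype = P :=
        Subgroup.eq_of_le_of_card_ge hP (by
          rw [(sylow_three_data h P).1, Subgroup.card_map_of_injective M.subtype_injective, hQ])
      obtain ⟨U, hU, hle⟩ := hthree P
      refine hkl U hU (le_trans ?_ hle)
      have hPM : (P : Subgroup G) ≤ M := hPeq ▸ map_subtype_le _
      exact (normal_subgroupOf_iff_le_normalizer hPM).mp (P.subtype hPM).normal_of_subsingleton
    rcases h24 with e | e | e | e | e | e | e | e
    · exact htwo 0 (e.trans (by norm_num))
    · exact htwo 1 (e.trans (by norm_num))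
    · have Q : Sylow 3 M := default
      refine hP3 Q ?_ ?_
      · rw [card_sylow_eq Q (k := 1) (m := 1) (by rw [e]; norm_num) (by norm_num), pow_one]
      · exact Nat.dvd_one.mp (card_sylow_dvd (p := 3) (G := M) (k := 1) (m := 1) (by rw [e]; norm_num) (by norm_num))
    · exact htwo 2 (e.trans (by norm_num))
    · have Q : Sylow 3 M := default
      refine hP3 Q ?_ ?_
      · rw [card_sylow_eq Q (k := 1) (m := 2) (by rw [e]; norm_num) (by norm_num), pow_one]
      · have h1 := card_sylow_dvd (p := 3) (G := M) (k := 1) (m := 2) (by rw [e]; norm_num) (by norm_num)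
        have h2 := card_sylow_modEq_one 3 M
        rcases (Nat.dvd_prime Nat.prime_two).mp h1 with h3 | h3
        · exact h3
        · rw [h3] at h2
          exact absurd h2 (by decide)
    · exact htwo 3 (e.trans (by norm_num))
    · -- order 12: the Sylow 2-subgroup is normal
      have hc : Nat.card M = 3 ^ 1 * 4 := by rw [e]; norm_num
      have Q : Sylow 3 M := default
      have hQ : Nat.card (Q : Subgroup M) = 3 := by rw [card_sylow_eq Q hc (by norm_num), pow_one]
      have h1 := card_sylow_dvd hc (by norm_num)
      have h2 := card_sylow_modEq_one 3 M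
      have h3 := Nat.le_of_dvd (by norm_num) h1
      by_cases h4 : Nat.card (Sylow 3 M) = 1
      · exact hP3 Q hQ h4
      have h5 : Nat.card (Sylow 3 M) = 4 := by
        rw [Nat.ModEq] at h2
        interval_cases hk : Nat.card (Sylow 3 M) <;> norm_num at *
      have T : Sylow 2 M := default
      have hT : Nat.card (T : Subgroup M) = 4 := by
        rw [card_sylow_eq T (k := 2) (m := 3) (by rw [e]; norm_num) (by norm_num)]; norm_num
      -- every element outside the eight 3-elements lies in T
      have hcount := card_orderOf_eq_prime Q hQ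
      rw [h5] at hcount
      have hTnorm : (T : Subgroup M).Normal := by
        haveI : Subsingleton (Sylow 2 M) := by
          haveI := Fintype.ofFinite M
          let S : Finset M := Finset.univ.filter (fun m => orderOf m ≠ 3)
          have hS : S.card = 4 := by
            have := Finset.card_filter_add_card_filter_not
              (s := (Finset.univ : Finset M)) (fun m => orderOf m = 3)
            rw [← Fintype.card_subtype, ← Nat.card_eq_fintype_card, hcount, Finset.card_univ,
              ← Nat.card_eq_fintype_card, e] at this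
            show (Finset.univ.filter (fun m : M => ¬ orderOf m = 3)).card = 4
            omega
          have hall : ∀ T' : Sylow 2 M, ((T' : Subgroup M) : Set M) = (S : Set M) := by
            intro T'
            have hT' : Nat.card (T' : Subgroup M) = 4 :=
              (Nat.card_congr (Sylow.equiv T' T).toEquiv).trans hT
            refine Set.eq_of_subset_of_ncard_le ?_ ?_ (Set.toFinite _)
            · intro m hm
              simp only [S, Finset.coe_filter, Finset.mem_univ, true_and, Set.mem_setOf_eq]
              intro h3'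
              have hd := orderOf_dvd_natCard (⟨m, hm⟩ : (T' : Subgroup M))
              rw [orderOf_mk, h3', hT'] at hd
              norm_num at hd
            · rw [Set.ncard_coe_finset, hS, ← Nat.card_coe_set_eq]
              exact hT'.ge
          exact ⟨fun a b => Sylow.ext (SetLike.coe_injective ((hall a).trans (hall b).symm))⟩
        exact T.normal_of_subsingleton
      set U := (T : Subgroup M).map M.subtype
      have hUc : Nat.card U = 4 := by rw [Subgroup.card_map_of_injective M.subtype_injective, hT]
      have hUK : IsKleinFour ↥U := by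
        refine klein_of_card hUc fun u hu h4u => ?_
        -- an element of order 4 in U would commute with a 3-element
        obtain ⟨⟨y, hy⟩, hyo⟩ := exists_prime_orderOf_dvd_card' (G := M) 3 (by rw [e]; norm_num)
        rw [orderOf_mk] at hyo
        have hnorm' : y ∈ normalizer (U : Set G) := by
          rw [mem_normalizer_iff]
          intro z
          constructor
          · rintro ⟨t, ht, rfl⟩
            exact ⟨⟨y, hy⟩ * t * ⟨y, hy⟩⁻¹, hTnorm.conj_mem t ht _, rfl⟩
          · rintro ⟨t, ht, e'⟩
            refine ⟨⟨y, hy⟩⁻¹ * t * ⟨y, hy⟩, by have := hTnorm.conj_mem t ht (⟨y, hy⟩ : M)⁻¹; rwa [inv_inv] at this, ?_⟩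
            simp only [Subgroup.coe_subtype, Subgroup.coe_mul, Subgroup.coe_inv] at e' ⊢
            rw [e']; group
        have hcyc : zpowers u = U :=
          Subgroup.eq_of_le_of_card_ge (zpowers_le.mpr hu) (by rw [Nat.card_zpowers, h4u, hUc])
        haveI : IsCyclic U := hcyc ▸ inferInstanceAs (IsCyclic (zpowers u))
        have h5 := card_dvd_of_injective _ (QuotientGroup.kerLift_injective U.normalizerMonoidHom)
        rw [normalizerMonoidHom_ker, ← index, ← relIndex, IsCyclic.card_mulAut, hUc,
          show Nat.totient 4 = 2 by decide +kernel] at h5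
        have hy2 : y ^ 2 ∈ centralizer (U : Set G) := by
          have h6 : (⟨y, hnorm'⟩ : normalizer (U : Set G)) ^ 2 ∈
              (centralizer (U : Set G)).subgroupOf (normalizer (U : Set G)) := by
            haveI : ((centralizer (U : Set G)).subgroupOf (normalizer (U : Set G))).Normal := by
              rw [← normalizerMonoidHom_ker]; infer_instance
            obtain ⟨c, hc'⟩ := h5
            rcases (Nat.dvd_prime Nat.prime_two).mp (Dvd.intro c hc'.symm) with h7 | h7
            · rw [relIndex_eq_one] at h7
              exact pow_mem (mem_subgroupOf.mpr (h7 hnorm')) 2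
            · exact h7 ▸ Subgroup.pow_index_mem _ _
          exact h6
        have hyc : y ∈ centralizer (U : Set G) := by
          have e3 : y = (y ^ 2) ^ 2 := by
            rw [← pow_mul, ← pow_mod_orderOf y (2 * 2), hyo]; norm_num
          rw [e3]
          exact pow_mem hy2 2
        have h8 : y ∈ centralizer ({u} : Set G) :=
          mem_centralizer_singleton_iff.mpr (mem_centralizer_iff.mp hyc u hu).symm
        have h9 := card_dvd_of_le (zpowers_le.mpr h8)
        rw [Nat.card_zpowers, hyo, centralizer_four h h4u] at h9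
        norm_num at h9
      refine hkl U hUK ?_
      intro y hy
      rw [mem_normalizer_iff]
      intro z
      constructor
      · rintro ⟨t, ht, rfl⟩
        exact ⟨⟨y, hy⟩ * t * ⟨y, hy⟩⁻¹, hTnorm.conj_mem t ht _, rfl⟩
      · rintro ⟨t, ht, e'⟩
        refine ⟨⟨y, hy⟩⁻¹ * t * ⟨y, hy⟩, by have := hTnorm.conj_mem t ht (⟨y, hy⟩ : M)⁻¹; rwa [inv_inv] at this, ?_⟩
        simp only [Subgroup.coe_subtype, Subgroup.coe_mul, Subgroup.coe_inv] at e' ⊢
        rw [e']; group
    · -- order 24
      obtain ⟨φ⟩ := symm_four_of_card h e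
      set A := (alternatingGroup.kleinFour (Fin 4)).map (alternatingGroup (Fin 4)).subtype
      haveI hA4 : Nat.card (Fin 4) = 4 := by simp
      have hAK : IsKleinFour (alternatingGroup.kleinFour (Fin 4)) :=
        alternatingGroup.kleinFour_isKleinFour hA4
      let V : Subgroup M := A.comap φ.toMonoidHom
      have hVn : V.Normal := by
        haveI : A.Normal := by
          haveI := alternatingGroup.characteristic_kleinFour hA4
          exact ConjAct.normal_of_characteristic_of_normal
        exact Subgroup.Normal.comap inferInstance _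
      set U := V.map M.subtype with hUdef
      have hUK : IsKleinFour ↥U := by
        have e1 : (alternatingGroup.kleinFour (Fin 4)) ≃* A :=
          Subgroup.equivMapOfInjective _ _ (alternatingGroup (Fin 4)).subtype_injective
        have e2 : V ≃* A := φ.subgroupMap V |>.trans (MulEquiv.subgroupCongr
          (map_comap_eq_self_of_surjective φ.surjective A))
        have e3 : V ≃* U := Subgroup.equivMapOfInjective _ _ M.subtype_injective
        have e4 := e1.trans (e2.symm.trans e3)
        exact ⟨by rw [← Nat.card_congr e4.toEquiv, hAK.card_four],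
          by rw [← Monoid.exponent_eq_of_mulEquiv e4, hAK.exponent_two]⟩
      refine hkl U hUK ?_
      intro y hy
      rw [mem_normalizer_iff]
      intro z
      constructor
      · rintro ⟨t, ht, rfl⟩
        exact ⟨⟨y, hy⟩ * t * ⟨y, hy⟩⁻¹, hVn.conj_mem t ht _, rfl⟩
      · rintro ⟨t, ht, e'⟩
        refine ⟨⟨y, hy⟩⁻¹ * t * ⟨y, hy⟩, by have := hVn.conj_mem t ht (⟨y, hy⟩ : M)⁻¹; rwa [inv_inv] at this, ?_⟩
        simp only [Subgroup.coe_subtype, Subgroup.coe_mul, Subgroup.coe_inv] at e' ⊢
        rw [e']; group

theorem maximal_of_card (h : Nat.card G = 168) {H : Subgroup G}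
    (hH : Nat.card H = 21 ∨ Nat.card H = 24) : IsCoatom H := by
  have hne : H ≠ ⊤ := fun e => by rw [e, card_top, h] at hH; omega
  refine ⟨hne, fun K hK => ?_⟩
  by_contra hKt
  have h1 := two_mul_card_dvd_factorial (nonabelian h) hKt
  rw [h] at h1
  have h2 := K.card_mul_index
  rw [h] at h2
  have hd := card_dvd_of_le hK.le
  have hlt : Nat.card H < Nat.card K := by
    rcases lt_or_ge (Nat.card H) (Nat.card K) with hl | hl
    · exact hl
    · exact absurd (Subgroup.eq_of_le_of_card_ge hK.le hl) hK.ne
  obtain ⟨c, hc⟩ := hd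
  have hc2 : 2 ≤ c := by nlinarith
  have hidx : K.index ≤ 4 := by
    by_contra hlt'
    push Not at hlt'
    rcases hH with e | e <;> rw [e] at hc <;> nlinarith
  interval_cases hk : K.index <;> norm_num [Nat.factorial] at h1

end Cfsg.Agent.Lib.SmallGroups.Order168
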